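import Groth.Agent.Lib.Helper22.EtLoc.Deg0
import Groth.Agent.Lib.Helper25.DeltaFEff

set_option autoImplicit false

universe u

open CategoryTheory CategoryTheory.Limits Opposite AlgebraicGeometry Abelian

namespace Groth.Agent.Lib.Helper22.EtLoc

open Groth.Agent.Lib.Helper22.CechEdge

variable {X Y Y' : Scheme.{u}}

/-- Two morphisms of δ-functors out of `H^•(X, -)` agreeing in degree zero agree. -/
lemma TX_hom_ext {T' : DeltaF.CohDeltaFunctor (EtCoh.Ab X) AddCommGrpCat.{u + 1} ℕ}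
    (σ₁ σ₂ : TX X ⟶ T') (h : σ₁.app 0 = σ₂.app 0) : σ₁ = σ₂ := by
  obtain ⟨τ, -, hτ⟩ := Groth.Agent.Lib.Helper25.DeltaFEff.isUniversal (TX_isEffaceable X) T'
    (σ₂.app 0)
  exact (hτ σ₁ h).trans (hτ σ₂ rfl).symm

/-- `HpullVia f t f₀ ∘ Hpull t = Hpull f₀` in all degrees. -/
theorem HpullVia_Hpull (f : Y' ⟶ Y) (t : Y ⟶ X) (f₀ : Y' ⟶ X) (w : f ≫ t = f₀)
    [PreservesFiniteLimits (EtCoh.pull f)] [PreservesFiniteLimits (EtCoh.pull t)]
    [PreservesFiniteLimits (EtCoh.pull f₀)] (G : EtCoh.Ab X) (p : ℕ) (x : EtCoh.H X G p) :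
    EtCore.HpullVia f t f₀ w G p (EtCore.Hpull t G p x) = EtCore.Hpull f₀ G p x := by
  have h : HpullHom t ≫ HpullViaHom f t f₀ w = HpullHom f₀ := by
    apply TX_hom_ext
    ext G x
    exact HpullVia_Hpull_zero f t f₀ w G x
  have h2 := congrArg (fun σ : TX X ⟶ TD f₀ => (σ.app p).app G) h
  exact congrArg (fun ψ : ((TX X).F p).obj G ⟶ ((TD f₀).F p).obj G => ψ.hom x) h2


section UnivIso

variable {A : Type*} [Category A] [Abelian A] {B : Type*} [Category B] [Abelian B]
  {T T' : DeltaF.CohDeltaFunctor A B ℕ}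

/-- A morphism between universal δ-functors which is an isomorphism in degree zero is an
isomorphism in all degrees. -/
lemma isIso_app_of_isUniversal (hT : T.IsUniversal) (hT' : T'.IsUniversal) (σ : T ⟶ T')
    [IsIso (σ.app 0)] (n : ℕ) : IsIso (σ.app n) := by
  obtain ⟨τ, hτ, -⟩ := hT' T (inv (σ.app 0))
  have h1 : σ ≫ τ = 𝟙 T := by
    obtain ⟨ρ, -, hρ⟩ := hT T (𝟙 (T.F 0))
    have e1 : (σ ≫ τ).app 0 = 𝟙 (T.F 0) := by
      rw [DeltaF.CohDeltaFunctor.comp_app, hτ, IsIso.hom_inv_id]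
    exact (hρ _ e1).trans (hρ _ rfl).symm
  have h2 : τ ≫ σ = 𝟙 T' := by
    obtain ⟨ρ, -, hρ⟩ := hT' T' (𝟙 (T'.F 0))
    have e1 : (τ ≫ σ).app 0 = 𝟙 (T'.F 0) := by
      rw [DeltaF.CohDeltaFunctor.comp_app, hτ, IsIso.inv_hom_id]
    exact (hρ _ e1).trans (hρ _ rfl).symm
  refine ⟨τ.app n, ?_, ?_⟩
  · have := congrArg (fun ρ : T ⟶ T => ρ.app n) h1
    exact this
  · have := congrArg (fun ρ : T' ⟶ T' => ρ.app n) h2
    exact this

end UnivIso

section Iso

variable (j : Y ⟶ X) [IsIso j]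

/-- For an isomorphism `j`, the object `Y → X` of the small étale site of `X` is isomorphic to
the terminal object. -/
noncomputable def pjTopIsoOfIsIso : (pj j).obj (EtCoh.top Y) ≅ EtCoh.top X where
  hom := (EtCore.topIsTerminal X).from _
  inv :=
    let ij : X ⟶ Y := inv j
    MorphismProperty.Over.homMk ij
      (by change ij ≫ 𝟙 Y ≫ j = 𝟙 X; rw [Category.id_comp]; exact IsIso.inv_hom_id j) trivial
  hom_inv_id := by
    apply MorphismProperty.Over.Hom.ext
    let tl : Y ⟶ X := ((EtCore.topIsTerminal X).from ((pj j).obj (EtCoh.top Y))).left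
    have h : tl ≫ 𝟙 X = 𝟙 Y ≫ j :=
      Over.w ((EtCore.topIsTerminal X).from ((pj j).obj (EtCoh.top Y))).hom
    have h' : tl = j := by
      rw [← Category.comp_id tl, h, Category.id_comp]
    change tl ≫ inv j = 𝟙 Y
    rw [h']
    exact IsIso.hom_inv_id j
  inv_hom_id := (EtCore.topIsTerminal X).hom_ext _ _

lemma Hpull_zero_bijective_of_isIso (G : EtCoh.Ab X) :
    Function.Bijective (EtCore.Hpull j G 0) := by
  have h : ∀ x, σH j G (EtCore.Hpull j G 0 x) =
      G.obj.map (pjTopIsoOfIsIso j).hom.op (Sheaf.H.equiv₀ G (EtCore.topIsTerminal X) x) :=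
    fun x => σH_Hpull j G _ x
  have hb : Function.Bijective (fun x => G.obj.map (pjTopIsoOfIsIso j).hom.op
      (Sheaf.H.equiv₀ G (EtCore.topIsTerminal X) x)) := by
    have h1 : Function.Bijective (G.obj.map (pjTopIsoOfIsIso j).hom.op) :=
      ConcreteCategory.bijective_of_isIso _
    exact h1.comp (Sheaf.H.equiv₀ G (EtCore.topIsTerminal X)).bijective
  have hb' : Function.Bijective (fun x => σH j G (EtCore.Hpull j G 0 x)) := by
    convert hb using 1
    funext x
    exact h x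
  exact (Function.Bijective.of_comp_iff' (σH j G).bijective _).1 hb'

/-- Pullback along an isomorphism is bijective on cohomology. -/
theorem Hpull_bijective_of_isIso (G : EtCoh.Ab X) (p : ℕ) :
    Function.Bijective (EtCore.Hpull j G p) := by
  have h0 : IsIso ((HpullHom j).app 0) := by
    have : ∀ G, IsIso (((HpullHom j).app 0).app G) := fun G =>
      (ConcreteCategory.isIso_iff_bijective _).2 (Hpull_zero_bijective_of_isIso j G)
    exact NatIso.isIso_of_isIso_app _
  have h := isIso_app_of_isUniversal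
    (Groth.Agent.Lib.Helper25.DeltaFEff.isUniversal (TX_isEffaceable X))
    (Groth.Agent.Lib.Helper25.DeltaFEff.isUniversal (TD_isEffaceable j)) (HpullHom j) p
  have h' : IsIso (((HpullHom j).app p).app G) := inferInstance
  exact (ConcreteCategory.isIso_iff_bijective _).1 h'

end Iso

end Groth.Agent.Lib.Helper22.EtLoc
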