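import Groth.Agent.Lib.Helper22.EtLoc.Deg0
import Groth.Agent.Lib.Helper22.DimShiftIso
import Groth.Prelude.Def_EtLim

/-!
# `HofPush : H^p(Y, f_* F) → H^p(X, F)` and the degenerate Leray spectral sequence
-/

set_option autoImplicit false
set_option linter.unusedSectionVars false

universe u

open CategoryTheory CategoryTheory.Limits Opposite AlgebraicGeometry Abelian

namespace Groth.Agent.Lib.Helper22.EtLoc

open Groth.Agent.Lib.Helper22.DimShift

variable {X Y : Scheme.{u}} (f : X ⟶ Y) [PreservesFiniteLimits (EtCoh.pull f)]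

lemma HofPush_apply (F : EtCoh.Ab X) (n : ℕ) (x : EtCoh.H Y ((EtCoh.push f).obj F) n) :
    EtLim.HofPush f F n x =
      (EtCore.Hpull f ((EtCoh.push f).obj F) n x).comp
        (Ext.mk₀ ((EtCoh.pullPushAdj f).counit.app F)) (add_zero n) := rfl

lemma HofPush_naturality {F G : EtCoh.Ab X} (ψ : F ⟶ G) (n : ℕ)
    (x : Ext (EtCoh.const Y ℤ) ((EtCoh.push f).obj F) n) :
    EtLim.HofPush f G n (x.comp (Ext.mk₀ ((EtCoh.push f).map ψ)) (add_zero n)) =
      (EtLim.HofPush f F n x).comp (Ext.mk₀ ψ) (add_zero n) := by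
  rw [HofPush_apply, HofPush_apply, Hpull_naturality, Ext.comp_assoc_of_third_deg_zero,
    Ext.comp_assoc_of_third_deg_zero, Ext.mk₀_comp_mk₀, Ext.mk₀_comp_mk₀]
  congr 2
  exact (EtCoh.pullPushAdj f).counit.naturality ψ

/-- The counit as a morphism of short complexes. -/
noncomputable def counitSC (S : ShortComplex (EtCoh.Ab X)) :
    (S.map (EtCoh.push f)).map (EtCoh.pull f) ⟶ S :=
  ShortComplex.homMk ((EtCoh.pullPushAdj f).counit.app S.X₁)
    ((EtCoh.pullPushAdj f).counit.app S.X₂) ((EtCoh.pullPushAdj f).counit.app S.X₃)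
    ((EtCoh.pullPushAdj f).counit.naturality S.f).symm
    ((EtCoh.pullPushAdj f).counit.naturality S.g).symm

lemma HofPush_δ (S : ShortComplex (EtCoh.Ab X)) (hS : S.ShortExact)
    (hT : (S.map (EtCoh.push f)).ShortExact) (n₀ n₁ : ℕ) (h : n₀ + 1 = n₁)
    (x : Ext (EtCoh.const Y ℤ) ((EtCoh.push f).obj S.X₃) n₀) :
    EtLim.HofPush f S.X₁ n₁ (x.comp hT.extClass h) =
      (EtLim.HofPush f S.X₃ n₀ x).comp hS.extClass h := by
  refine (HofPush_apply f S.X₁ n₁ _).trans ?_
  refine Eq.trans ?_ (congrArg (fun z => Ext.comp z hS.extClass h)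
    (HofPush_apply f S.X₃ n₀ x)).symm
  refine (congrArg (fun z => Ext.comp z (Ext.mk₀ ((EtCoh.pullPushAdj f).counit.app S.X₁))
    (add_zero n₁)) (Hpull_δ f (S.map (EtCoh.push f)) hT n₀ n₁ h x)).trans ?_
  exact via_aux h _ _ _ _ _ (ShortComplex.ShortExact.extClass_naturality
    (hT.map_of_exact (EtCoh.pull f)) hS (counitSC f S))

lemma counit_aux {𝒞 : Type*} [Category 𝒞] {A B C D : 𝒞} (η : A ⟶ B) (m : B ⟶ C) (c : C ⟶ D)
    (c' : B ⟶ A) (m' : A ⟶ D) (h1 : m ≫ c = c' ≫ m') (h2 : η ≫ c' = 𝟙 A) :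
    (η ≫ m) ≫ c = m' := by
  rw [Category.assoc, h1, reassoc_of% h2]

/-- The identification `(f_* F)(Y) = F(X ×_Y Y) ≅ F(X)`. -/
noncomputable def pushSec (F : EtCoh.Ab X) :
    ((EtCoh.push f).obj F).obj.obj (op (EtCoh.top Y)) ⟶ F.obj.obj (op (EtCoh.top X)) :=
  F.obj.map (EtCore.bcTopIso f).inv.op

instance (F : EtCoh.Ab X) : IsIso (pushSec f F) :=
  inferInstanceAs (IsIso (F.obj.mapIso (EtCore.bcTopIso f).op.symm).hom)

lemma ps_counit (F : EtCoh.Ab X) :
    ps f ((EtCoh.push f).obj F) ≫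
      ((EtCoh.pullPushAdj f).counit.app F).hom.app (op (EtCoh.top X)) = pushSec f F := by
  have h2 := congrArg (fun ψ => ψ.hom.app (op (EtCoh.top Y)))
    ((EtCoh.pullPushAdj f).right_triangle_components F)
  exact counit_aux _ _ _ _ _
    (((EtCoh.pullPushAdj f).counit.app F).hom.naturality (EtCore.bcTopIso f).inv.op) h2

/-- In degree zero, `HofPush` is the identification `F(X ×_Y Y) ≅ F(X)`. -/
lemma equiv₀_HofPush (F : EtCoh.Ab X) (x : EtCoh.H Y ((EtCoh.push f).obj F) 0) :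
    Sheaf.H.equiv₀ F (EtCore.topIsTerminal X) (EtLim.HofPush f F 0 x) =
      pushSec f F (Sheaf.H.equiv₀ ((EtCoh.push f).obj F) (EtCore.topIsTerminal Y) x) := by
  have e1 : EtLim.HofPush f F 0 x =
      Sheaf.H.map ((EtCoh.pullPushAdj f).counit.app F) 0
        (EtCore.Hpull f ((EtCoh.push f).obj F) 0 x) := rfl
  rw [e1, ← Sheaf.H.equiv₀_naturality]
  refine (congrArg (fun z => ((EtCoh.pullPushAdj f).counit.app F).hom.app (op (EtCoh.top X)) z)
    (equiv₀_Hpull f ((EtCoh.push f).obj F) x)).trans ?_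
  exact congrArg (fun ψ => (ConcreteCategory.hom ψ)
    (Sheaf.H.equiv₀ ((EtCoh.push f).obj F) (EtCore.topIsTerminal Y) x)) (ps_counit f F)

lemma HofPush_zero_bijective (F : EtCoh.Ab X) : Function.Bijective (EtLim.HofPush f F 0) := by
  have hb : Function.Bijective (pushSec f F) := ConcreteCategory.bijective_of_isIso _
  have h : (Sheaf.H.equiv₀ F (EtCore.topIsTerminal X)) ∘ (EtLim.HofPush f F 0) =
      (pushSec f F) ∘ (Sheaf.H.equiv₀ ((EtCoh.push f).obj F) (EtCore.topIsTerminal Y)) := by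
    funext x
    exact equiv₀_HofPush f F x
  have h2 : Function.Bijective ((Sheaf.H.equiv₀ F (EtCore.topIsTerminal X)) ∘
      (EtLim.HofPush f F 0)) := by
    rw [h]
    exact hb.comp (Sheaf.H.equiv₀ _ (EtCore.topIsTerminal Y)).bijective
  exact (Function.Bijective.of_comp_iff' (Sheaf.H.equiv₀ F (EtCore.topIsTerminal X)).bijective
    _).1 h2

instance preservesFiniteLimits_push' : PreservesFiniteLimits (EtCoh.push f) :=
  have : PreservesLimitsOfSize.{0, 0} (EtCoh.push f) :=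
    (EtCoh.pullPushAdj f).rightAdjoint_preservesLimits
  PreservesLimitsOfSize.preservesFiniteLimits _

lemma injective_push (I : EtCoh.Ab X) [Injective I] : Injective ((EtCoh.push f).obj I) :=
  Injective.injective_of_adjoint (EtCoh.pullPushAdj f) I

lemma comp_comp_zero_aux {𝒜 : Type*} [Category 𝒜] [Abelian 𝒜] [HasExt.{u + 1} 𝒜] {Z A B C : 𝒜}
    {p : ℕ} (w : Ext Z A p) (g : A ⟶ B) (e : Ext B C 1)
    (h : (Ext.mk₀ g).comp e (zero_add 1) = 0) :
    (w.comp (Ext.mk₀ g) (add_zero p)).comp e rfl = 0 := by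
  rw [Ext.comp_assoc_of_second_deg_zero, h, Ext.comp_zero]

/-- The dimension shifting step. -/
lemma HofPush_bijective_step (S : ShortComplex (EtCoh.Ab X)) (hS : S.ShortExact)
    [Injective S.X₂] (hT : (S.map (EtCoh.push f)).ShortExact) (p : ℕ)
    (ihI : Function.Bijective (EtLim.HofPush f S.X₂ p))
    (ihQ : Function.Bijective (EtLim.HofPush f S.X₃ p)) :
    Function.Bijective (EtLim.HofPush f S.X₁ (p + 1)) := by
  have hinj : Injective ((EtCoh.push f).obj S.X₂) := injective_push f _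
  constructor
  · rw [injective_iff_map_eq_zero]
    intro x hx
    have h0 : x.comp (Ext.mk₀ ((EtCoh.push f).map S.f)) (add_zero (p + 1)) = 0 :=
      Ext.eq_zero_of_injective _
    obtain ⟨z', hz'⟩ := Ext.covariant_sequence_exact₁ _ hT x h0 rfl
    have h1 : (EtLim.HofPush f S.X₃ p z').comp hS.extClass rfl = 0 :=
      (HofPush_δ f S hS hT p (p + 1) rfl z').symm.trans
        ((congrArg (EtLim.HofPush f S.X₁ (p + 1)) hz').trans hx)
    obtain ⟨w, hw⟩ := Ext.covariant_sequence_exact₃ _ hS _ rfl h1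
    obtain ⟨w', hw'⟩ := ihI.2 w
    have h2 : EtLim.HofPush f S.X₃ p (w'.comp (Ext.mk₀ ((EtCoh.push f).map S.g)) (add_zero p)) =
        EtLim.HofPush f S.X₃ p z' :=
      (HofPush_naturality f S.g p w').trans (by rw [hw', hw])
    have h3 : w'.comp (Ext.mk₀ ((EtCoh.push f).map S.g)) (add_zero p) = z' := ihQ.1 h2
    have h4 : (Ext.mk₀ ((EtCoh.push f).map S.g)).comp hT.extClass (zero_add 1) = 0 :=
      hT.comp_extClass
    have h5 : (w'.comp (Ext.mk₀ ((EtCoh.push f).map S.g)) (add_zero p)).comp hT.extClass rfl = 0 :=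
      comp_comp_zero_aux w' _ _ h4
    exact hz'.symm.trans ((congrArg (fun z => Ext.comp z hT.extClass rfl) h3).symm.trans h5)
  · intro y
    have h0 : y.comp (Ext.mk₀ S.f) (add_zero (p + 1)) = 0 := Ext.eq_zero_of_injective _
    obtain ⟨z, hz⟩ := Ext.covariant_sequence_exact₁ _ hS y h0 rfl
    obtain ⟨z', hz'⟩ := ihQ.2 z
    refine ⟨z'.comp hT.extClass rfl, (HofPush_δ f S hS hT p (p + 1) rfl z').trans ?_⟩
    rw [hz', hz]

/-- **Degenerate Leray spectral sequence**: if `R^q f_* F = 0` for `q > 0` then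
`H^p(Y, f_* F) → H^p(X, F)` is bijective. -/
theorem HofPush_bijective (p : ℕ) : ∀ (F : EtCoh.Ab X),
    (∀ q : ℕ, 0 < q → IsZero ((EtCoh.Rpush f q).obj F)) →
      Function.Bijective (EtLim.HofPush f F p) := by
  induction p with
  | zero =>
    intro F _
    exact HofPush_zero_bijective f F
  | succ p ih =>
    intro F hF
    have hS : (injSC F).ShortExact := injSC_shortExact F
    have hepi : Epi ((EtCoh.push f).map (injSC F).g) := by
      have e := rightDerivedOneIso (EtCoh.push f) (injSC F) hS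
      exact Preadditive.epi_of_isZero_cokernel _ ((hF 1 Nat.one_pos).of_iso e.symm)
    have hT : ((injSC F).map (EtCoh.push f)).ShortExact := shortExact_map_of_epi' _ hS hepi
    have hI : ∀ q : ℕ, 0 < q → IsZero ((EtCoh.Rpush f q).obj (injSC F).X₂) := by
      intro q hq
      obtain ⟨q, rfl⟩ : ∃ k, q = k + 1 := ⟨q - 1, by omega⟩
      exact Functor.isZero_rightDerived_obj_injective_succ _ _ _
    have hQ : ∀ q : ℕ, 0 < q → IsZero ((EtCoh.Rpush f q).obj (injSC F).X₃) := by
      intro q hq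
      obtain ⟨q, rfl⟩ : ∃ k, q = k + 1 := ⟨q - 1, by omega⟩
      exact (hF (q + 2) (by omega)).of_iso
        (rightDerivedSuccSuccIso (EtCoh.push f) (injSC F) hS q).symm
    exact HofPush_bijective_step f (injSC F) hS hT p (ih _ hI) (ih _ hQ)

end Groth.Agent.Lib.Helper22.EtLoc
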