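import Groth.Agent.Lib.Helper22.EtLoc.Basic
import Groth.Agent.Lib.Helper22.DimShiftIso
import Groth.Agent.Lib.Helper22.CechU.Transfer
import Groth.Agent.S0665

/-!
# Čech-flasque étale sheaves are acyclic; restriction along an étale map preserves them
-/

set_option autoImplicit false

universe w v u

open CategoryTheory CategoryTheory.Limits Opposite AlgebraicGeometry Abelian

namespace Groth.Agent.Lib.Helper22.EtLoc

open Groth.Agent.Lib.Helper22.CechU.Etale Groth.Agent.Lib.Helper22.DimShift

section Abstract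

variable {𝒜 : Type u} [Category.{v} 𝒜] [Abelian 𝒜] [EnoughInjectives 𝒜] [HasExt.{w} 𝒜]

/-- Abstract acyclicity criterion: a class of objects stable under `F ↦ I(F)/F` on which `Hom(A, -)`
sends `I(F) → I(F)/F` to a surjection consists of `Ext^•(A, -)`-acyclic objects. -/
theorem ext_succ_eq_zero_of_class (A : 𝒜) (𝒞 : 𝒜 → Prop)
    (hsurj : ∀ F, 𝒞 F → ∀ x₃ : Ext A (injSC F).X₃ 0,
      ∃ x₂ : Ext A (injSC F).X₂ 0, x₂.comp (Ext.mk₀ (injSC F).g) (add_zero 0) = x₃)
    (hquot : ∀ F, 𝒞 F → 𝒞 (injSC F).X₃) (n : ℕ) :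
    ∀ F, 𝒞 F → ∀ x : Ext A F (n + 1), x = 0 := by
  induction n with
  | zero =>
    intro F hF x
    have hS := injSC_shortExact F
    have h0 : x.comp (Ext.mk₀ (injSC F).f) (add_zero 1) = 0 := Ext.eq_zero_of_injective _
    obtain ⟨x₃, hx₃⟩ := Ext.covariant_sequence_exact₁ _ hS x h0 (zero_add 1)
    obtain ⟨x₂, hx₂⟩ := hsurj F hF x₃
    rw [← hx₃, ← hx₂, Ext.comp_assoc_of_second_deg_zero, hS.comp_extClass, Ext.comp_zero]
  | succ n ih =>
    intro F hF x
    have hS := injSC_shortExact F
    have h0 : x.comp (Ext.mk₀ (injSC F).f) (add_zero (n + 1 + 1)) = 0 :=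
      Ext.eq_zero_of_injective _
    obtain ⟨x₃, hx₃⟩ := Ext.covariant_sequence_exact₁ _ hS x h0 (n₀ := n + 1) rfl
    rw [← hx₃, ih (injSC F).X₃ (hquot F hF) x₃, Ext.zero_comp]

end Abstract

variable {X Y : Scheme.{u}}

/-- Injective étale sheaves are Čech-flasque. -/
theorem cechFlasque_of_injective (I : EtCoh.Ab X) [Injective I] : CechFlasque I := by
  intro U ι Uf _ p hp
  obtain ⟨q, rfl⟩ : ∃ q, p = q + 1 := ⟨p - 1, by omega⟩
  have hI : Injective I.obj :=
    Injective.injective_of_adjoint
      (sheafificationAdjunction X.smallEtaleTopology AddCommGrpCat.{u + 1}) I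
  exact Groth.Agent.S0665.result Uf I.obj q

/-- Čech-flasque étale sheaves have no higher cohomology. -/
theorem H_succ_eq_zero_of_cechFlasque (F : EtCoh.Ab X) (hF : CechFlasque F) (n : ℕ)
    (x : EtCoh.H X F (n + 1)) : x = 0 := by
  refine ext_succ_eq_zero_of_class _ (fun G : EtCoh.Ab X => CechFlasque G) ?_ ?_ n F hF x
  · intro G hG x₃
    have hS := injSC_shortExact G
    obtain ⟨s, hs⟩ := surjective_of_cechFlasque (injSC G) hS hG (EtCoh.top X)
      (Sheaf.H.equiv₀ _ (EtCore.topIsTerminal X) x₃)
    refine ⟨(Sheaf.H.equiv₀ _ (EtCore.topIsTerminal X)).symm s, ?_⟩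
    have h := Sheaf.H.equiv₀_symm_naturality (hT := EtCore.topIsTerminal X) (injSC G).g s
    rw [hs, AddEquiv.symm_apply_apply] at h
    exact h
  · intro G hG
    exact cechFlasque_quot (injSC G) (injSC_shortExact G) hG (cechFlasque_of_injective _)

theorem subsingleton_H_succ_of_cechFlasque (F : EtCoh.Ab X) (hF : CechFlasque F) (n : ℕ) :
    Subsingleton (EtCoh.H X F (n + 1)) :=
  subsingleton_of_forall_eq 0 (H_succ_eq_zero_of_cechFlasque F hF n)

section Res

variable (j : Y ⟶ X) [hj : Etale j]

instance isConnected_withTerminal_discrete (J : Type*) :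
    IsConnected (WithTerminal (Discrete J)) :=
  isConnected_of_equivalent WithTerminal.widePullbackShapeEquiv

/-- The underlying scheme of an object of the small étale site. -/
noncomputable abbrev US (X : Scheme.{u}) : X.Etale ⥤ Scheme.{u} :=
  Scheme.Etale.forget X ⋙ Over.forget X

/-- `pj` does not change the underlying scheme. -/
noncomputable def pjUS : pj j ⋙ US X ≅ US Y := NatIso.ofComponents (fun _ => Iso.refl _) (by
  intro A B f
  exact (Category.comp_id _).trans (Category.id_comp _).symm)

instance preserves_pj (n : ℕ) :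
    PreservesLimitsOfShape (WithTerminal (Discrete (Fin n))) (pj j) := by
  have h0 : PreservesLimitsOfShape (WithTerminal (Discrete (Fin n))) (Scheme.Etale.forget Y) :=
    inferInstance
  have h0' : PreservesLimitsOfShape (WithTerminal (Discrete (Fin n))) (Over.forget Y) :=
    inferInstance
  have h1 : PreservesLimitsOfShape (WithTerminal (Discrete (Fin n))) (US Y) := inferInstance
  have h2 : PreservesLimitsOfShape (WithTerminal (Discrete (Fin n))) (pj j ⋙ US X) :=
    preservesLimitsOfShape_of_natIso (pjUS j).symm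
  have h3 : ReflectsLimitsOfShape (WithTerminal (Discrete (Fin n))) (US X) := inferInstance
  exact preservesLimitsOfShape_of_reflects_of_preserves (pj j) (US X)

instance preservesFiniteProducts_post_pj (A : Y.Etale) :
    PreservesFiniteProducts (Over.post (pj j) (X := A)) :=
  ⟨fun _ => inferInstance⟩

/-- Restriction along an étale morphism preserves Čech-flasque sheaves. -/
theorem cechFlasque_res (F : EtCoh.Ab X) (hF : CechFlasque F) : CechFlasque ((res j).obj F) := by
  intro A ι Uf hU p hp
  let G : Over A ⥤ Over ((pj j).obj A) := Over.post (pj j)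
  have h := hF ((pj j).obj A) ι (Groth.Agent.Lib.Helper22.CechU.GU G Uf) hU p hp
  let Q : (Over ((pj j).obj A))ᵒᵖ ⥤ AddCommGrpCat.{u + 1} :=
    (Over.forget ((pj j).obj A)).op ⋙ F.obj
  let α : G.op ⋙ Q ≅ (Over.forget A).op ⋙ ((res j).obj F).obj :=
    NatIso.ofComponents (fun _ => Iso.refl _) (by
      intro B B' g
      exact (Category.comp_id _).trans (Category.id_comp _).symm)
  let β : Groth.Agent.Lib.Helper22.CechU.CK (Groth.Agent.Lib.Helper22.CechU.GU G Uf) Q ≅
      EtCech.cechComplex Uf ((res j).obj F).obj :=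
    Groth.Agent.Lib.Helper22.CechU.transferIso G Uf Q ≪≫ (cechComplexFunctor Uf).mapIso α
  exact h.of_iso ((HomologicalComplex.homologyFunctor _ _ p).mapIso β).symm

end Res

end Groth.Agent.Lib.Helper22.EtLoc
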