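import Groth.Agent.Lib.Helper22.EtLoc.Acyclic
import Groth.Agent.Lib.Helper22.AdaptedAcyclic

/-!
# Čech-flasque étale sheaves: direct images, pullback to étale schemes, higher direct images
-/

set_option autoImplicit false

universe u

open CategoryTheory CategoryTheory.Limits Opposite AlgebraicGeometry Abelian

namespace Groth.Agent.Lib.Helper22.EtLoc

open Groth.Agent.Lib.Helper22.CechU.Etale Groth.Agent.Lib.Helper22.DimShift

variable {X Y Z : Scheme.{u}}

set_option backward.isDefEq.respectTransparency.types false in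
/-- Direct image preserves Čech-flasque sheaves. -/
theorem cechFlasque_push (f : X ⟶ Y) (F : EtCoh.Ab X) (hF : CechFlasque F) :
    CechFlasque ((EtCoh.push f).obj F) := by
  intro V κ Vf hV p hp
  let G : Over V ⥤ Over ((EtCoh.bc f).obj V) := Over.post (EtCoh.bc f)
  have hG : PreservesFiniteProducts G := inferInstance
  have hcov : ∀ x : ↥(((EtCoh.bc f).obj V).left),
      ∃ (i : κ) (y : ↥((Groth.Agent.Lib.Helper22.CechU.GU G Vf i).left.left)),
        (Groth.Agent.Lib.Helper22.CechU.GU G Vf i).hom.left.base y = x := by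
    intro x
    obtain ⟨i, v, hv⟩ := hV ((pullback.fst V.hom f : ((EtCoh.bc f).obj V).left ⟶ V.left) x)
    have sq := EtCoh.isPullback_bc_map f (Vf i).hom
    obtain ⟨z, hz1, -⟩ := Scheme.Pullback.exists_preimage_pullback
      (f := (pullback.fst V.hom f : ((EtCoh.bc f).obj V).left ⟶ V.left))
      (g := (Vf i).hom.left) x v hv.symm
    refine ⟨i, sq.isoPullback.inv z, ?_⟩
    have e : sq.isoPullback.inv ≫ ((EtCoh.bc f).map (Vf i).hom).left = pullback.fst _ _ :=
      sq.isoPullback_inv_fst
    have e' := congrArg (fun φ : pullback (pullback.fst V.hom f) (Vf i).hom.left ⟶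
      ((EtCoh.bc f).obj V).left => φ z) e
    exact e'.trans hz1
  have h := hF ((EtCoh.bc f).obj V) κ (Groth.Agent.Lib.Helper22.CechU.GU G Vf) hcov p hp
  let Q : (Over ((EtCoh.bc f).obj V))ᵒᵖ ⥤ AddCommGrpCat.{u + 1} :=
    (Over.forget ((EtCoh.bc f).obj V)).op ⋙ F.obj
  let α : G.op ⋙ Q ≅ (Over.forget V).op ⋙ ((EtCoh.push f).obj F).obj :=
    NatIso.ofComponents (fun _ => Iso.refl _) (by
      intro A B g
      exact (Category.comp_id _).trans (Category.id_comp _).symm)
  let β : Groth.Agent.Lib.Helper22.CechU.CK (Groth.Agent.Lib.Helper22.CechU.GU G Vf) Q ≅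
      EtCech.cechComplex Vf ((EtCoh.push f).obj F).obj :=
    Groth.Agent.Lib.Helper22.CechU.transferIso G Vf Q ≪≫ (cechComplexFunctor Vf).mapIso α
  exact h.of_iso ((HomologicalComplex.homologyFunctor _ _ p).mapIso β).symm

/-- Cohomology of the pullback of a Čech-flasque sheaf to an étale scheme vanishes. -/
theorem subsingleton_H_pull_of_cechFlasque (j : Y ⟶ X) [Etale j] (F : EtCoh.Ab X)
    (hF : CechFlasque F) (n : ℕ) :
    Subsingleton (EtCoh.H Y ((EtCoh.pull j).obj F) (n + 1)) := by
  have h := cechFlasque_res j F hF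
  refine subsingleton_of_forall_eq 0 fun x => ?_
  let e := (pullIsoRes j).app F
  have h1 : x.comp (Ext.mk₀ e.hom) (add_zero (n + 1)) = 0 :=
    H_succ_eq_zero_of_cechFlasque _ h n _
  have h2 : x = (x.comp (Ext.mk₀ e.hom) (add_zero (n + 1))).comp (Ext.mk₀ e.inv)
      (add_zero (n + 1)) := by
    rw [Ext.comp_assoc_of_second_deg_zero, Ext.mk₀_comp_mk₀, e.hom_inv_id, Ext.comp_mk₀_id]
  rw [h2, h1, Ext.zero_comp]

/-- If the kernel of an epimorphism is Čech-flasque, its direct image is an epimorphism. -/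
theorem epi_push_map_of_cechFlasque (g : Y ⟶ Z) (S : ShortComplex (EtCoh.Ab Y))
    (hS : S.ShortExact) (h1 : CechFlasque S.X₁) : Epi ((EtCoh.push g).map S.g) := by
  have : ∀ T, Epi (((sheafToPresheaf _ _).map ((EtCoh.push g).map S.g)).app T) := fun T => by
    rw [AddCommGrpCat.epi_iff_surjective]
    exact surjective_of_cechFlasque S hS h1 ((EtCoh.bc g).obj T.unop)
  have : Epi ((sheafToPresheaf _ _).map ((EtCoh.push g).map S.g)) :=
    NatTrans.epi_of_epi_app _
  exact (sheafToPresheaf _ _).epi_of_epi_map this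

/-- Higher direct images of Čech-flasque sheaves vanish. -/
theorem isZero_Rpush_succ_of_cechFlasque (g : Y ⟶ Z) (G : EtCoh.Ab Y) (hG : CechFlasque G)
    (n : ℕ) : IsZero ((EtCoh.Rpush g (n + 1)).obj G) := by
  have : PreservesLimits (EtCoh.push g) := (EtCoh.pullPushAdj g).rightAdjoint_preservesLimits
  refine Groth.Agent.Lib.Helper22.AdaptedAcyclic.isZero_rightDerived_succ
    (F := EtCoh.push g) (I := fun F : EtCoh.Ab Y => CechFlasque F) ?_ ?_ n G hG
  · intro F
    exact ⟨Injective.under F, Injective.ι F, cechFlasque_of_injective _, inferInstance⟩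
  · intro S hS h1 h2
    exact ⟨cechFlasque_quot S hS h1 h2,
      shortExact_map_of_epi' (EtCoh.push g) hS (epi_push_map_of_cechFlasque g S hS h1)⟩

end Groth.Agent.Lib.Helper22.EtLoc
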