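import Groth.Prelude.Def_EtCore
import Groth.Agent.Lib.Helper22.CechU.EtaleCov

/-!
# Doubling an étale scheme along an open subscheme

For an open immersion `g : A ⟶ B`, `D g = B ⊔_A B` (non-separated in general), with the two open
immersions `inl, inr : B ⟶ D g`; `A = B ×_{D g} B`. For `m : V ⟶ U` in `X.Etale` with `m.left` an
open immersion, `W m : X.Etale` is the doubled object, `ι m : Bool → (U ⟶ W m)` the covering
family, and `glue` glues sections of a sheaf.
-/

set_option autoImplicit false

universe u

open CategoryTheory CategoryTheory.Limits Opposite AlgebraicGeometry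

namespace Groth.Agent.Lib.Helper22.EtLoc.Double

variable {A B : Scheme.{u}} (g : A ⟶ B) [IsOpenImmersion g]

/-- The scheme `B ⊔_A B` (two copies of `B` glued along the open `A`). -/
noncomputable abbrev D : Scheme.{u} := pushout g g

noncomputable abbrev inl : B ⟶ D g := pushout.inl g g
noncomputable abbrev inr : B ⟶ D g := pushout.inr g g

instance : IsOpenImmersion (inl g) :=
  inferInstanceAs (IsOpenImmersion (colimit.ι (span g g) WalkingSpan.left))
instance : IsOpenImmersion (inr g) :=
  inferInstanceAs (IsOpenImmersion (colimit.ι (span g g) WalkingSpan.right))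

lemma condition : g ≫ inl g = g ≫ inr g := pushout.condition

lemma jointly_surjective (x : ↥(D g)) : (∃ b, inl g b = x) ∨ (∃ b, inr g b = x) := by
  obtain ⟨i, xi, h⟩ := Scheme.IsLocallyDirected.ι_jointly_surjective (span g g) x
  rcases i with _ | i
  · left
    have e : (span g g).map (WidePushoutShape.Hom.init WalkingPair.left) ≫
        colimit.ι (span g g) WalkingSpan.left = colimit.ι (span g g) WalkingSpan.zero :=
      colimit.w _ _
    refine ⟨(span g g).map (WidePushoutShape.Hom.init WalkingPair.left) xi, ?_⟩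
    rw [← h]
    exact congrArg (fun φ : (span g g).obj WalkingSpan.zero ⟶ D g => φ xi) e
  · rcases i with _ | _
    · exact Or.inl ⟨xi, h⟩
    · exact Or.inr ⟨xi, h⟩

lemma inl_eq_inr_iff (x y : ↥B) : inl g x = inr g y ↔ ∃ a : ↥A, g a = x ∧ g a = y := by
  constructor
  · intro h
    obtain ⟨k, fi, fj, z, h1, h2⟩ :=
      (Scheme.IsLocallyDirected.ι_eq_ι_iff (span g g) (i := WalkingSpan.left)
        (j := WalkingSpan.right)).1 h
    rcases k with _ | k
    · refine ⟨z, ?_, ?_⟩
      · have : fi = WidePushoutShape.Hom.init WalkingPair.left := Subsingleton.elim _ _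
        subst this
        exact h1
      · have : fj = WidePushoutShape.Hom.init WalkingPair.right := Subsingleton.elim _ _
        subst this
        exact h2
    · rcases k with _ | _
      · exact nomatch (show WidePushoutShape.Hom _ _ from fj)
      · exact nomatch (show WidePushoutShape.Hom _ _ from fi)
  · rintro ⟨a, rfl, h2⟩
    conv_rhs => rw [← h2]
    rw [← Scheme.Hom.comp_apply, ← Scheme.Hom.comp_apply, condition]

/-- `A = B ×_{D} B`. -/
lemma exists_lift {Z : Scheme.{u}} (a b : Z ⟶ B) (h : a ≫ inl g = b ≫ inr g) :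
    ∃ c : Z ⟶ A, c ≫ g = a ∧ c ≫ g = b := by
  have hpt : ∀ z : ↥Z, ∃ x : ↥A, g x = a z ∧ g x = b z := by
    intro z
    apply (inl_eq_inr_iff g (a z) (b z)).1
    rw [← Scheme.Hom.comp_apply, ← Scheme.Hom.comp_apply, h]
  have ha : Set.range a ⊆ Set.range g := by
    rintro _ ⟨z, rfl⟩
    obtain ⟨x, hx, -⟩ := hpt z
    exact ⟨x, hx⟩
  have hb : Set.range b ⊆ Set.range g := by
    rintro _ ⟨z, rfl⟩
    obtain ⟨x, -, hx⟩ := hpt z
    exact ⟨x, hx⟩
  refine ⟨IsOpenImmersion.lift g a ha, IsOpenImmersion.lift_fac _ _ _, ?_⟩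
  have h1 : IsOpenImmersion.lift g a ha = IsOpenImmersion.lift g b hb := by
    rw [← cancel_mono (g ≫ inl g)]
    rw [← Category.assoc, IsOpenImmersion.lift_fac, h, condition, ← Category.assoc,
      IsOpenImmersion.lift_fac]
  rw [h1, IsOpenImmersion.lift_fac]

section Etale

variable {X : Scheme.{u}} (p : B ⟶ X) [Etale p]

/-- The structure map `B ⊔_A B ⟶ X`. -/
noncomputable abbrev desc : D g ⟶ X := pushout.desc p p rfl

omit [Etale p] in
@[reassoc (attr := simp)] lemma inl_desc : inl g ≫ desc g p = p := pushout.inl_desc _ _ _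
omit [Etale p] in
@[reassoc (attr := simp)] lemma inr_desc : inr g ≫ desc g p = p := pushout.inr_desc _ _ _

instance etale_desc : Etale (desc g p) := by
  have : IsZariskiLocalAtSource @Etale.{u} :=
    HasRingHomProperty.instIsZariskiLocalAtSource (Q := RingHom.Etale)
  rw [IsZariskiLocalAtSource.iff_of_openCover (P := @Etale.{u})
    (Scheme.IsLocallyDirected.openCover (span g g))]
  intro i
  rcases i with _ | i
  · have e : (span g g).map (WidePushoutShape.Hom.init WalkingPair.left) ≫
        colimit.ι (span g g) WalkingSpan.left = colimit.ι (span g g) WalkingSpan.zero :=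
      colimit.w _ _
    change Etale (colimit.ι (span g g) WalkingSpan.zero ≫ desc g p)
    rw [← e, Category.assoc]
    change Etale (g ≫ inl g ≫ desc g p)
    rw [inl_desc]
    infer_instance
  · rcases i with _ | _
    · change Etale (inl g ≫ desc g p)
      rw [inl_desc]
      infer_instance
    · change Etale (inr g ≫ desc g p)
      rw [inr_desc]
      infer_instance

end Etale

section Site

open Groth.Agent.Lib.Helper22.CechU.Etale

variable {X : Scheme.{u}} {U V : X.Etale} (m : V ⟶ U) [IsOpenImmersion m.left]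

/-- `U ⊔_V U` as an object of the small étale site. -/
noncomputable def W : X.Etale := Scheme.Etale.mk (desc m.left U.hom)

/-- The two inclusions `U ⟶ U ⊔_V U`. -/
noncomputable def ι : Bool → (U ⟶ W m)
  | true => MorphismProperty.Over.homMk (inl m.left) (inl_desc _ _) trivial
  | false => MorphismProperty.Over.homMk (inr m.left) (inr_desc _ _) trivial

lemma ι_left_true : (ι m true).left = inl m.left := rfl
lemma ι_left_false : (ι m false).left = inr m.left := rfl

lemma m_ι : m ≫ ι m true = m ≫ ι m false :=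
  MorphismProperty.Over.Hom.ext (condition m.left)

instance mono_ι (b : Bool) : Mono (ι m b) := by
  constructor
  intro Z a a' h
  apply MorphismProperty.Over.Hom.ext
  have h' := congrArg (fun φ => φ.left) h
  cases b
  · exact (cancel_mono (inr m.left)).1 h'
  · exact (cancel_mono (inl m.left)).1 h'

lemma exists_lift_site {Z : X.Etale} (a b : Z ⟶ U) (h : a ≫ ι m true = b ≫ ι m false) :
    ∃ c : Z ⟶ V, c ≫ m = a ∧ c ≫ m = b := by
  obtain ⟨c, hc1, hc2⟩ := exists_lift m.left a.left b.left (congrArg (fun φ => φ.left) h)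
  have hw : c ≫ V.hom = Z.hom := by
    have e1 : m.left ≫ U.hom = V.hom := MorphismProperty.Over.w m
    have e2 : a.left ≫ U.hom = Z.hom := MorphismProperty.Over.w a
    rw [← e1, ← Category.assoc, hc1, e2]
  exact ⟨MorphismProperty.Over.homMk c hw trivial, MorphismProperty.Over.Hom.ext hc1,
    MorphismProperty.Over.Hom.ext hc2⟩

lemma cover_mem : Sieve.ofArrows (fun _ : Bool => U) (ι m) ∈ X.smallEtaleTopology (W m) := by
  rw [mem_smallEtaleTopology_iff]
  intro x
  rcases jointly_surjective m.left x with ⟨b, hb⟩ | ⟨b, hb⟩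
  · exact ⟨U, ι m true, b, Sieve.ofArrows_mk _ _ true, hb⟩
  · exact ⟨U, ι m false, b, Sieve.ofArrows_mk _ _ false, hb⟩

/-- Gluing two sections over `U` agreeing on `V` to a section over `U ⊔_V U`. -/
lemma glue (Q : EtCoh.Ab X) (q₁ q₂ : Q.obj.obj (op U))
    (h : Q.obj.map m.op q₁ = Q.obj.map m.op q₂) :
    ∃ s : Q.obj.obj (op (W m)),
      Q.obj.map (ι m true).op s = q₁ ∧ Q.obj.map (ι m false).op s = q₂ := by
  have hsf : (Presieve.ofArrows (fun _ : Bool => U) (ι m)).IsSheafFor
      (Q.obj ⋙ forget AddCommGrpCat.{u + 1}) := by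
    rw [Presieve.isSheafFor_iff_generate]
    exact isSheaf_forget Q _ (cover_mem m)
  have hs := (Presieve.isSheafFor_arrows_iff (Q.obj ⋙ forget AddCommGrpCat.{u + 1})
    (ι m)).1 hsf
  let x : (b : Bool) → (Q.obj ⋙ forget AddCommGrpCat.{u + 1}).obj (op U) := fun b =>
    match b with
    | true => q₁
    | false => q₂
  have key : ∀ (Z : X.Etale) (a b : Z ⟶ U), a ≫ ι m true = b ≫ ι m false →
      Q.obj.map a.op q₁ = Q.obj.map b.op q₂ := by
    intro Z a b hab
    obtain ⟨c, rfl, hc⟩ := exists_lift_site m a b hab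
    conv_rhs => rw [← hc]
    rw [op_comp, Functor.map_comp, ConcreteCategory.comp_apply, ConcreteCategory.comp_apply, h]
  have hx : Presieve.Arrows.Compatible (Q.obj ⋙ forget AddCommGrpCat.{u + 1}) (ι m) x := by
    intro i j Z gi gj hij
    cases i <;> cases j
    · have : gi = gj := (cancel_mono (ι m false)).1 hij
      rw [this]
    · exact (key Z gj gi hij.symm).symm
    · exact key Z gi gj hij
    · have : gi = gj := (cancel_mono (ι m true)).1 hij
      rw [this]
  obtain ⟨s, hs1, -⟩ := hs x hx
  exact ⟨s, hs1 true, hs1 false⟩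

end Site

end Groth.Agent.Lib.Helper22.EtLoc.Double
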