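import Mathlib

/-!
# Injective abelian presheaves restrict surjectively along monomorphisms
-/

set_option autoImplicit false

universe w v u₁

open CategoryTheory CategoryTheory.Limits Opposite

namespace Groth.Agent.Lib.Helper22.EtLoc

variable {C : Type u₁} [Category.{v} C]

/-- The free abelian presheaf on a (universe lifted) representable. -/
noncomputable abbrev Fr (A : C) : Cᵒᵖ ⥤ AddCommGrpCat.{max w v} :=
  uliftYoneda.{w}.obj A ⋙ AddCommGrpCat.free

/-- Functoriality of `Fr`. -/
noncomputable abbrev FrMap {A B : C} (m : A ⟶ B) : Fr.{w} A ⟶ Fr.{w} B :=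
  Functor.whiskerRight (uliftYoneda.{w}.map m) AddCommGrpCat.free

instance mono_FrMap {A B : C} (m : A ⟶ B) [Mono m] : Mono (FrMap.{w} m) := by
  have : ∀ W, Mono ((FrMap.{w} m).app W) := by
    intro W
    have : Mono ((uliftYoneda.{w}.map m).app W) := by
      rw [mono_iff_injective]
      intro a b h
      have h' : a.down ≫ m = b.down ≫ m := congrArg ULift.down h
      exact ULift.ext _ _ ((cancel_mono m).1 h')
    exact inferInstanceAs (Mono (AddCommGrpCat.free.map ((uliftYoneda.{w}.map m).app W)))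
  exact NatTrans.mono_of_mono_app _

/-- `Hom(Fr A, P) ≃ P(A)`. -/
noncomputable def secEquiv (A : C) (P : Cᵒᵖ ⥤ AddCommGrpCat.{max w v}) :
    (Fr.{w} A ⟶ P) ≃ P.obj (op A) :=
  ((AddCommGrpCat.adj.{max w v}.whiskerRight Cᵒᵖ).homEquiv (uliftYoneda.{w}.obj A) P).trans
    uliftYonedaEquiv.{w}

lemma secEquiv_apply (A : C) (P : Cᵒᵖ ⥤ AddCommGrpCat.{max w v}) (φ : Fr.{w} A ⟶ P) :
    secEquiv A P φ = (φ.app (op A)).hom (FreeAbelianGroup.of (ULift.up (𝟙 A))) := by
  simp only [secEquiv, Equiv.trans_apply]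
  rw [Adjunction.homEquiv_unit, uliftYonedaEquiv_apply]
  simp
  rfl

set_option linter.checkUnivs false in
lemma free_map_of' {α β : Type (max w v)} (f : α ⟶ β) (x : α) :
    (AddCommGrpCat.free.map f).hom (FreeAbelianGroup.of x) = FreeAbelianGroup.of (f x) := by
  rw [AddCommGrpCat.free_map_coe]
  exact FreeAbelianGroup.map_of_apply _

lemma secEquiv_naturality {A B : C} (m : A ⟶ B) (P : Cᵒᵖ ⥤ AddCommGrpCat.{max w v})
    (ψ : Fr.{w} B ⟶ P) :
    secEquiv A P (FrMap.{w} m ≫ ψ) = (P.map m.op).hom (secEquiv B P ψ) := by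
  rw [secEquiv_apply, secEquiv_apply]
  have h := ConcreteCategory.congr_hom (ψ.naturality m.op) (FreeAbelianGroup.of (ULift.up (𝟙 B)))
  refine Eq.trans ?_ h
  change (ψ.app (op A)).hom (((FrMap.{w} m).app (op A)).hom (FreeAbelianGroup.of (ULift.up (𝟙 A)))) =
    (ψ.app (op A)).hom (((Fr.{w} B).map m.op).hom (FreeAbelianGroup.of (ULift.up (𝟙 B))))
  congr 1
  refine (free_map_of'.{w} _ _).trans (Eq.trans ?_ (free_map_of'.{w} _ _).symm)
  congr 1
  apply ULift.ext
  exact (Category.id_comp m).trans (Category.comp_id m).symm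

/-- An injective abelian presheaf restricts surjectively along monomorphisms. -/
theorem surjective_map_of_injective (P : Cᵒᵖ ⥤ AddCommGrpCat.{max w v}) [Injective P] {A B : C}
    (m : A ⟶ B) [Mono m] : Function.Surjective (P.map m.op).hom := by
  intro s
  refine ⟨secEquiv.{w} B P (Injective.factorThru ((secEquiv.{w} A P).symm s) (FrMap.{w} m)), ?_⟩
  rw [← secEquiv_naturality, Injective.comp_factorThru]
  exact Equiv.apply_symm_apply _ _

end Groth.Agent.Lib.Helper22.EtLoc
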