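import Groth.Agent.Lib.Helper22.EtLoc.Deg0
import Groth.Agent.Lib.Helper22.EtLoc.Flasque

/-!
# The Zariski cover of a scheme by two opens, in the small étale site
-/

set_option autoImplicit false

universe u

open CategoryTheory CategoryTheory.Limits Opposite AlgebraicGeometry Abelian

namespace Groth.Agent.Lib.Helper22.EtLoc

open Groth.Agent.Lib.Helper22.CechU.Etale

variable {X : Scheme.{u}}

/-- An open subscheme as an object of the small étale site. -/
noncomputable abbrev uOpen (U : X.Opens) : X.Etale := (pj U.ι).obj (EtCoh.top ↑U)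

lemma uOpen_hom (U : X.Opens) : (uOpen U).hom = U.ι := Category.id_comp _

set_option backward.isDefEq.respectTransparency.types false in
instance subsingleton_hom_uOpen (U : X.Opens) (Z : X.Etale) : Subsingleton (Z ⟶ uOpen U) := by
  constructor
  intro g g'
  apply MorphismProperty.Over.Hom.ext
  have h1 : g.left ≫ (uOpen U).hom = Z.hom := Over.w g.hom
  have h2 : g'.left ≫ (uOpen U).hom = Z.hom := Over.w g'.hom
  rw [uOpen_hom] at h1 h2
  exact (cancel_mono U.ι).1 (h1.trans h2.symm)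

/-- The structure morphism to the terminal object. -/
noncomputable abbrev tO (U : X.Opens) : uOpen U ⟶ EtCoh.top X := (EtCore.topIsTerminal X).from _

instance mono_tO (U : X.Opens) : Mono (tO U) := ⟨fun _ _ _ => Subsingleton.elim _ _⟩

/-- Inclusion of opens. -/
noncomputable def rO {W U : X.Opens} (h : W ≤ U) : uOpen W ⟶ uOpen U :=
  MorphismProperty.Over.homMk (X.homOfLE h) (by
    rw [uOpen_hom, uOpen_hom]
    exact X.homOfLE_ι h) trivial

instance mono_rO {W U : X.Opens} (h : W ≤ U) : Mono (rO h) := ⟨fun _ _ _ => Subsingleton.elim _ _⟩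

set_option backward.isDefEq.respectTransparency.types false in
lemma tO_left (U : X.Opens) : (tO U).left = U.ι := by
  have h1 : (tO U).left ≫ (EtCoh.top X).hom = (uOpen U).hom := Over.w (tO U).hom
  rw [uOpen_hom] at h1
  exact (Category.comp_id _).symm.trans h1

lemma range_subset_inf {U V : X.Opens} {Y : Scheme.{u}} (f : Y ⟶ X) (a : Y ⟶ (U : Scheme.{u}))
    (b : Y ⟶ (V : Scheme.{u})) (ha : a ≫ U.ι = f) (hb : b ≫ V.ι = f) :
    Set.range f ⊆ Set.range (U ⊓ V).ι := by
  rw [Scheme.Opens.range_ι]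
  intro x hx
  obtain ⟨z, rfl⟩ := hx
  constructor
  · rw [← ha]
    exact (a z).2
  · rw [← hb]
    exact (b z).2

set_option backward.isDefEq.respectTransparency.types false in
lemma left_comp_ι {U : X.Opens} {Z : X.Etale} (g : Z ⟶ uOpen U) :
    g.left ≫ U.ι = (Z.hom : Z.left ⟶ X) := by
  have h1 : g.left ≫ (uOpen U).hom = Z.hom := Over.w g.hom
  rw [uOpen_hom] at h1
  exact h1

/-- The underlying scheme morphism of `liftInf`. -/
noncomputable def liftInfLeft {U V : X.Opens} {Z : X.Etale} (g₁ : Z ⟶ uOpen U) (g₂ : Z ⟶ uOpen V) :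
    Z.left ⟶ ((U ⊓ V : X.Opens) : Scheme.{u}) :=
  IsOpenImmersion.lift (U ⊓ V).ι (Z.hom : Z.left ⟶ X)
    (range_subset_inf (Z.hom : Z.left ⟶ X) g₁.left g₂.left (left_comp_ι g₁) (left_comp_ι g₂))

lemma liftInfLeft_fac {U V : X.Opens} {Z : X.Etale} (g₁ : Z ⟶ uOpen U) (g₂ : Z ⟶ uOpen V) :
    liftInfLeft g₁ g₂ ≫ (U ⊓ V).ι = (Z.hom : Z.left ⟶ X) :=
  IsOpenImmersion.lift_fac _ _ _

set_option backward.isDefEq.respectTransparency.types false in
/-- A morphism to two opens factors through the intersection. -/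
noncomputable def liftInf {U V : X.Opens} {Z : X.Etale} (g₁ : Z ⟶ uOpen U) (g₂ : Z ⟶ uOpen V) :
    Z ⟶ uOpen (U ⊓ V) :=
  MorphismProperty.Over.homMk (liftInfLeft g₁ g₂) (by
    rw [uOpen_hom]
    exact liftInfLeft_fac g₁ g₂) trivial

section Cover

variable (U V : X.Opens)

/-- The two-element cover of `X` by `U` and `V`. -/
noncomputable def cov : Bool → X.Etale
  | true => uOpen U
  | false => uOpen V

/-- The two-element cover of `X` by `U` and `V`. -/
noncomputable def covπ : (b : Bool) → cov U V b ⟶ EtCoh.top X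
  | true => tO U
  | false => tO V

lemma cover_mem (hUV : U ⊔ V = ⊤) :
    Sieve.ofArrows (cov U V) (covπ U V) ∈ X.smallEtaleTopology (EtCoh.top X) := by
  rw [mem_smallEtaleTopology_iff]
  intro x
  have hx : (x : X) ∈ (U ⊔ V : X.Opens) := by rw [hUV]; trivial
  rcases hx with hx | hx
  · refine ⟨uOpen U, tO U, (⟨x, hx⟩ : U), Sieve.ofArrows_mk _ _ true, ?_⟩
    rw [tO_left]
    rfl
  · refine ⟨uOpen V, tO V, (⟨x, hx⟩ : V), Sieve.ofArrows_mk _ _ false, ?_⟩
    rw [tO_left]
    rfl

lemma isSheafFor_cover (hUV : U ⊔ V = ⊤) (F : EtCoh.Ab X) :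
    (Presieve.ofArrows (cov U V) (covπ U V)).IsSheafFor (F.obj ⋙ forget AddCommGrpCat.{u + 1}) := by
  rw [Presieve.isSheafFor_iff_generate]
  exact isSheaf_forget F _ (cover_mem U V hUV)

lemma sep (hUV : U ⊔ V = ⊤) (F : EtCoh.Ab X) (s s' : F.obj.obj (op (EtCoh.top X)))
    (h1 : F.obj.map (tO U).op s = F.obj.map (tO U).op s')
    (h2 : F.obj.map (tO V).op s = F.obj.map (tO V).op s') : s = s' := by
  refine (isSheafFor_cover U V hUV F).isSeparatedFor.ext ?_
  intro Y f hf
  obtain ⟨b⟩ := hf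
  cases b
  · exact h2
  · exact h1

lemma glue (hUV : U ⊔ V = ⊤) (F : EtCoh.Ab X) (t₁ : F.obj.obj (op (uOpen U)))
    (t₂ : F.obj.obj (op (uOpen V)))
    (h : F.obj.map (rO (inf_le_left : U ⊓ V ≤ U)).op t₁ =
      F.obj.map (rO (inf_le_right : U ⊓ V ≤ V)).op t₂) :
    ∃ s : F.obj.obj (op (EtCoh.top X)),
      F.obj.map (tO U).op s = t₁ ∧ F.obj.map (tO V).op s = t₂ := by
  have hs := (Presieve.isSheafFor_arrows_iff (F.obj ⋙ forget AddCommGrpCat.{u + 1})
    (covπ U V)).1 (isSheafFor_cover U V hUV F)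
  let x : (b : Bool) → (F.obj ⋙ forget AddCommGrpCat.{u + 1}).obj (op (cov U V b)) := fun b =>
    match b with
    | true => t₁
    | false => t₂
  have key : ∀ (Z : X.Etale) (g₁ : Z ⟶ uOpen U) (g₂ : Z ⟶ uOpen V),
      F.obj.map g₁.op t₁ = F.obj.map g₂.op t₂ := by
    intro Z g₁ g₂
    obtain ⟨k, -⟩ : ∃ k, k = liftInf g₁ g₂ := ⟨_, rfl⟩
    have e1 : g₁ = k ≫ rO inf_le_left := Subsingleton.elim _ _
    have e2 : g₂ = k ≫ rO inf_le_right := Subsingleton.elim _ _
    rw [e1, e2, op_comp, op_comp, Functor.map_comp, Functor.map_comp,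
      ConcreteCategory.comp_apply, ConcreteCategory.comp_apply, h]
  have hx : Presieve.Arrows.Compatible (F.obj ⋙ forget AddCommGrpCat.{u + 1}) (covπ U V) x := by
    intro i j Z gi gj _
    cases i <;> cases j
    · have : gi = gj := Subsingleton.elim (α := Z ⟶ uOpen V) gi gj
      rw [this]
    · exact (key Z gj gi).symm
    · exact key Z gi gj
    · have : gi = gj := Subsingleton.elim (α := Z ⟶ uOpen U) gi gj
      rw [this]
  obtain ⟨s, hs1, -⟩ := hs x hx
  exact ⟨s, hs1 true, hs1 false⟩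

end Cover

/-- Injective étale sheaves restrict surjectively along monomorphisms of the site. -/
lemma surjective_res_of_injective (I : EtCoh.Ab X) [Injective I] {A B : X.Etale} (m : A ⟶ B)
    [Mono m] : Function.Surjective (I.obj.map m.op) := by
  have hI : Injective I.obj :=
    Injective.injective_of_adjoint
      (sheafificationAdjunction X.smallEtaleTopology AddCommGrpCat.{u + 1}) I
  exact surjective_map_of_injective.{u + 1} I.obj m

end Groth.Agent.Lib.Helper22.EtLoc
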