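import Groth.Agent.Lib.Helper22.EtLoc.AcyclicAll
import Groth.Agent.Lib.Helper22.EtLoc.Double
import Groth.Agent.Lib.Helper22.EtLoc.OpenCover

/-!
# Sheaves acyclic on every étale scheme restrict surjectively along open immersions
-/

set_option autoImplicit false

universe u

open CategoryTheory CategoryTheory.Limits Opposite AlgebraicGeometry Abelian

namespace Groth.Agent.Lib.Helper22.EtLoc

open Groth.Agent.Lib.Helper22.CechU Groth.Agent.Lib.Helper22.DimShift

variable {X : Scheme.{u}}

theorem surjective_of_acyclicAll (F : EtCoh.Ab X) (hF : AcyclicAll F) {U V : X.Etale}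
    (m : V ⟶ U) [IsOpenImmersion m.left] : Function.Surjective (F.obj.map m.op) := by
  intro t
  have hS := injSC_shortExact F
  have hmono : Mono (injSC F).f := hS.mono_f
  have hMm : Mono m := by
    constructor
    intro Z a b hab
    exact MorphismProperty.Over.Hom.ext
      ((cancel_mono m.left).1 (congrArg (fun φ => φ.left) hab))
  -- notation
  let f := (injSC F).f
  let g := (injSC F).g
  have hF₁ : (injSC F).X₁ = F := rfl
  have hzero : ∀ (Z : X.Etale) (x : F.obj.obj (op Z)),
      g.hom.app (op Z) (f.hom.app (op Z) x) = 0 := by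
    intro Z x
    have h := (injSC F).zero
    have h2 : (f ≫ g).hom.app (op Z) x = 0 := by
      rw [h]
      rfl
    exact h2
  have hex : ∀ (Z : X.Etale) (y : (injSC F).X₂.obj.obj (op Z)), g.hom.app (op Z) y = 0 →
      ∃ x : F.obj.obj (op Z), f.hom.app (op Z) x = y :=
    fun Z y hy => Site.sections_exact_of_left_exact hS.1 hmono Z y hy
  have hinj : ∀ Z : X.Etale, Function.Injective (f.hom.app (op Z)) :=
    fun Z => Site.injective_app_of_mono f Z
  -- extend `t` as a section of `I`
  obtain ⟨i', hi'⟩ := surjective_res_of_injective (injSC F).X₂ m (f.hom.app (op V) t)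
  let q := g.hom.app (op U) i'
  have hq : (injSC F).X₃.obj.map m.op q = (injSC F).X₃.obj.map m.op 0 := by
    rw [map_zero]
    have h1 := NatTrans.naturality_apply g.hom m.op i'
    rw [← h1, hi', hzero]
  obtain ⟨q', hq'1, hq'2⟩ := Double.glue m (injSC F).X₃ q 0 hq
  obtain ⟨ı, hı⟩ := sections_surjective_of_H1 _ hS (Double.W m) (hF _ 1 Nat.one_pos) q'
  let i₁ := (injSC F).X₂.obj.map (Double.ι m true).op ı
  let i₂ := (injSC F).X₂.obj.map (Double.ι m false).op ı
  have h1 : g.hom.app (op U) i₁ = q := by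
    have := NatTrans.naturality_apply g.hom (Double.ι m true).op ı
    rw [this, hı, hq'1]
  have h2 : g.hom.app (op U) i₂ = 0 := by
    have := NatTrans.naturality_apply g.hom (Double.ι m false).op ı
    rw [this, hı, hq'2]
  have h12 : (injSC F).X₂.obj.map m.op i₁ = (injSC F).X₂.obj.map m.op i₂ := by
    change (injSC F).X₂.obj.map m.op ((injSC F).X₂.obj.map (Double.ι m true).op ı) =
      (injSC F).X₂.obj.map m.op ((injSC F).X₂.obj.map (Double.ι m false).op ı)
    rw [← Functor.map_comp_apply, ← Functor.map_comp_apply, ← op_comp, ← op_comp, Double.m_ι]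
  obtain ⟨s₁, hs₁⟩ := hex U (i' - i₁) (by rw [map_sub, h1, sub_self])
  obtain ⟨s₂, hs₂⟩ := hex U i₂ h2
  refine ⟨s₁ + s₂, ?_⟩
  apply hinj V
  have h3 := NatTrans.naturality_apply f.hom m.op (s₁ + s₂)
  refine h3.trans ?_
  rw [map_add, hs₁, hs₂, map_add, map_sub, h12, hi']
  abel

end Groth.Agent.Lib.Helper22.EtLoc
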