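import Groth.Agent.Lib.Helper22.EtLoc.HpullDelta

/-!
# Degree zero of pullback on étale cohomology: global sections
-/

set_option autoImplicit false

universe u

open CategoryTheory CategoryTheory.Limits Opposite AlgebraicGeometry Abelian

namespace Groth.Agent.Lib.Helper22.EtLoc

variable {X Y Y' : Scheme.{u}}

/-- The canonical global section `1` of the constant sheaf `ℤ_X`. -/
noncomputable def oneSec (X : Scheme.{u}) : (EtCoh.const X ℤ).obj.obj (op (EtCoh.top X)) :=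
  ((EtCore.constAdj X).unit.app (AddCommGrpCat.of (ULift.{u+1} ℤ))) ⟨1⟩

lemma equiv₀_eq (G : EtCoh.Ab X) (x : EtCoh.H X G 0) :
    Sheaf.H.equiv₀ G (EtCore.topIsTerminal X) x =
      (Ext.addEquiv₀ x).hom.app (op (EtCoh.top X)) (oneSec X) := by
  rfl

lemma addEquiv₀_mk₀ {𝒜 : Type*} [Category 𝒜] [Abelian 𝒜] [HasExt.{u + 1} 𝒜] {A B : 𝒜}
    (φ : A ⟶ B) : Ext.addEquiv₀ (Ext.mk₀ φ) = φ :=
  Ext.addEquiv₀.apply_symm_apply φ

lemma equiv₀_mk₀ (G : EtCoh.Ab X) (φ : EtCoh.const X ℤ ⟶ G) :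
    Sheaf.H.equiv₀ G (EtCore.topIsTerminal X) (Ext.mk₀ φ) =
      φ.hom.app (op (EtCoh.top X)) (oneSec X) := by
  rw [equiv₀_eq, addEquiv₀_mk₀]

/-- Pullback of global sections. -/
noncomputable def ps (f : Y ⟶ X) (G : EtCoh.Ab X) :
    G.obj.obj (op (EtCoh.top X)) ⟶ ((EtCoh.pull f).obj G).obj.obj (op (EtCoh.top Y)) :=
  ((EtCoh.pullPushAdj f).unit.app G).hom.app (op (EtCoh.top X)) ≫
    ((EtCoh.pull f).obj G).obj.map (EtCore.bcTopIso f).inv.op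

lemma comp_sq_aux {𝒞 : Type*} [Category 𝒞] {A A' B B' C C' : 𝒞} (a : A ⟶ A') (η' : A' ⟶ B')
    (r' : B' ⟶ C') (η : A ⟶ B) (b : B ⟶ B') (r : B ⟶ C) (c : C ⟶ C') (h1 : a ≫ η' = η ≫ b)
    (h2 : b ≫ r' = r ≫ c) : a ≫ η' ≫ r' = (η ≫ r) ≫ c := by
  rw [reassoc_of% h1, h2, Category.assoc]

lemma ps_naturality (f : Y ⟶ X) {G G' : EtCoh.Ab X} (φ : G ⟶ G') :
    φ.hom.app (op (EtCoh.top X)) ≫ ps f G' =
      ps f G ≫ ((EtCoh.pull f).map φ).hom.app (op (EtCoh.top Y)) := by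
  have h1 := (EtCoh.pullPushAdj f).unit.naturality φ
  have h2 := congrArg (fun ψ => ψ.hom.app (op (EtCoh.top X))) h1
  exact comp_sq_aux _ _ _ _ _ _ _ h2 (((EtCoh.pull f).map φ).hom.naturality _).symm

lemma oneSec_pull (f : Y ⟶ X) :
    (EtCore.pullConst f ℤ).inv.hom.app (op (EtCoh.top Y)) (oneSec Y) =
      ps f (EtCoh.const X ℤ) (oneSec X) := by
  have h := Adjunction.unit_leftAdjointUniq_hom_app (EtCore.constAdj Y)
    (((EtCore.constAdj X).comp (EtCoh.pullPushAdj f)).ofNatIsoRight (EtCore.pushGsecIso f))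
    (AddCommGrpCat.of (ULift.{u+1} ℤ))
  have h' := congrArg (fun φ => (ConcreteCategory.hom φ) (⟨1⟩ : ULift.{u+1} ℤ)) h
  exact h'

/-- In degree zero, `Hpull` is pullback of global sections. -/
lemma equiv₀_Hpull (f : Y ⟶ X) [PreservesFiniteLimits (EtCoh.pull f)] (G : EtCoh.Ab X)
    (x : EtCoh.H X G 0) :
    Sheaf.H.equiv₀ ((EtCoh.pull f).obj G) (EtCore.topIsTerminal Y) (EtCore.Hpull f G 0 x) =
      ps f G (Sheaf.H.equiv₀ G (EtCore.topIsTerminal X) x) := by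
  obtain ⟨φ, rfl⟩ : ∃ φ, x = Ext.mk₀ φ := ⟨Ext.addEquiv₀ x, (Ext.mk₀_addEquiv₀_apply x).symm⟩
  rw [Hpull_apply, Ext.mapExactFunctor_mk₀, Ext.mk₀_comp_mk₀, equiv₀_mk₀, equiv₀_mk₀]
  have h := congrArg (fun ψ => (ConcreteCategory.hom ψ) (oneSec X)) (ps_naturality f φ)
  refine Eq.trans ?_ h.symm
  change ((EtCoh.pull f).map φ).hom.app (op (EtCoh.top Y))
    ((EtCore.pullConst f ℤ).inv.hom.app (op (EtCoh.top Y)) (oneSec Y)) = _
  rw [oneSec_pull]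
  rfl

section Etale

lemma resPushAdj_unit_app (j : Y ⟶ X) [Etale j] (G : EtCoh.Ab X) (W : X.Etale) :
    ((resPushAdj j).unit.app G).hom.app (op W) = G.obj.map ((pjAdj j).counit.app W).op := by
  rfl

/-- The degree-zero identification `(j^* G)(Y) ≅ G(Y → X)` for étale `j`. -/
noncomputable def σ (j : Y ⟶ X) [Etale j] (G : EtCoh.Ab X) :
    ((EtCoh.pull j).obj G).obj.obj (op (EtCoh.top Y)) ≅
      G.obj.obj (op ((pj j).obj (EtCoh.top Y))) :=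
  ((sheafSections _ _).obj (op (EtCoh.top Y))).mapIso ((pullIsoRes j).app G)

lemma tri_aux {𝒞 : Type*} [Category 𝒞] {A B C D E : 𝒞} (η : A ⟶ B) (m : B ⟶ C) (ρ : C ⟶ D)
    (ρ' : B ⟶ E) (m' : E ⟶ D) (h1 : m ≫ ρ = ρ' ≫ m') (u : A ⟶ E) (h2 : η ≫ ρ' = u) :
    (η ≫ m) ≫ ρ = u ≫ m' := by
  rw [Category.assoc, h1, reassoc_of% h2]

/-- Under `σ`, pullback of global sections along an étale map is restriction. -/
lemma ps_σ (j : Y ⟶ X) [Etale j] (G : EtCoh.Ab X)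
    (t : (pj j).obj (EtCoh.top Y) ⟶ EtCoh.top X) :
    ps j G ≫ (σ j G).hom = G.obj.map t.op := by
  have h := Adjunction.unit_leftAdjointUniq_hom_app (EtCoh.pullPushAdj j) (resPushAdj j) G
  have h2 := congrArg (fun ψ => ψ.hom.app (op (EtCoh.top X))) h
  have h3 := tri_aux _ _ _ _ _
    (((pullIsoRes j).hom.app G).hom.naturality (EtCore.bcTopIso j).inv.op) _ h2
  refine h3.trans ?_
  rw [resPushAdj_unit_app]
  refine (G.obj.map_comp _ _).symm.trans ?_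
  congr 1
  exact congrArg Quiver.Hom.op ((EtCore.topIsTerminal X).hom_ext
    ((pj j).map (EtCore.bcTopIso j).inv ≫ (pjAdj j).counit.app (EtCoh.top X)) t)

/-- The degree-zero identification `H⁰(Y, j^* G) ≃ G(Y → X)` for étale `j`. -/
noncomputable def σH (j : Y ⟶ X) [Etale j] (G : EtCoh.Ab X) :
    EtCoh.H Y ((EtCoh.pull j).obj G) 0 ≃+ G.obj.obj (op ((pj j).obj (EtCoh.top Y))) :=
  (Sheaf.H.equiv₀ _ (EtCore.topIsTerminal Y)).trans (σ j G).addCommGroupIsoToAddEquiv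

lemma σH_Hpull (j : Y ⟶ X) [Etale j] (G : EtCoh.Ab X)
    (t : (pj j).obj (EtCoh.top Y) ⟶ EtCoh.top X) (x : EtCoh.H X G 0) :
    σH j G (EtCore.Hpull j G 0 x) =
      G.obj.map t.op (Sheaf.H.equiv₀ G (EtCore.topIsTerminal X) x) := by
  have h := congrArg (fun ψ => (ConcreteCategory.hom ψ)
    (Sheaf.H.equiv₀ G (EtCore.topIsTerminal X) x)) (ps_σ j G t)
  refine Eq.trans ?_ h
  change (σ j G).hom (Sheaf.H.equiv₀ _ (EtCore.topIsTerminal Y) (EtCore.Hpull j G 0 x)) = _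
  rw [equiv₀_Hpull]
  rfl

end Etale

section Comp

lemma pushComp_hom_app (f : Y' ⟶ Y) (t : Y ⟶ X) (H : EtCoh.Ab Y') (W : X.Etale) :
    ((EtCoh.pushComp t f).hom.app H).hom.app (op W) =
      H.obj.map ((MorphismProperty.Over.pullbackComp (P := EtCoh.etaleMP) (Q := ⊤) f t).hom.app
        W).op := by
  rfl

lemma comp_aux {𝒞 : Type*} [Category 𝒞] {A B B' C C' D K K' E : 𝒞}
    (a : A ⟶ B) (m_t : B ⟶ B') (η_f' : B' ⟶ C') (m_f : C' ⟶ D) (η_f : B ⟶ C) (n : C ⟶ C')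
    (a' : A ⟶ K) (m_ft : K ⟶ K') (κ' : K' ⟶ D) (κ₀ : K ⟶ E) (m' : E ⟶ D) (p : C ⟶ E)
    (h1 : m_t ≫ η_f' = η_f ≫ n) (h2 : m_ft ≫ κ' = κ₀ ≫ m') (h3 : a' ≫ κ₀ = a ≫ η_f ≫ p)
    (h4 : p ≫ m' = n ≫ m_f) :
    (a ≫ m_t) ≫ (η_f' ≫ m_f) = (a' ≫ m_ft) ≫ κ' := by
  rw [Category.assoc, reassoc_of% h1, Category.assoc, h2, reassoc_of% h3, h4]

/-- Pullback of global sections is compatible with composition. -/
lemma ps_comp (f : Y' ⟶ Y) (t : Y ⟶ X) (G : EtCoh.Ab X) :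
    ps t G ≫ ps f ((EtCoh.pull t).obj G) =
      ps (f ≫ t) G ≫ ((EtCore.pullComp f t).hom.app G).hom.app (op (EtCoh.top Y')) := by
  have h := Adjunction.unit_leftAdjointUniq_hom_app (EtCoh.pullPushAdj (f ≫ t))
    (((EtCoh.pullPushAdj t).comp (EtCoh.pullPushAdj f)).ofNatIsoRight (EtCoh.pushComp t f)) G
  have h3 := congrArg (fun ψ => ψ.hom.app (op (EtCoh.top X))) h
  have hT : IsTerminal ((EtCoh.bc f).obj ((EtCoh.bc t).obj (EtCoh.top X))) :=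
    IsTerminal.isTerminalObj (EtCoh.bc f) _ (EtCore.bcTopIsTerminal t)
  refine comp_aux _ _ _ _ _ _ _ _ _ _ _ _
    (((EtCoh.pullPushAdj f).unit.app ((EtCoh.pull t).obj G)).hom.naturality
      (EtCore.bcTopIso t).inv.op)
    (((EtCore.pullComp f t).hom.app G).hom.naturality (EtCore.bcTopIso (f ≫ t)).inv.op)
    h3 ?_
  refine (Functor.map_comp _ _ _).symm.trans (Eq.trans ?_ (Functor.map_comp _ _ _))
  congr 1
  exact congrArg Quiver.Hom.op (hT.hom_ext _ _)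

/-- In degree zero, `HpullVia f t f₀ ∘ Hpull t = Hpull f₀`. -/
lemma HpullVia_Hpull_zero (f : Y' ⟶ Y) (t : Y ⟶ X) (f₀ : Y' ⟶ X) (w : f ≫ t = f₀)
    [PreservesFiniteLimits (EtCoh.pull f)] [PreservesFiniteLimits (EtCoh.pull t)]
    [PreservesFiniteLimits (EtCoh.pull f₀)] (G : EtCoh.Ab X) (x : EtCoh.H X G 0) :
    EtCore.HpullVia f t f₀ w G 0 (EtCore.Hpull t G 0 x) = EtCore.Hpull f₀ G 0 x := by
  subst w
  apply (Sheaf.H.equiv₀ _ (EtCore.topIsTerminal Y')).injective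
  have e1 : EtCore.HpullVia f t (f ≫ t) rfl G 0 (EtCore.Hpull t G 0 x) =
      Sheaf.H.map ((εIso f t (f ≫ t) rfl).hom.app G) 0
        (EtCore.Hpull f ((EtCoh.pull t).obj G) 0 (EtCore.Hpull t G 0 x)) := rfl
  rw [e1, ← Sheaf.H.equiv₀_naturality, equiv₀_Hpull (f ≫ t)]
  have e2 := equiv₀_Hpull f ((EtCoh.pull t).obj G) (EtCore.Hpull t G 0 x)
  rw [equiv₀_Hpull t] at e2
  refine (congrArg (fun z => ((εIso f t (f ≫ t) rfl).hom.app G).hom.app (op (EtCoh.top Y')) z)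
    e2).trans ?_
  have h := congrArg (fun ψ => (ConcreteCategory.hom ψ)
    (Sheaf.H.equiv₀ G (EtCore.topIsTerminal X) x)) (ps_comp f t G)
  have h' : ps f ((EtCoh.pull t).obj G) (ps t G (Sheaf.H.equiv₀ G (EtCore.topIsTerminal X) x)) =
      ((EtCore.pullComp f t).hom.app G).hom.app (op (EtCoh.top Y'))
        (ps (f ≫ t) G (Sheaf.H.equiv₀ G (EtCore.topIsTerminal X) x)) := h
  dsimp only
  rw [h']
  have h4 : (EtCore.pullComp f t).hom.app G ≫ (εIso f t (f ≫ t) rfl).hom.app G = 𝟙 _ := by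
    simp [εIso, EtCore.pullCongr]
  have h5 := congrArg (fun ψ => (ConcreteCategory.hom (ψ.hom.app (op (EtCoh.top Y'))))
    (ps (f ≫ t) G (Sheaf.H.equiv₀ G (EtCore.topIsTerminal X) x))) h4
  exact h5

end Comp

end Groth.Agent.Lib.Helper22.EtLoc
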