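import Groth.Agent.Lib.Helper22.EtLoc.Push
import Groth.Agent.Lib.Helper22.EtLoc.Deg0

/-!
# Sheaves acyclic on every étale scheme

`AcyclicAll F`: `H^q(W, F|_W) = 0` for all étale `W ⟶ X` and `q > 0`. Equivalent to Čech-flasqueness.
-/

set_option autoImplicit false

universe u

open CategoryTheory CategoryTheory.Limits Opposite AlgebraicGeometry Abelian

namespace Groth.Agent.Lib.Helper22.EtLoc

open Groth.Agent.Lib.Helper22.CechU.Etale Groth.Agent.Lib.Helper22.DimShift

variable {X Y : Scheme.{u}}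

/-- Acyclicity on every étale `X`-scheme. -/
def AcyclicAll (F : EtCoh.Ab X) : Prop :=
  ∀ (W : X.Etale) (q : ℕ), 0 < q →
    Subsingleton (EtCoh.H W.left ((EtCoh.pull W.hom).obj F) q)

/-- If `H¹(Y, T.X₁) = 0` then `T.g` is surjective on global sections. -/
lemma global_surjective_of_H1 (T : ShortComplex (EtCoh.Ab Y)) (hT : T.ShortExact)
    [Subsingleton (EtCoh.H Y T.X₁ 1)] :
    Function.Surjective (T.g.hom.app (op (EtCoh.top Y))) := by
  intro t
  let x₃ : EtCoh.H Y T.X₃ 0 := (Sheaf.H.equiv₀ _ (EtCore.topIsTerminal Y)).symm t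
  have h0 : x₃.comp hT.extClass (zero_add 1) = 0 :=
    Subsingleton.elim (α := EtCoh.H Y T.X₁ 1) _ _
  obtain ⟨x₂, hx₂⟩ := Ext.covariant_sequence_exact₃ _ hT x₃ (zero_add 1) h0
  refine ⟨Sheaf.H.equiv₀ _ (EtCore.topIsTerminal Y) x₂, ?_⟩
  have h := Sheaf.H.equiv₀_naturality (hT := EtCore.topIsTerminal Y) T.g x₂
  rw [h, Sheaf.H.map_apply, hx₂]
  exact AddEquiv.apply_symm_apply _ t

lemma σ_naturality (j : Y ⟶ X) [Etale j] {G G' : EtCoh.Ab X} (ψ : G ⟶ G') :
    ((EtCoh.pull j).map ψ).hom.app (op (EtCoh.top Y)) ≫ (σ j G').hom =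
      (σ j G).hom ≫ ψ.hom.app (op ((pj j).obj (EtCoh.top Y))) := by
  have h := (pullIsoRes j).hom.naturality ψ
  exact congrArg (fun φ => φ.hom.app (op (EtCoh.top Y))) h

/-- If `H¹(Y, j^* S.X₁) = 0` for an étale `j : Y ⟶ X`, then `S.g` is surjective on sections
over `Y → X`. -/
lemma sections_surjective_pj (j : Y ⟶ X) [Etale j] (S : ShortComplex (EtCoh.Ab X))
    (hS : S.ShortExact) [Subsingleton (EtCoh.H Y ((EtCoh.pull j).obj S.X₁) 1)] :
    Function.Surjective (S.g.hom.app (op ((pj j).obj (EtCoh.top Y)))) := by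
  intro t
  have hT := hS.map_of_exact (EtCoh.pull j)
  have : Subsingleton (EtCoh.H Y (S.map (EtCoh.pull j)).X₁ 1) := ‹_›
  obtain ⟨s, hs⟩ := global_surjective_of_H1 (S.map (EtCoh.pull j)) hT ((σ j S.X₃).inv t)
  refine ⟨(σ j S.X₂).hom s, ?_⟩
  have h := congrArg (fun φ => (ConcreteCategory.hom φ) s) (σ_naturality j S.g)
  refine h.symm.trans ?_
  change (σ j S.X₃).hom (((EtCoh.pull j).map S.g).hom.app (op (EtCoh.top Y)) s) = t
  have hs' : ((EtCoh.pull j).map S.g).hom.app (op (EtCoh.top Y)) s = (σ j S.X₃).inv t := hs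
  rw [hs']
  exact congrArg (fun φ => (ConcreteCategory.hom φ) t) (σ j S.X₃).inv_hom_id

/-- Every object of the small étale site is `pj W.hom` of the top of `W.left`. -/
noncomputable def pjTopIso (W : X.Etale) : (pj W.hom).obj (EtCoh.top W.left) ≅ W :=
  MorphismProperty.Over.isoMk (Iso.refl _) (by
    change 𝟙 _ ≫ W.hom = 𝟙 _ ≫ W.hom
    rfl)

/-- If `H¹(W, S.X₁|_W) = 0` then `S.g` is surjective on sections over `W`. -/
lemma sections_surjective_of_H1 (S : ShortComplex (EtCoh.Ab X)) (hS : S.ShortExact)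
    (W : X.Etale) (h : Subsingleton (EtCoh.H W.left ((EtCoh.pull W.hom).obj S.X₁) 1)) :
    Function.Surjective (S.g.hom.app (op W)) := by
  intro t
  have hE : Etale W.hom := W.prop
  obtain ⟨s, hs⟩ := @sections_surjective_pj X W.left W.hom hE S hS h
    (S.X₃.obj.map (pjTopIso W).hom.op t)
  refine ⟨S.X₂.obj.map (pjTopIso W).inv.op s, ?_⟩
  have h1 := NatTrans.naturality_apply S.g.hom (pjTopIso W).inv.op s
  rw [h1, hs, ← Functor.map_comp_apply, ← op_comp, Iso.inv_hom_id, op_id,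
    Functor.map_id_apply]

/-- Čech-flasque sheaves are acyclic on every étale scheme. -/
theorem acyclicAll_of_cechFlasque (F : EtCoh.Ab X) (hF : CechFlasque F) : AcyclicAll F := by
  intro W q hq
  obtain ⟨n, rfl⟩ : ∃ n, q = n + 1 := ⟨q - 1, by omega⟩
  have hE : Etale W.hom := W.prop
  exact subsingleton_H_pull_of_cechFlasque W.hom F hF n

/-- Quotient of a Čech-flasque sheaf by a sheaf acyclic on every étale scheme. -/
theorem acyclicAll_quot (S : ShortComplex (EtCoh.Ab X)) (hS : S.ShortExact)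
    (h1 : AcyclicAll S.X₁) (h2 : AcyclicAll S.X₂) : AcyclicAll S.X₃ := by
  intro W q hq
  have hE : Etale W.hom := W.prop
  have hT := hS.map_of_exact (EtCoh.pull W.hom)
  refine subsingleton_of_forall_eq 0 fun x₃ => ?_
  have h0 : x₃.comp hT.extClass rfl = 0 :=
    @Subsingleton.elim _ (h1 W (q + 1) (Nat.succ_pos _)) _ _
  obtain ⟨x₂, hx₂⟩ := Ext.covariant_sequence_exact₃ _ hT x₃ rfl h0
  have hx₂0 : x₂ = 0 := @Subsingleton.elim _ (h2 W q hq) _ _
  subst hx₂0
  rw [← hx₂]
  exact Ext.zero_comp _ _ (Ext.mk₀ (S.map (EtCoh.pull W.hom)).g) _ (add_zero q)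

variable [∀ U : X.Etale, HasFiniteProducts (Over U)]

open Groth.Agent.Lib.Helper22.CechU in
/-- Sheaves acyclic on every étale scheme are Čech-acyclic (Cartan's criterion, converse part). -/
theorem acyc_of_acyclicAll (n : ℕ) : ∀ (F : EtCoh.Ab X), AcyclicAll F →
    ∀ (U : X.Etale) (ι : Type (u + 1)) (Uf : ι → Over U),
    (∀ x : ↥(U.left), ∃ (i : ι) (y : ↥((Uf i).left.left)), (Uf i).hom.left.base y = x) →
    Acyc Uf (Site.rP F.obj) n := by
  induction n with
  | zero =>
    intro F hF U ι Uf hU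
    have hS := injSC_shortExact F
    have hI : CechFlasque (injSC F).X₂ := cechFlasque_of_injective _
    have hsurj : ∀ W : X.Etale, Function.Surjective ((injSC F).g.hom.app (op W)) :=
      fun W => sections_surjective_of_H1 _ hS W (hF W 1 Nat.one_pos)
    have hse := Site.secExact_of_shortExact Uf (injSC F) hS (fun n σ => hsurj _)
    have hY := ofArrows_mem Uf hU
    refine hse.acyc_sub_zero
      ((isZero_homology_succ_iff_acyc Uf _ 0).1 (hI U ι Uf hU 1 Nat.one_pos)) ?_
    intro a'' ha''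
    obtain ⟨s'', hs''⟩ := Site.exists_section_of_cocycle Uf (injSC F).X₃ (isSheaf_forget _) hY
      a'' ha''
    obtain ⟨s, hs⟩ := hsurj U s''
    refine ⟨Site.resCochain Uf (injSC F).X₂.obj s 0, Site.d_resCochain_zero _ _ _, ?_⟩
    rw [Site.cmap_resCochain, hs, hs'']
  | succ n ih =>
    intro F hF U ι Uf hU
    have hS := injSC_shortExact F
    have hI : CechFlasque (injSC F).X₂ := cechFlasque_of_injective _
    have hsurj : ∀ W : X.Etale, Function.Surjective ((injSC F).g.hom.app (op W)) :=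
      fun W => sections_surjective_of_H1 _ hS W (hF W 1 Nat.one_pos)
    have hse := Site.secExact_of_shortExact Uf (injSC F) hS (fun n σ => hsurj _)
    have hQ : AcyclicAll (injSC F).X₃ :=
      acyclicAll_quot _ hS hF (acyclicAll_of_cechFlasque _ hI)
    exact hse.acyc_sub_succ n
      ((isZero_homology_succ_iff_acyc Uf _ (n + 1)).1 (hI U ι Uf hU (n + 2) (Nat.succ_pos _)))
      (ih _ hQ U ι Uf hU)

/-- Sheaves acyclic on every étale scheme are Čech-flasque. -/
theorem cechFlasque_of_acyclicAll (F : EtCoh.Ab X) (hF : AcyclicAll F) : CechFlasque F := by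
  intro U ι Uf hU p hp
  obtain ⟨n, rfl⟩ : ∃ n, p = n + 1 := ⟨p - 1, by omega⟩
  exact (Groth.Agent.Lib.Helper22.CechU.isZero_homology_succ_iff_acyc Uf _ n).2
    (acyc_of_acyclicAll n F hF U ι Uf hU)

/-- Direct images preserve acyclicity on every étale scheme. -/
theorem acyclicAll_push (f : X ⟶ Y) (F : EtCoh.Ab X) (hF : AcyclicAll F) :
    AcyclicAll ((EtCoh.push f).obj F) :=
  acyclicAll_of_cechFlasque _ (cechFlasque_push f F (cechFlasque_of_acyclicAll F hF))

end Groth.Agent.Lib.Helper22.EtLoc
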