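import Groth.Agent.Lib.Helper22.EtLoc.Clopen

/-!
# Étale excision in degree zero (helper22)

For `φ : U' ⟶ U` in the small étale site and an open `W ⊆ U` such that `φ` is bijective over the
closed complement of `W` with trivial residue field extensions there: sections of an abelian sheaf
over `U` vanishing on `W` correspond bijectively to sections over `U'` vanishing on `φ⁻¹ W`
(`inj_excision`, `surj_excision`).
-/

set_option autoImplicit false
universe u
open CategoryTheory CategoryTheory.Limits AlgebraicGeometry Opposite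

namespace Groth.Agent.Lib.Helper22.EtLoc.Excision

section Sch
variable {X Y S : Scheme.{u}} {f : X ⟶ S} {g : Y ⟶ S}
open Scheme.Pullback

lemma subsingleton_Spec_tensor (T : Triplet f g)
    (hs : Function.Surjective (f.residueFieldMap T.x)) : Subsingleton ↥(Spec T.tensor) := by
  let a := (S.residueFieldCongr T.hx).inv ≫ f.residueFieldMap T.x
  let b := (S.residueFieldCongr T.hy).inv ≫ g.residueFieldMap T.y
  have ha : IsIso a := by
    have hbij : Function.Bijective a.hom := by
      refine ⟨RingHom.injective _, ?_⟩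
      intro y
      obtain ⟨z, hz⟩ := hs y
      refine ⟨(S.residueFieldCongr T.hx).hom z, ?_⟩
      change (f.residueFieldMap T.x) ((S.residueFieldCongr T.hx).inv ((S.residueFieldCongr T.hx).hom z)) = y
      rw [← hz]
      congr 1
      exact congrArg (fun φ => φ z) (congrArg CommRingCat.Hom.hom (S.residueFieldCongr T.hx).hom_inv_id)
    exact (ConcreteCategory.isIso_iff_bijective a).2 hbij
  have h := T.isPullback_SpecMap_tensor
  have : IsIso (Spec.map a) := inferInstance
  have hiso : IsIso (Spec.map T.tensorInr) := h.isIso_snd_of_isIso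
  let e : Spec T.tensor ≅ Spec (Y.residueField T.y) := asIso (Spec.map T.tensorInr)
  have hinj : Function.Injective e.hom := by
    intro p q hpq
    rw [← Scheme.hom_inv_apply e p, ← Scheme.hom_inv_apply e q, hpq]
  have : Subsingleton ↥(Spec (Y.residueField T.y)) :=
    inferInstanceAs (Subsingleton (PrimeSpectrum (Y.residueField T.y)))
  exact hinj.subsingleton

lemma eq_of_fst_snd (p q : ↑(pullback f g)) (h1 : pullback.fst f g p = pullback.fst f g q)
    (h2 : pullback.snd f g p = pullback.snd f g q)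
    (hs : Function.Surjective (f.residueFieldMap (pullback.fst f g q))) : p = q := by
  apply (carrierEquiv (f := f) (g := g)).injective
  rw [carrierEquiv_eq_iff]
  have : Subsingleton ↥(Spec (Triplet.ofPoint q).tensor) :=
    subsingleton_Spec_tensor (Triplet.ofPoint q) hs
  exact ⟨Triplet.ext h1 h2, Subsingleton.elim (α := ↥(Spec (Triplet.ofPoint q).tensor)) _ _⟩

end Sch

open Groth.Agent.Lib.Helper22.CechU.Etale Groth.Agent.Lib.Helper22.EtLoc.Clopen

noncomputable section

variable {X : Scheme.{u}} (F : EtCoh.Ab X)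

/-- Gluing over a two-element cover. -/
lemma glue2' {P A B : X.Etale} (a : A ⟶ P) (b : B ⟶ P)
    (hcov : ∀ p : P.left, p ∈ Set.range a.left.base ∨ p ∈ Set.range b.left.base)
    (s : F.obj.obj (op A)) (t : F.obj.obj (op B))
    (haa : ∀ (Z : X.Etale) (g₁ g₂ : Z ⟶ A), g₁ ≫ a = g₂ ≫ a →
      F.obj.map g₁.op s = F.obj.map g₂.op s)
    (hbb : ∀ (Z : X.Etale) (g₁ g₂ : Z ⟶ B), g₁ ≫ b = g₂ ≫ b →
      F.obj.map g₁.op t = F.obj.map g₂.op t)
    (hab : ∀ (Z : X.Etale) (g₁ : Z ⟶ A) (g₂ : Z ⟶ B), g₁ ≫ a = g₂ ≫ b →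
      F.obj.map g₁.op s = F.obj.map g₂.op t) :
    ∃ r : F.obj.obj (op P), F.obj.map a.op r = s ∧ F.obj.map b.op r = t := by
  have hs := (Presieve.isSheafFor_arrows_iff (F.obj ⋙ forget AddCommGrpCat.{u + 1})
    (cov2π a b)).1 (isSheafFor_cover2 F a b hcov)
  let x : (i : Bool) → (F.obj ⋙ forget AddCommGrpCat.{u + 1}).obj (op (cov2 A B i)) := fun i =>
    match i with
    | true => s
    | false => t
  have hx : Presieve.Arrows.Compatible (F.obj ⋙ forget AddCommGrpCat.{u + 1}) (cov2π a b) x := by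
    intro i j Z gi gj hg
    cases i <;> cases j
    · exact hbb Z gi gj hg
    · exact (hab Z gj gi hg.symm).symm
    · exact hab Z gi gj hg
    · exact haa Z gi gj hg
  obtain ⟨r, hr1, -⟩ := hs x hx
  exact ⟨r, hr1 true, hr1 false⟩

/-- Scheme-level lift through an open subscheme. -/
def liftOpenS {Y T : Scheme.{u}} (g : T ⟶ Y) (W : Y.Opens) (hg : ∀ z : T, g z ∈ W) :
    T ⟶ W.toScheme :=
  IsOpenImmersion.lift W.ι g (by
    rintro _ ⟨z, rfl⟩
    rw [Scheme.Opens.range_ι]
    exact hg z)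

@[reassoc]
lemma liftOpenS_ι {Y T : Scheme.{u}} (g : T ⟶ Y) (W : Y.Opens) (hg : ∀ z : T, g z ∈ W) :
    liftOpenS g W hg ≫ W.ι = g :=
  IsOpenImmersion.lift_fac _ _ _

/-- A morphism with image in an open factors through the open subscheme. -/
def liftOpen {Z P : X.Etale} (g : Z ⟶ P) (W : P.left.Opens)
    (hg : ∀ z : Z.left, g.left z ∈ W) : Z ⟶ openSub P W :=
  MorphismProperty.Over.homMk (liftOpenS g.left W hg) (by
      change liftOpenS g.left W hg ≫ W.ι ≫ (P.hom : P.left ⟶ X) = Z.hom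
      rw [liftOpenS_ι_assoc]
      exact Over.w g.hom) trivial

lemma liftOpen_ι {Z P : X.Etale} (g : Z ⟶ P) (W : P.left.Opens)
    (hg : ∀ z : Z.left, g.left z ∈ W) : liftOpen g W hg ≫ openSubι P W = g := by
  apply MorphismProperty.Over.Hom.ext
  exact liftOpenS_ι g.left W hg

lemma map_comp_apply {A B C : X.Etale} (f : A ⟶ B) (g : B ⟶ C) (s : F.obj.obj (op C)) :
    F.obj.map (f ≫ g).op s = F.obj.map f.op (F.obj.map g.op s) := by
  rw [op_comp, Functor.map_comp]
  rfl

/-- A section vanishing on an open subscheme vanishes along every map landing in it. -/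
lemma map_eq_zero_of_mem {Z P : X.Etale} (g : Z ⟶ P) (W : P.left.Opens)
    (s : F.obj.obj (op P)) (hs : F.obj.map (openSubι P W).op s = 0)
    (hg : ∀ z : Z.left, g.left z ∈ W) : F.obj.map g.op s = 0 := by
  rw [← liftOpen_ι g W hg, map_comp_apply, hs, map_zero]

section PP

variable {U U' : X.Etale} (φ : U' ⟶ U)

lemma etale_left : Etale (φ.left : U'.left ⟶ U.left) := by
  have h1 : Etale (U.hom : U.left ⟶ X) := U.prop
  have h2 : Etale ((φ.left : U'.left ⟶ U.left) ≫ (U.hom : U.left ⟶ X)) := by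
    have e : (φ.left : U'.left ⟶ U.left) ≫ (U.hom : U.left ⟶ X) = U'.hom := Over.w φ.hom
    rw [e]
    exact U'.prop
  exact MorphismProperty.of_postcomp (W := @Etale) (W' := @Etale) _ _ h1 h2

/-- The fibre product `U' ×_U U'` as an étale `X`-scheme. -/
def PP : X.Etale :=
  have : Etale (φ.left : U'.left ⟶ U.left) := etale_left φ
  have : Etale (U'.hom : U'.left ⟶ X) := U'.prop
  Scheme.Etale.mk (pullback.fst (φ.left : U'.left ⟶ U.left) φ.left ≫ (U'.hom : U'.left ⟶ X))

def pr₁ : PP φ ⟶ U' :=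
  MorphismProperty.Over.homMk (pullback.fst (φ.left : U'.left ⟶ U.left) φ.left) rfl trivial

lemma w_left : (φ.left : U'.left ⟶ U.left) ≫ (U.hom : U.left ⟶ X) = U'.hom := Over.w φ.hom

def pr₂ : PP φ ⟶ U' :=
  MorphismProperty.Over.homMk (pullback.snd (φ.left : U'.left ⟶ U.left) φ.left) (by
    change pullback.snd (φ.left : U'.left ⟶ U.left) φ.left ≫ (U'.hom : U'.left ⟶ X) =
      pullback.fst (φ.left : U'.left ⟶ U.left) φ.left ≫ (U'.hom : U'.left ⟶ X)
    rw [← w_left φ, ← Category.assoc, ← Category.assoc, pullback.condition]) trivial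

def dg : U' ⟶ PP φ :=
  MorphismProperty.Over.homMk (pullback.diagonal (φ.left : U'.left ⟶ U.left)) (by
    change pullback.diagonal (φ.left : U'.left ⟶ U.left) ≫
      pullback.fst (φ.left : U'.left ⟶ U.left) φ.left ≫ (U'.hom : U'.left ⟶ X) = U'.hom
    rw [pullback.diagonal_fst_assoc]) trivial

lemma dg_pr₁ : dg φ ≫ pr₁ φ = 𝟙 U' := by
  apply MorphismProperty.Over.Hom.ext
  exact pullback.diagonal_fst _

lemma dg_pr₂ : dg φ ≫ pr₂ φ = 𝟙 U' := by
  apply MorphismProperty.Over.Hom.ext
  exact pullback.diagonal_snd _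

lemma pr_cond : pr₁ φ ≫ φ = pr₂ φ ≫ φ := by
  apply MorphismProperty.Over.Hom.ext
  exact pullback.condition

def pairMap {Z : X.Etale} (g₁ g₂ : Z ⟶ U') (h : g₁ ≫ φ = g₂ ≫ φ) : Z ⟶ PP φ :=
  MorphismProperty.Over.homMk (pullback.lift (g₁.left : Z.left ⟶ U'.left) g₂.left
    (congrArg (fun ψ => ψ.left) h)) (by
    change pullback.lift (g₁.left : Z.left ⟶ U'.left) g₂.left _ ≫
      pullback.fst (φ.left : U'.left ⟶ U.left) φ.left ≫ (U'.hom : U'.left ⟶ X) = Z.hom
    rw [pullback.lift_fst_assoc]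
    exact Over.w g₁.hom) trivial

lemma pairMap_pr₁ {Z : X.Etale} (g₁ g₂ : Z ⟶ U') (h : g₁ ≫ φ = g₂ ≫ φ) :
    pairMap φ g₁ g₂ h ≫ pr₁ φ = g₁ := by
  apply MorphismProperty.Over.Hom.ext
  exact pullback.lift_fst _ _ _

lemma pairMap_pr₂ {Z : X.Etale} (g₁ g₂ : Z ⟶ U') (h : g₁ ≫ φ = g₂ ≫ φ) :
    pairMap φ g₁ g₂ h ≫ pr₂ φ = g₂ := by
  apply MorphismProperty.Over.Hom.ext
  exact pullback.lift_snd _ _ _

end PP

section Main

variable {U U' : X.Etale} (φ : U' ⟶ U) (W : U.left.Opens)
  (h1 : ∀ x' y' : U'.left, φ.left x' ∉ W → φ.left x' = φ.left y' → x' = y')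
  (h2 : ∀ z : U.left, z ∉ W → ∃ x' : U'.left, φ.left x' = z)
  (h3 : ∀ x' : U'.left, φ.left x' ∉ W →
    Function.Surjective ((φ.left : U'.left ⟶ U.left).residueFieldMap x'))

lemma mem_range_openSubι {P : X.Etale} (O : P.left.Opens) (p : P.left) (hp : p ∈ O) :
    p ∈ Set.range (openSubι P O).left.base :=
  ⟨⟨p, hp⟩, rfl⟩

include h2 in
lemma hcov_main (p : U.left) :
    p ∈ Set.range φ.left.base ∨ p ∈ Set.range (openSubι U W).left.base := by
  by_cases hp : p ∈ W
  · exact Or.inr (mem_range_openSubι W p hp)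
  · obtain ⟨x', hx'⟩ := h2 p hp
    exact Or.inl ⟨x', hx'⟩

include h2 in
theorem inj_excision (s : F.obj.obj (op U)) (hs1 : F.obj.map (openSubι U W).op s = 0)
    (hs2 : F.obj.map φ.op s = 0) : s = 0 := by
  refine sep2 F φ (openSubι U W) (hcov_main φ W h2) s 0 ?_ ?_
  · rw [hs2, map_zero]
  · rw [hs1, map_zero]

include h1 h3 in
lemma PP_cov (p : (PP φ).left) :
    p ∈ Set.range (dg φ).left.base ∨
      p ∈ Set.range (openSubι (PP φ) ((pr₁ φ).left ⁻¹ᵁ (φ.left ⁻¹ᵁ W))).left.base := by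
  let fl : U'.left ⟶ U.left := φ.left
  let p' : ↑(pullback fl fl) := p
  by_cases hx : fl (pullback.fst fl fl p') ∈ W
  · exact Or.inr (mem_range_openSubι _ p hx)
  · left
    have hc : fl (pullback.fst fl fl p') = fl (pullback.snd fl fl p') := by
      have := congrArg (fun ψ : pullback fl fl ⟶ U.left => ψ p') (pullback.condition (f := fl) (g := fl))
      simpa only [Scheme.Hom.comp_apply] using this
    have hxy : pullback.fst fl fl p' = pullback.snd fl fl p' := h1 _ _ hx hc
    let x' : U'.left := pullback.fst fl fl p'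
    have e1 : pullback.fst fl fl (pullback.diagonal fl x') = x' := by
      have := congrArg (fun ψ : U'.left ⟶ U'.left => ψ x') (pullback.diagonal_fst fl)
      simp only [Scheme.Hom.comp_apply] at this
      exact this
    have e2 : pullback.snd fl fl (pullback.diagonal fl x') = x' := by
      have := congrArg (fun ψ : U'.left ⟶ U'.left => ψ x') (pullback.diagonal_snd fl)
      simp only [Scheme.Hom.comp_apply] at this
      exact this
    have hs : Function.Surjective
        (fl.residueFieldMap (pullback.fst fl fl (pullback.diagonal fl x'))) := by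
      apply h3
      rw [e1]
      exact hx
    refine ⟨x', ?_⟩
    exact (eq_of_fst_snd p' (pullback.diagonal fl x') e1.symm (hxy.symm.trans e2.symm) hs).symm

include h1 h3 in
lemma pr_eq (s' : F.obj.obj (op U'))
    (hs' : F.obj.map (openSubι U' (φ.left ⁻¹ᵁ W)).op s' = 0) :
    F.obj.map (pr₁ φ).op s' = F.obj.map (pr₂ φ).op s' := by
  refine sep2 F (dg φ) (openSubι (PP φ) ((pr₁ φ).left ⁻¹ᵁ (φ.left ⁻¹ᵁ W)))
    (PP_cov φ W h1 h3) _ _ ?_ ?_
  · rw [← map_comp_apply, ← map_comp_apply, dg_pr₁, dg_pr₂]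
  · rw [← map_comp_apply, ← map_comp_apply]
    rw [map_eq_zero_of_mem F _ (φ.left ⁻¹ᵁ W) s' hs', map_eq_zero_of_mem F _ (φ.left ⁻¹ᵁ W) s' hs']
    · rintro ⟨p, hp⟩
      let fl : U'.left ⟶ U.left := φ.left
      let p' : ↑(pullback fl fl) := p
      have hc : fl (pullback.fst fl fl p') = fl (pullback.snd fl fl p') := by
        have := congrArg (fun ψ : pullback fl fl ⟶ U.left => ψ p')
          (pullback.condition (f := fl) (g := fl))
        simpa only [Scheme.Hom.comp_apply] using this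
      change fl (pullback.snd fl fl p') ∈ W
      rw [← hc]
      exact hp
    · rintro ⟨p, hp⟩
      exact hp

include h1 h2 h3 in
theorem surj_excision (s' : F.obj.obj (op U'))
    (hs' : F.obj.map (openSubι U' (φ.left ⁻¹ᵁ W)).op s' = 0) :
    ∃ s : F.obj.obj (op U), F.obj.map (openSubι U W).op s = 0 ∧ F.obj.map φ.op s = s' := by
  refine Exists.imp (fun r hr => ⟨hr.2, hr.1⟩)
    (glue2' F φ (openSubι U W) (hcov_main φ W h2) s' 0 ?_ ?_ ?_)
  · intro Z g₁ g₂ h
    rw [← pairMap_pr₁ φ g₁ g₂ h, map_comp_apply, pr_eq F φ W h1 h3 s' hs', ← map_comp_apply,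
      pairMap_pr₂]
  · intro Z g₁ g₂ h
    rw [map_zero, map_zero]
  · intro Z g₁ g₂ h
    rw [map_zero]
    refine map_eq_zero_of_mem F g₁ (φ.left ⁻¹ᵁ W) s' hs' ?_
    intro z
    have h0 : g₁.left ≫ φ.left = g₂.left ≫ (openSubι U W).left := congrArg (fun ψ => ψ.left) h
    have h1' : φ.left (g₁.left z) = (openSubι U W).left (g₂.left z) := by
      have := congrArg (fun ψ : Z.left ⟶ U.left => ψ z) h0
      simpa only [Scheme.Hom.comp_apply] using this
    change φ.left (g₁.left z) ∈ W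
    rw [h1']
    exact (g₂.left z).2

end Main

end

end Groth.Agent.Lib.Helper22.EtLoc.Excision
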