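import Groth.Agent.Lib.Helper22.EtLoc.Push
import Groth.Agent.Lib.Helper22.CechEdge.ExtDelta

/-!
# Pullback on étale cohomology as a morphism of δ-functors
-/

set_option autoImplicit false

universe u

open CategoryTheory CategoryTheory.Limits Opposite AlgebraicGeometry Abelian

namespace Groth.Agent.Lib.Helper22.EtLoc

open Groth.Agent.Lib.Helper22.CechEdge

variable {X Y Y' : Scheme.{u}}

/-- The δ-functor `F ↦ H^•(X, F)`. -/
noncomputable abbrev TX (X : Scheme.{u}) :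
    DeltaF.CohDeltaFunctor (EtCoh.Ab X) AddCommGrpCat.{u + 1} ℕ :=
  extDelta (𝟭 (EtCoh.Ab X)) (EtCoh.const X ℤ)

/-- The δ-functor `F ↦ H^•(Y, j^* F)`. -/
noncomputable abbrev TD (j : Y ⟶ X) [PreservesFiniteLimits (EtCoh.pull j)] :
    DeltaF.CohDeltaFunctor (EtCoh.Ab X) AddCommGrpCat.{u + 1} ℕ :=
  extDelta (EtCoh.pull j) (EtCoh.const Y ℤ)

lemma Hpull_apply (j : Y ⟶ X) [PreservesFiniteLimits (EtCoh.pull j)] (G : EtCoh.Ab X) (n : ℕ)
    (x : EtCoh.H X G n) :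
    EtCore.Hpull j G n x = (Ext.mk₀ (EtCore.pullConst j ℤ).inv).comp
      (x.mapExactFunctor (EtCoh.pull j)) (zero_add n) := rfl

lemma Hpull_naturality (j : Y ⟶ X) [PreservesFiniteLimits (EtCoh.pull j)] {F F' : EtCoh.Ab X}
    (ψ : F ⟶ F') (n : ℕ) (x : Ext (EtCoh.const X ℤ) F n) :
    EtCore.Hpull j F' n (x.comp (Ext.mk₀ ψ) (add_zero n)) =
      (EtCore.Hpull j F n x).comp (Ext.mk₀ ((EtCoh.pull j).map ψ)) (add_zero n) := by
  rw [Hpull_apply, Hpull_apply, Ext.mapExactFunctor_comp, Ext.mapExactFunctor_mk₀,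
    Ext.comp_assoc_of_third_deg_zero]

lemma Hpull_δ (j : Y ⟶ X) [PreservesFiniteLimits (EtCoh.pull j)] (S : ShortComplex (EtCoh.Ab X))
    (hS : S.ShortExact) (n₀ n₁ : ℕ) (h : n₀ + 1 = n₁) (x : Ext (EtCoh.const X ℤ) S.X₃ n₀) :
    EtCore.Hpull j S.X₁ n₁ (x.comp hS.extClass h) =
      (EtCore.Hpull j S.X₃ n₀ x).comp (hS.map_of_exact (EtCoh.pull j)).extClass h := by
  rw [Hpull_apply, Hpull_apply, Ext.mapExactFunctor_comp,
    Ext.mapExactFunctor_extClass (EtCoh.pull j) hS]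
  exact (Ext.comp_assoc _ _ _ (zero_add n₀) h (by omega)).symm

/-- `Hpull` as a morphism of δ-functors. -/
noncomputable def HpullHom (j : Y ⟶ X) [PreservesFiniteLimits (EtCoh.pull j)] : TX X ⟶ TD j where
  app n :=
    { app := fun F => AddCommGrpCat.ofHom (EtCore.Hpull j F n)
      naturality := fun F F' ψ => by
        ext x
        exact Hpull_naturality j ψ n x }
  comm S hS n₀ n₁ h := by
    ext x
    exact Hpull_δ j S hS n₀ n₁ h x

section Props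

variable {𝒜 : Type*} [Category 𝒜] [Abelian 𝒜] [HasExt.{u + 1} 𝒜]
  {ℬ : Type*} [Category ℬ] [Abelian ℬ]
  (Φ : ℬ ⥤ 𝒜) [Φ.Additive] [PreservesFiniteLimits Φ] [PreservesFiniteColimits Φ] (A : 𝒜)

lemma extDelta_zeroMono : (extDelta Φ A).ZeroMono := by
  intro S hS
  have : Mono (Φ.map S.f) := (hS.map_of_exact Φ).mono_f
  exact Ext.mono_postcomp_mk₀_of_mono A (Φ.map S.f)

end Props

lemma TX_isEffaceable (X : Scheme.{u}) : (TX X).IsEffaceable :=
  extDelta_isEffaceable _ _ (fun _ h => h)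

lemma TX_zeroMono (X : Scheme.{u}) : (TX X).ZeroMono := extDelta_zeroMono _ _

lemma TD_zeroMono (j : Y ⟶ X) [PreservesFiniteLimits (EtCoh.pull j)] : (TD j).ZeroMono :=
  extDelta_zeroMono _ _

lemma TD_isEffaceable (j : Y ⟶ X) [Etale j] [PreservesFiniteLimits (EtCoh.pull j)] :
    (TD j).IsEffaceable := by
  intro n F
  refine ⟨Injective.under F, Injective.ι F, inferInstance, ?_⟩
  have : Subsingleton (EtCoh.H Y ((EtCoh.pull j).obj (Injective.under F)) (n + 1)) :=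
    subsingleton_H_pull_of_cechFlasque j _ (cechFlasque_of_injective _) n
  ext x
  exact Subsingleton.elim (α := EtCoh.H Y ((EtCoh.pull j).obj (Injective.under F)) (n + 1)) _ _

/-- Pullback along an étale morphism is exact. -/
instance preservesFiniteLimits_pull_of_etale (j : Y ⟶ X) [Etale j] :
    PreservesFiniteLimits (EtCoh.pull j) :=
  have : PreservesFiniteLimits (res j) := by
    unfold res
    infer_instance
  preservesFiniteLimits_of_natIso (pullIsoRes j).symm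

section Via

variable (f : Y' ⟶ Y) (t : Y ⟶ X) (f₀ : Y' ⟶ X) (w : f ≫ t = f₀)

/-- The canonical isomorphism `f^* t^* ≅ f₀^*`. -/
noncomputable def εIso : EtCoh.pull t ⋙ EtCoh.pull f ≅ EtCoh.pull f₀ :=
  (EtCore.pullComp f t).symm ≪≫ EtCore.pullCongr w

variable [PreservesFiniteLimits (EtCoh.pull f)]

lemma HpullVia_apply (G : EtCoh.Ab X) (p : ℕ)
    (x : Ext (EtCoh.const Y ℤ) ((EtCoh.pull t).obj G) p) :
    EtCore.HpullVia f t f₀ w G p x =
      (EtCore.Hpull f ((EtCoh.pull t).obj G) p x).comp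
        (Ext.mk₀ ((εIso f t f₀ w).hom.app G)) (add_zero p) := rfl

lemma HpullVia_naturality {G G' : EtCoh.Ab X} (ψ : G ⟶ G') (p : ℕ)
    (x : Ext (EtCoh.const Y ℤ) ((EtCoh.pull t).obj G) p) :
    EtCore.HpullVia f t f₀ w G' p (x.comp (Ext.mk₀ ((EtCoh.pull t).map ψ)) (add_zero p)) =
      (EtCore.HpullVia f t f₀ w G p x).comp (Ext.mk₀ ((EtCoh.pull f₀).map ψ)) (add_zero p) := by
  rw [HpullVia_apply, HpullVia_apply, Hpull_naturality, Ext.comp_assoc_of_third_deg_zero,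
    Ext.comp_assoc_of_third_deg_zero, Ext.mk₀_comp_mk₀, Ext.mk₀_comp_mk₀]
  congr 2
  exact (εIso f t f₀ w).hom.naturality ψ

variable [PreservesFiniteLimits (EtCoh.pull t)] [PreservesFiniteLimits (EtCoh.pull f₀)]

lemma via_aux {𝒜 : Type*} [Category 𝒜] [Abelian 𝒜] [HasExt.{u + 1} 𝒜] {Z P₃ P₁ Q₃ Q₁ : 𝒜}
    {n₀ n₁ : ℕ} (h : n₀ + 1 = n₁) (y : Ext Z P₃ n₀) (e : Ext P₃ P₁ 1) (ε₁ : P₁ ⟶ Q₁)
    (ε₃ : P₃ ⟶ Q₃) (e' : Ext Q₃ Q₁ 1)
    (hc : e.comp (Ext.mk₀ ε₁) (add_zero 1) = (Ext.mk₀ ε₃).comp e' (zero_add 1)) :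
    (y.comp e h).comp (Ext.mk₀ ε₁) (add_zero n₁) =
      (y.comp (Ext.mk₀ ε₃) (add_zero n₀)).comp e' h := by
  rw [Ext.comp_assoc_of_third_deg_zero, Ext.comp_assoc_of_second_deg_zero, hc]

lemma HpullVia_δ (S : ShortComplex (EtCoh.Ab X)) (hS : S.ShortExact) (n₀ n₁ : ℕ)
    (h : n₀ + 1 = n₁) (x : Ext (EtCoh.const Y ℤ) ((EtCoh.pull t).obj S.X₃) n₀) :
    EtCore.HpullVia f t f₀ w S.X₁ n₁ (x.comp (hS.map_of_exact (EtCoh.pull t)).extClass h) =
      (EtCore.HpullVia f t f₀ w S.X₃ n₀ x).comp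
        (hS.map_of_exact (EtCoh.pull f₀)).extClass h := by
  refine (HpullVia_apply f t f₀ w S.X₁ n₁ _).trans ?_
  refine Eq.trans ?_ (congrArg (fun z => Ext.comp z (hS.map_of_exact (EtCoh.pull f₀)).extClass h)
    (HpullVia_apply f t f₀ w S.X₃ n₀ x)).symm
  refine (congrArg (fun z => Ext.comp z (Ext.mk₀ ((εIso f t f₀ w).hom.app S.X₁)) (add_zero n₁))
    (Hpull_δ f (S.map (EtCoh.pull t)) (hS.map_of_exact (EtCoh.pull t)) n₀ n₁ h x)).trans ?_
  exact via_aux h _ _ _ _ _ (ShortComplex.ShortExact.extClass_naturality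
    ((hS.map_of_exact (EtCoh.pull t)).map_of_exact (EtCoh.pull f))
    (hS.map_of_exact (EtCoh.pull f₀)) (S.mapNatTrans (εIso f t f₀ w).hom))

/-- `HpullVia` as a morphism of δ-functors. -/
noncomputable def HpullViaHom : TD t ⟶ TD f₀ where
  app n :=
    { app := fun F => AddCommGrpCat.ofHom (EtCore.HpullVia f t f₀ w F n)
      naturality := fun F F' ψ => by
        ext x
        exact HpullVia_naturality f t f₀ w ψ n x }
  comm S hS n₀ n₁ h := by
    ext x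
    exact HpullVia_δ f t f₀ w S hS n₀ n₁ h x

end Via

end Groth.Agent.Lib.Helper22.EtLoc
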