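import Groth.Prelude.Def_EtCore
import Groth.Agent.Lib.Helper22.CechU.EtaleCov

/-!
# Localization on the small étale site

For an étale morphism `j : Y ⟶ X`, composition with `j` is a functor `pj j : Y.Etale ⥤ X.Etale`, left
adjoint to base change `EtCoh.bc j`. It is continuous, so that restriction
`res j : EtCoh.Ab X ⥤ EtCoh.Ab Y` (precomposition with `pj j`) is defined; it is left adjoint to
`EtCoh.push j`, hence isomorphic to `EtCoh.pull j`.
-/

set_option autoImplicit false

universe u

open CategoryTheory CategoryTheory.Limits Opposite AlgebraicGeometry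

namespace Groth.Agent.Lib.Helper22.EtLoc

open Groth.Agent.Lib.Helper22.CechU.Etale

variable {X Y : Scheme.{u}} (j : Y ⟶ X) [hj : Etale j]

/-- Composition with an étale morphism, on small étale sites. -/
noncomputable def pj : Y.Etale ⥤ X.Etale :=
  MorphismProperty.Over.map (P := EtCoh.etaleMP.{u}) ⊤ (f := j) hj

@[simp] lemma pj_obj_left (A : Y.Etale) : ((pj j).obj A).left = A.left := rfl
@[simp] lemma pj_obj_hom (A : Y.Etale) : ((pj j).obj A).hom = A.hom ≫ j := rfl
@[simp] lemma pj_map_left {A B : Y.Etale} (f : A ⟶ B) : ((pj j).map f).left = f.left := rfl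

/-- `pj j ⊣ bc j`. -/
noncomputable def pjAdj : pj j ⊣ EtCoh.bc j :=
  MorphismProperty.Over.mapPullbackAdj EtCoh.etaleMP.{u} ⊤ j hj trivial

lemma coverPreserving_pj :
    CoverPreserving Y.smallEtaleTopology X.smallEtaleTopology (pj j) := by
  constructor
  intro A S hS
  rw [mem_smallEtaleTopology_iff] at hS ⊢
  intro x
  obtain ⟨V, f, y, hf, hy⟩ := hS x
  exact ⟨(pj j).obj V, (pj j).map f, y, Sieve.image_mem_functorPushforward _ _ hf, hy⟩

set_option backward.isDefEq.respectTransparency.types false in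
lemma compatiblePreserving_pj :
    CompatiblePreserving.{u + 1} X.smallEtaleTopology (pj j) where
  compatible ℱ {Z T x} hx {Y₁ Y₂ W} f₁ f₂ {g₁ g₂} hg₁ hg₂ h := by
    have hl : f₁.left ≫ g₁.left = f₂.left ≫ g₂.left := congrArg (fun φ => φ.left) h
    have e1 : g₁.left ≫ Z.hom = Y₁.hom := Over.w g₁.hom
    have e2 : g₂.left ≫ Z.hom = Y₂.hom := Over.w g₂.hom
    have hY : f₂.left ≫ Y₂.hom = f₁.left ≫ Y₁.hom := by
      calc f₂.left ≫ Y₂.hom = f₂.left ≫ (g₂.left ≫ Z.hom) := congrArg (f₂.left ≫ ·) e2.symm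
        _ = (f₂.left ≫ g₂.left) ≫ Z.hom := (Category.assoc _ _ _).symm
        _ = (f₁.left ≫ g₁.left) ≫ Z.hom := congrArg (· ≫ Z.hom) hl.symm
        _ = f₁.left ≫ (g₁.left ≫ Z.hom) := Category.assoc _ _ _
        _ = f₁.left ≫ Y₁.hom := congrArg (f₁.left ≫ ·) e1
    have hE1 : Etale f₁.left := inferInstance
    have hE2 : Etale Y₁.hom := Y₁.prop
    have : Etale (f₁.left ≫ Y₁.hom) := EtCoh.etaleMP.comp_mem _ _ hE1 hE2
    let W' : Y.Etale := Scheme.Etale.mk (f₁.left ≫ Y₁.hom)
    let g₁' : W' ⟶ Y₁ := MorphismProperty.Over.homMk f₁.left rfl trivial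
    let g₂' : W' ⟶ Y₂ := MorphismProperty.Over.homMk f₂.left hY trivial
    have hW : W.hom = ((pj j).obj W').hom := by
      have e1 : f₁.left ≫ ((pj j).obj Y₁).hom = W.hom := Over.w f₁.hom
      rw [← e1]
      exact (Category.assoc _ _ _).symm
    let e : (pj j).obj W' ≅ W := MorphismProperty.Over.isoMk (Iso.refl _)
      ((Category.id_comp _).trans hW)
    have hf₁ : f₁ = e.inv ≫ (pj j).map g₁' :=
      MorphismProperty.Over.Hom.ext (Category.id_comp _).symm
    have hf₂ : f₂ = e.inv ≫ (pj j).map g₂' :=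
      MorphismProperty.Over.Hom.ext (Category.id_comp _).symm
    have hc := hx g₁' g₂' hg₁ hg₂ (MorphismProperty.Over.Hom.ext hl)
    have hc' : ℱ.obj.map ((pj j).map g₁').op (x g₁ hg₁) =
      ℱ.obj.map ((pj j).map g₂').op (x g₂ hg₂) := hc
    rw [hf₁, hf₂, op_comp, op_comp, Functor.map_comp_apply, Functor.map_comp_apply, hc']

instance isContinuous_pj :
    (pj j).IsContinuous Y.smallEtaleTopology X.smallEtaleTopology :=
  Functor.isContinuous_of_coverPreserving (compatiblePreserving_pj j) (coverPreserving_pj j)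

/-- Restriction of abelian étale sheaves along an étale morphism. -/
noncomputable def res : EtCoh.Ab X ⥤ EtCoh.Ab Y :=
  (pj j).sheafPushforwardContinuous AddCommGrpCat.{u + 1} Y.smallEtaleTopology
    X.smallEtaleTopology

/-- `res j ⊣ push j`. -/
noncomputable def resPushAdj : res j ⊣ EtCoh.push j :=
  (pjAdj j).sheafPushforwardContinuous _ _

/-- Pullback along an étale morphism is restriction. -/
noncomputable def pullIsoRes : EtCoh.pull j ≅ res j :=
  Adjunction.leftAdjointUniq (EtCoh.pullPushAdj j) (resPushAdj j)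

end Groth.Agent.Lib.Helper22.EtLoc
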