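import Groth.Prelude.Def_EtShriek2
import Groth.Agent.Lib.Helper22.EtLoc.Basic
import Mathlib.CategoryTheory.Adjunction.Triple

/-!
# Localization along an étale monomorphism (e.g. an open immersion)

For an étale monomorphism `j : U ⟶ X`, `pj j` is fully faithful, the counit
`j^{-1} j_* F ⟶ F` and the unit `F ⟶ j^{-1} j_! F` are isomorphisms.
-/

set_option autoImplicit false

universe u

open CategoryTheory CategoryTheory.Limits Opposite AlgebraicGeometry

namespace Groth.Agent.Lib.Helper22.EtLoc

variable {U X : Scheme.{u}} (j : U ⟶ X) [hj : Etale j]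

lemma compEtale_eq_pj : EtShriek.compEtale j = pj j := rfl

instance full_pj [Mono j] : (pj j).Full := EtShriek.full_compEtale j
instance faithful_pj : (pj j).Faithful := EtShriek.faithful_compEtale j

instance isIso_pjAdj_unit [Mono j] : IsIso (pjAdj j).unit := inferInstance

lemma resPushAdj_counit_app (F : EtCoh.Ab U) (W : U.Etale) :
    ((resPushAdj j).counit.app F).hom.app (op W) = F.obj.map ((pjAdj j).unit.app W).op := by
  rfl

instance isIso_resPushAdj_counit_app [Mono j] (F : EtCoh.Ab U) :
    IsIso ((resPushAdj j).counit.app F) := by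
  have h : ∀ W : (U.Etale)ᵒᵖ, IsIso (((resPushAdj j).counit.app F).hom.app W) := by
    intro W
    rw [show W = op W.unop from rfl, resPushAdj_counit_app]
    have : IsIso ((pjAdj j).unit.app (unop W)) := inferInstance
    have : IsIso ((pjAdj j).unit.app (unop W)).op := inferInstance
    exact Functor.map_isIso _ _
  have : IsIso ((resPushAdj j).counit.app F).hom := NatIso.isIso_of_isIso_app _
  exact (isIso_iff_of_reflects_iso _ (sheafToPresheaf _ _)).1 ‹_›

instance isIso_resPushAdj_counit [Mono j] : IsIso (resPushAdj j).counit :=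
  NatIso.isIso_of_isIso_app _

/-- The counit `j^* j_* F ⟶ F` is an isomorphism for an étale monomorphism. -/
lemma isIso_pullPushAdj_counit_app [Mono j] [EtCoh.BCCont j] (F : EtCoh.Ab U) :
    IsIso ((EtCoh.pullPushAdj j).counit.app F) := by
  rw [← Adjunction.leftAdjointUniq_hom_app_counit (EtCoh.pullPushAdj j) (resPushAdj j) F]
  infer_instance

/-- The adjoint triple `j_! ⊣ j^{-1} ⊣ j_*`. -/
noncomputable def triple [EtShriek.JCont j] :
    Adjunction.Triple (EtShriek.extZero j) (EtShriek.restrAlong j) (EtCoh.push j) where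
  adj₁ := EtShriek.extZeroAdj j
  adj₂ := resPushAdj j

/-- The unit `F ⟶ j^{-1} j_! F` is an isomorphism for an étale monomorphism. -/
instance isIso_extZeroAdj_unit [Mono j] [EtShriek.JCont j] :
    IsIso (EtShriek.extZeroAdj j).unit :=
  (triple j).isIso_unit_iff_isIso_counit.2 (isIso_resPushAdj_counit j)

end Groth.Agent.Lib.Helper22.EtLoc
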