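import Groth.Prelude.Def_EtDual
import Groth.Agent.Lib.Helper22.EtLoc.Excision
import Groth.Agent.Lib.Helper22.EtLoc.MonoLoc
import Groth.Agent.Lib.Helper22.EtLoc.AcyclicAll
import Groth.Agent.Lib.Helper22.CechU.Site
import Groth.Agent.Lib.Helper22.KerSeq.LeftExact
import Groth.Agent.Lib.Helper22.EtLoc.HpullDelta
import Groth.Agent.Lib.Helper22.EtStalk.ExtZero
import Groth.Agent.Lib.Helper22.AdaptedAcyclic
import Groth.Agent.Lib.Helper22.DimShiftIso

/-!
# Étale excision for local cohomology groups (helper22)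

`eIso : gammaSupp j ≅ res f ⋙ gammaSupp j'` for an étale `f : X' ⟶ X` that is an isomorphism over
the closed complement of `j(U)`; `preservesFiniteLimits_gammaSupp`; `nonempty_HY_iso`.
-/

set_option autoImplicit false
set_option linter.unusedSectionVars false
universe u
open CategoryTheory CategoryTheory.Limits AlgebraicGeometry Opposite

namespace Groth.Agent.Lib.Helper22.EtLoc.ExcisionH

open Groth.Agent.Lib.Helper22.CechU.Etale Groth.Agent.Lib.Helper22.EtLoc.Clopen
  Groth.Agent.Lib.Helper22.EtLoc.Excision Groth.Agent.Lib.Helper22.CechU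
  Groth.Agent.Lib.Helper22.EtLoc

noncomputable section

section A

variable {Y V : Scheme.{u}} (k : V ⟶ Y) [IsOpenImmersion k]

/-- The unique map to the terminal object. -/
def toTop (A : Y.Etale) : A ⟶ EtCoh.top Y := (EtCore.topIsTerminal Y).from A

lemma toTop_comp {A B : Y.Etale} (a : A ⟶ B) : a ≫ toTop B = toTop A :=
  (EtCore.topIsTerminal Y).hom_ext _ _

lemma hom_top_ext {A : Y.Etale} (a b : A ⟶ EtCoh.top Y) : a = b :=
  (EtCore.topIsTerminal Y).hom_ext _ _

/-- `V` as an object of the small étale site of `Y`. -/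
abbrev mkO : Y.Etale := Scheme.Etale.mk k

lemma resPushAdj_unit_app (F : EtCoh.Ab Y) (A : Y.Etale) :
    ((resPushAdj k).unit.app F).hom.app (op A) = F.obj.map ((pjAdj k).counit.app A).op := by
  rfl

/-- `Y ×_Y V ≅ V` over `Y`. -/
def εIso : (pj k).obj ((EtCoh.bc k).obj (EtCoh.top Y)) ≅ mkO k :=
  (pj k).mapIso (EtCore.bcTopIso k) ≪≫ pjTopIso (mkO k)

lemma map_zero_iff_of_maps (G : EtCoh.Ab Y) {A B C : Y.Etale} (m : A ⟶ C) (n : B ⟶ C)
    (a : A ⟶ B) (b : B ⟶ A) (ha : a ≫ n = m) (hb : b ≫ m = n) (s : G.obj.obj (op C)) :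
    G.obj.map m.op s = 0 ↔ G.obj.map n.op s = 0 := by
  constructor
  · intro h
    rw [← hb, map_comp_apply, h, map_zero]
  · intro h
    rw [← ha, map_comp_apply, h, map_zero]

lemma map_zero_iff_of_iso (G : EtCoh.Ab Y) {A B : Y.Etale} (e : A ≅ B)
    (s : G.obj.obj (op (EtCoh.top Y))) :
    G.obj.map (toTop A).op s = 0 ↔ G.obj.map (toTop B).op s = 0 :=
  map_zero_iff_of_maps G _ _ e.hom e.inv (toTop_comp _) (toTop_comp _) s

lemma toTop_left (A : Y.Etale) : (toTop A).left = (A.hom : A.left ⟶ Y) := by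
  have h : (toTop A).left ≫ ((EtCoh.top Y).hom : (EtCoh.top Y).left ⟶ Y) = A.hom :=
    Over.w (toTop A).hom
  rw [← h]
  exact (Category.comp_id _).symm

/-- The unit `G ⟶ k_* k^* G` kills a global section iff the section vanishes on `V`. -/
lemma unit_zero_iff (G : EtCoh.Ab Y) (s : G.obj.obj (op (EtCoh.top Y))) :
    (EtDual.unitApp k G).hom.app (op (EtCoh.top Y)) s = 0 ↔
      G.obj.map (toTop (mkO k)).op s = 0 := by
  have h := Adjunction.unit_leftAdjointUniq_hom_app (EtCoh.pullPushAdj k) (resPushAdj k) G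
  let m := (EtCoh.push k).map
    ((Adjunction.leftAdjointUniq (EtCoh.pullPushAdj k) (resPushAdj k)).hom.app G)
  have hm : IsIso m := inferInstance
  have hinj : Function.Injective (m.hom.app (op (EtCoh.top Y))) :=
    Site.injective_app_of_mono m _
  have h2 : ((resPushAdj k).unit.app G).hom.app (op (EtCoh.top Y)) s =
      m.hom.app (op (EtCoh.top Y)) ((EtDual.unitApp k G).hom.app (op (EtCoh.top Y)) s) := by
    rw [← h]
    rfl
  have h3 : ((resPushAdj k).unit.app G).hom.app (op (EtCoh.top Y)) s =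
      G.obj.map (toTop ((pj k).obj ((EtCoh.bc k).obj (EtCoh.top Y)))).op s := by
    have e : (pjAdj k).counit.app (EtCoh.top Y) =
        toTop ((pj k).obj ((EtCoh.bc k).obj (EtCoh.top Y))) := hom_top_ext _ _
    change G.obj.map ((pjAdj k).counit.app (EtCoh.top Y)).op s = _
    rw [e]
  rw [← map_zero_iff_of_iso G (εIso k) s, ← h3, h2]
  constructor
  · intro h0
    rw [h0]
    exact map_zero _
  · intro h0
    apply hinj
    rw [h0]
    exact (map_zero _).symm

/-- The inclusion of the global sections supported off `V`. -/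
def ιK (G : EtCoh.Ab Y) : (EtDual.gammaSupp k).obj G ⟶ G.obj.obj (op (EtCoh.top Y)) :=
  (kernel.ι (EtDual.unitApp k G)).hom.app (op (EtCoh.top Y))

lemma ιK_injective (G : EtCoh.Ab Y) : Function.Injective (ιK k G) :=
  Site.injective_app_of_mono (kernel.ι (EtDual.unitApp k G)) _

lemma ιK_naturality {G G' : EtCoh.Ab Y} (α : G ⟶ G') :
    (EtDual.gammaSupp k).map α ≫ ιK k G' = ιK k G ≫ α.hom.app (op (EtCoh.top Y)) := by
  have h : (EtDual.secSupp k).map α ≫ kernel.ι (EtDual.unitApp k G') =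
      kernel.ι (EtDual.unitApp k G) ≫ α := kernel.lift_ι _ _ _
  exact congrArg (fun ψ => ψ.hom.app (op (EtCoh.top Y))) h

lemma ιK_naturality_apply {G G' : EtCoh.Ab Y} (α : G ⟶ G') (t : (EtDual.gammaSupp k).obj G) :
    ιK k G' ((EtDual.gammaSupp k).map α t) = α.hom.app (op (EtCoh.top Y)) (ιK k G t) :=
  congrArg (fun ψ => ψ t) (congrArg AddCommGrpCat.Hom.hom (ιK_naturality k α))

lemma map_ιK (G : EtCoh.Ab Y) (t : (EtDual.gammaSupp k).obj G) :
    G.obj.map (toTop (mkO k)).op (ιK k G t) = 0 := by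
  rw [← unit_zero_iff]
  have h : kernel.ι (EtDual.unitApp k G) ≫ EtDual.unitApp k G = 0 := kernel.condition _
  have h2 := congrArg (fun ψ => ψ.hom.app (op (EtCoh.top Y))) h
  exact congrArg (fun ψ => ψ t) (congrArg AddCommGrpCat.Hom.hom h2)

lemma exists_ιK_eq (G : EtCoh.Ab Y) (s : G.obj.obj (op (EtCoh.top Y)))
    (hs : G.obj.map (toTop (mkO k)).op s = 0) : ∃ t, ιK k G t = s := by
  rw [← unit_zero_iff] at hs
  have hS : (ShortComplex.mk (kernel.ι (EtDual.unitApp k G)) (EtDual.unitApp k G)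
      (kernel.condition _)).Exact := ShortComplex.exact_kernel _
  exact Site.sections_exact_of_left_exact hS
    (inferInstanceAs (Mono (kernel.ι (EtDual.unitApp k G)))) (EtCoh.top Y) s hs

end A

section Lift

/-- Lifting a map of abelian groups through injections. -/
def liftHom {A B A' B' : AddCommGrpCat.{u + 1}} (ι : A ⟶ B) (ι' : A' ⟶ B')
    (hι' : Function.Injective ι') (ρ : B ⟶ B') (h : ∀ a, ∃ a', ι' a' = ρ (ι a)) : A ⟶ A' :=
  AddCommGrpCat.ofHom
    { toFun := fun a => Classical.choose (h a)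
      map_zero' := by
        apply hι'
        rw [Classical.choose_spec (h 0), map_zero, map_zero, map_zero]
      map_add' := fun a b => by
        apply hι'
        rw [Classical.choose_spec (h (a + b)), map_add, map_add, map_add,
          Classical.choose_spec (h a), Classical.choose_spec (h b)] }

lemma liftHom_apply {A B A' B' : AddCommGrpCat.{u + 1}} (ι : A ⟶ B) (ι' : A' ⟶ B')
    (hι' : Function.Injective ι') (ρ : B ⟶ B') (h : ∀ a, ∃ a', ι' a' = ρ (ι a)) (a : A) :
    ι' (liftHom ι ι' hι' ρ h a) = ρ (ι a) :=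
  Classical.choose_spec (h a)

end Lift

section S

/-- Lift of the inclusion of the open range through an open immersion. -/
def rangeLift {Y V : Scheme.{u}} (k : V ⟶ Y) [IsOpenImmersion k] (O : Y.Opens)
    (h : (O : Set Y) ⊆ Set.range k.base) : O.toScheme ⟶ V :=
  IsOpenImmersion.lift k O.ι (by rw [Scheme.Opens.range_ι]; exact h)

@[reassoc]
lemma rangeLift_fac {Y V : Scheme.{u}} (k : V ⟶ Y) [IsOpenImmersion k] (O : Y.Opens)
    (h : (O : Set Y) ⊆ Set.range k.base) : rangeLift k O h ≫ k = O.ι :=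
  IsOpenImmersion.lift_fac _ _ _

end S

section B

variable {X X' U U' : Scheme.{u}} (f : X' ⟶ X) [Etale f] (j : U ⟶ X) [IsOpenImmersion j]
  (j' : U' ⟶ X') [IsOpenImmersion j']

/-- `X'` as an étale `X`-scheme. -/
abbrev E' : X.Etale := (pj f).obj (EtCoh.top X')

/-- The open `j(U)` of `X`. -/
abbrev WW : X.Opens := j.opensRange

/-- The open `j(U)` of `X`, as an open of the terminal object of the small étale site. -/
def WWt : (EtCoh.top X).left.Opens :=
  let W : X.Opens := WW j
  W

/-- Vanishing on `U` in both languages. -/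
lemma B1 (F : EtCoh.Ab X) (s : F.obj.obj (op (EtCoh.top X))) :
    F.obj.map (toTop (mkO j)).op s = 0 ↔ F.obj.map (openSubι (EtCoh.top X) (WWt j)).op s = 0 := by
  have hg : ∀ z : (mkO j).left, (toTop (mkO j)).left z ∈ WWt j := by
    intro z
    rw [toTop_left]
    exact ⟨z, rfl⟩
  let a : mkO j ⟶ openSub (EtCoh.top X) (WWt j) := liftOpen (toTop (mkO j)) (WWt j) hg
  let b : openSub (EtCoh.top X) (WWt j) ⟶ mkO j :=
    MorphismProperty.Over.homMk (rangeLift j (WW j) (fun x hx => hx)) (by
      change rangeLift j (WW j) _ ≫ j = (WW j).ι ≫ 𝟙 X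
      rw [rangeLift_fac, Category.comp_id]) trivial
  exact map_zero_iff_of_maps F _ _ a b (liftOpen_ι _ _ _) (hom_top_ext _ _) s

/-- The structure map `X' ⟶ X` as a morphism of the small étale site of `X`. -/
def φE : E' f ⟶ EtCoh.top X :=
  MorphismProperty.Over.homMk f (by
    change f ≫ 𝟙 X = 𝟙 X' ≫ f
    rw [Category.comp_id, Category.id_comp]) trivial

@[simp] lemma φE_left : (φE f).left = f := rfl

/-- The open `f⁻¹(j(U))` of `X'`. -/
abbrev WW' : X'.Opens := f ⁻¹ᵁ j.opensRange

/-- The open `f⁻¹(j(U))` of `X'`, as an open of `E' f`. -/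
def WWt' : (E' f).left.Opens :=
  let W : X'.Opens := WW' f j
  W

lemma WWt'_eq : WWt' f j = (φE f).left ⁻¹ᵁ WWt j := rfl

lemma mem_WW' (x : X') : x ∈ WW' f j ↔ f x ∈ Set.range j.base := Iff.rfl

variable (hU' : Set.range j'.base = f.base ⁻¹' Set.range j.base)

include hU' in
lemma B2 (F : EtCoh.Ab X) (s' : F.obj.obj (op (E' f))) :
    ((res f).obj F).obj.map (toTop (mkO j')).op s' = 0 ↔
      F.obj.map (openSubι (E' f) (WWt' f j)).op s' = 0 := by
  let m' : (pj f).obj (mkO j') ⟶ E' f := (pj f).map (toTop (mkO j'))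
  have hm' : m'.left = j' := toTop_left (mkO j')
  have hg : ∀ z : ((pj f).obj (mkO j')).left, m'.left z ∈ WWt' f j := by
    intro z
    have h0 : j' z ∈ Set.range j'.base := ⟨z, rfl⟩
    rw [hU'] at h0
    have h1 : f (m'.left z) ∈ Set.range j.base := by
      rw [hm']
      exact h0
    exact h1
  let a : (pj f).obj (mkO j') ⟶ openSub (E' f) (WWt' f j) := liftOpen m' (WWt' f j) hg
  have hsub : ((WW' f j : X'.Opens) : Set X') ⊆ Set.range j'.base := by
    intro x hx
    rw [hU']
    exact (mem_WW' f j x).1 hx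
  let b : openSub (E' f) (WWt' f j) ⟶ (pj f).obj (mkO j') :=
    MorphismProperty.Over.homMk (rangeLift j' (WW' f j) hsub) (by
      change rangeLift j' (WW' f j) hsub ≫ j' ≫ f = (WW' f j).ι ≫ 𝟙 X' ≫ f
      rw [rangeLift_fac_assoc, Category.id_comp]) trivial
  have hb : b ≫ m' = openSubι (E' f) (WWt' f j) := by
    apply MorphismProperty.Over.Hom.ext
    change rangeLift j' (WW' f j) hsub ≫ m'.left = (WW' f j).ι
    exact (congrArg (fun t => rangeLift j' (WW' f j) hsub ≫ t) hm').trans
      (rangeLift_fac j' (WW' f j) hsub)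
  exact map_zero_iff_of_maps F m' _ a b (liftOpen_ι _ _ _) hb s'

variable (hZ : Set.BijOn f.base (Set.range j'.base)ᶜ (Set.range j.base)ᶜ)
  (hκ : ∀ x' : ↥X', x' ∉ Set.range j'.base → Function.Surjective (f.residueFieldMap x'))

include hU' in
lemma not_mem_range_of (x' : X') (hx : f x' ∉ WWt j) : x' ∉ Set.range j'.base := by
  rw [hU']
  exact hx

include hU' hZ in
lemma h1E (x' y' : (E' f).left) (hx : (φE f).left x' ∉ WWt j)
    (hxy : (φE f).left x' = (φE f).left y') : x' = y' := by
  have hx' : f x' ∉ WWt j := hx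
  have hy' : f y' ∉ WWt j := by
    have e : f x' = f y' := hxy
    rw [← e]; exact hx'
  exact hZ.injOn (not_mem_range_of f j j' hU' x' hx') (not_mem_range_of f j j' hU' y' hy') hxy

include hZ in
lemma h2E (z : (EtCoh.top X).left) (hz : z ∉ WWt j) :
    ∃ x' : (E' f).left, (φE f).left x' = z := by
  obtain ⟨x', -, hx'⟩ := hZ.surjOn hz
  exact ⟨x', hx'⟩

include hU' hκ in
lemma h3E (x' : (E' f).left) (hx : (φE f).left x' ∉ WWt j) :
    Function.Surjective
      (((φE f).left : (E' f).left ⟶ (EtCoh.top X).left).residueFieldMap x') :=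
  hκ x' (not_mem_range_of f j j' hU' x' hx)

/-- Restriction from `X` to `X'`. -/
def ρR (F : EtCoh.Ab X) :
    F.obj.obj (op (EtCoh.top X)) ⟶ ((res f).obj F).obj.obj (op (EtCoh.top X')) :=
  F.obj.map (φE f).op

lemma key0 (F : EtCoh.Ab X) (s : F.obj.obj (op (EtCoh.top X)))
    (hs : F.obj.map (openSubι (EtCoh.top X) (WWt j)).op s = 0) :
    F.obj.map (openSubι (E' f) (WWt' f j)).op (F.obj.map (φE f).op s) = 0 := by
  rw [WWt'_eq, ← map_comp_apply, ← openSubMap_ι, map_comp_apply, hs, map_zero]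

include hU' in
lemma hθ (F : EtCoh.Ab X) (t : (EtDual.gammaSupp j).obj F) :
    ∃ t', ιK j' ((res f).obj F) t' = ρR f F (ιK j F t) :=
  exists_ιK_eq j' ((res f).obj F) _
    ((B2 f j j' hU' F _).2 (key0 f j F _ ((B1 j F _).1 (map_ιK j F t))))

/-- The excision map on global sections with support. -/
def θ (F : EtCoh.Ab X) :
    (EtDual.gammaSupp j).obj F ⟶ (EtDual.gammaSupp j').obj ((res f).obj F) :=
  liftHom (ιK j F) (ιK j' ((res f).obj F)) (ιK_injective j' _) (ρR f F) (hθ f j j' hU' F)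

lemma θ_apply (F : EtCoh.Ab X) (t : (EtDual.gammaSupp j).obj F) :
    ιK j' ((res f).obj F) (θ f j j' hU' F t) = ρR f F (ιK j F t) :=
  liftHom_apply _ _ _ _ _ t

include hZ hκ in
lemma θ_bijective (F : EtCoh.Ab X) : Function.Bijective (θ f j j' hU' F) := by
  constructor
  · refine (injective_iff_map_eq_zero _).2 fun t ht => ?_
    have h1 : ρR f F (ιK j F t) = 0 := by
      rw [← θ_apply f j j' hU' F t, ht, map_zero]
    have h2 := inj_excision F (φE f) (WWt j) (h2E f j j' hZ) (ιK j F t)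
      ((B1 j F _).1 (map_ιK j F t)) h1
    apply ιK_injective j F
    rw [h2, map_zero]
  · intro t'
    have hs' := (B2 f j j' hU' F _).1 (map_ιK j' ((res f).obj F) t')
    rw [WWt'_eq] at hs'
    obtain ⟨s, hs1, hs2⟩ := surj_excision F (φE f) (WWt j) (h1E f j j' hU' hZ)
      (h2E f j j' hZ) (h3E f j j' hU' hκ) _ hs'
    obtain ⟨t, ht⟩ := exists_ιK_eq j F s ((B1 j F s).2 hs1)
    refine ⟨t, ?_⟩
    apply ιK_injective j' ((res f).obj F)
    rw [θ_apply, ht]
    exact hs2

lemma θ_naturality {F F' : EtCoh.Ab X} (α : F ⟶ F') :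
    (EtDual.gammaSupp j).map α ≫ θ f j j' hU' F' =
      θ f j j' hU' F ≫ (EtDual.gammaSupp j').map ((res f).map α) := by
  ext t
  apply ιK_injective j' ((res f).obj F')
  change ιK j' _ (θ f j j' hU' F' ((EtDual.gammaSupp j).map α t)) =
    ιK j' _ ((EtDual.gammaSupp j').map ((res f).map α) (θ f j j' hU' F t))
  rw [θ_apply, ιK_naturality_apply, ιK_naturality_apply, θ_apply]
  exact (NatTrans.naturality_apply α.hom (φE f).op (ιK j F t)).symm

include hZ hκ in
/-- **Étale excision in degree zero**, as a natural isomorphism. -/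
def eIso : EtDual.gammaSupp j ≅ res f ⋙ EtDual.gammaSupp j' :=
  NatIso.ofComponents
    (fun F =>
      haveI : IsIso (θ f j j' hU' F) :=
        (ConcreteCategory.isIso_iff_bijective _).2 (θ_bijective f j j' hU' hZ hκ F)
      asIso (θ f j j' hU' F))
    (fun α => θ_naturality f j j' hU' α)

end B

section C

variable {Y V : Scheme.{u}} (k : V ⟶ Y) [IsOpenImmersion k]

/-- The inclusion `Γ_Z ⟶ 𝟭`. -/
def αι : EtDual.secSupp k ⟶ 𝟭 (EtCoh.Ab Y) where
  app F := kernel.ι (EtDual.unitApp k F)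
  naturality F G f := by
    dsimp
    exact kernel.lift_ι _ _ _

lemma αι_unit (A : EtCoh.Ab Y) : (αι k).app A ≫ (EtCoh.pullPushAdj k).unit.app A = 0 :=
  kernel.condition _

instance preservesFiniteLimits_secSupp : PreservesFiniteLimits (EtDual.secSupp k) :=
  KerSeq.preservesFiniteLimits_of_kernel (EtDual.secSupp k) (𝟭 _) (EtCoh.pull k ⋙ EtCoh.push k)
    (αι k) (EtCoh.pullPushAdj k).unit (αι_unit k) (fun A => kernelIsKernel (EtDual.unitApp k A))

instance preservesFiniteLimits_gammaSupp : PreservesFiniteLimits (EtDual.gammaSupp k) := by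
  unfold EtDual.gammaSupp
  infer_instance

end C

/-- Higher right derived functors of an exact functor vanish. -/
lemma isZero_rightDerived_succ_of_exact {A B : Type*} [Category A] [Abelian A] [EnoughInjectives A]
    [Category B] [Abelian B] (F : A ⥤ B) [F.Additive] [PreservesFiniteLimits F]
    [PreservesFiniteColimits F] (n : ℕ) (X : A) : IsZero ((F.rightDerived (n + 1)).obj X) :=
  AdaptedAcyclic.isZero_rightDerived_succ (F := F) (I := ⊤)
    (fun X => ⟨X, 𝟙 X, trivial, inferInstance⟩)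
    (fun _ hS _ _ => ⟨trivial, hS.map_of_exact F⟩) n X trivial

section D

variable {X X' U U' : Scheme.{u}} (f : X' ⟶ X) [Etale f] (j : U ⟶ X) [IsOpenImmersion j]
  (j' : U' ⟶ X') [IsOpenImmersion j']
  (hU' : Set.range j'.base = f.base ⁻¹' Set.range j.base)
  (hZ : Set.BijOn f.base (Set.range j'.base)ᶜ (Set.range j.base)ᶜ)
  (hκ : ∀ x' : ↥X', x' ∉ Set.range j'.base → Function.Surjective (f.residueFieldMap x'))

instance jCont_of_etale : EtShriek.JCont f := isContinuous_pj f

lemma injective_res (I : EtCoh.Ab X) [Injective I] : Injective ((res f).obj I) :=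
  Injective.injective_of_adjoint (EtShriek.extZeroAdj f) I

instance : (res f).Additive := inferInstanceAs (EtShriek.restrAlong f).Additive

instance : PreservesFiniteLimits (res f) := by
  unfold res
  infer_instance

instance : PreservesFiniteColimits (res f) := by
  have := (resPushAdj f).leftAdjoint_preservesColimits
  exact ⟨fun _ _ _ => inferInstance⟩

include hU' hZ hκ in
/-- **Étale excision.** -/
theorem nonempty_HY_iso (F : EtCoh.Ab X) (r : ℕ) :
    Nonempty ((EtDual.HY j r).obj F ≅ (EtDual.HY j' r).obj ((EtCoh.pull f).obj F)) := by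
  obtain ⟨e⟩ := DimShift.nonempty_rightDerived_comp_iso (res f) (EtDual.gammaSupp j')
    (EtDual.gammaSupp j) (eIso f j j' hU' hZ hκ).symm (fun I hI => injective_res f I) r F
    (fun q => isZero_rightDerived_succ_of_exact _ q F)
  exact ⟨e.symm ≪≫ (EtDual.HY j' r).mapIso ((pullIsoRes f).app F).symm⟩

end D

end

end Groth.Agent.Lib.Helper22.EtLoc.ExcisionH
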