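import Groth.Prelude.Def_EtShriek2
import Groth.Agent.Lib.Helper22.EtLoc.Basic

/-!
# Base change and composition functors on small étale sites commute for a cartesian square

For a cartesian square `j' : V' ⟶ Y, f' : V' ⟶ V, f : Y ⟶ X, j : V ⟶ X` with `j` étale:
`bcPjIso : bc f' ⋙ pj j' ≅ pj j ⋙ bc f`, `restrPushIso : f'_* j'^{-1} ≅ j^{-1} f_*`,
`extZeroPullIso : j'_! f'^* ≅ f^* j_!`.
-/

set_option autoImplicit false

universe u

open CategoryTheory CategoryTheory.Limits Opposite AlgebraicGeometry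

namespace Groth.Agent.Lib.Helper22.EtLoc

variable {V' V Y X : Scheme.{u}} (j : V ⟶ X) [Etale j]
    (f : Y ⟶ X) (j' : V' ⟶ Y) [Etale j'] (f' : V' ⟶ V)
    (h : IsPullback j' f' f j)

omit [Etale j] [Etale j'] in
include h in
lemma isPullback_paste (W : V.Etale) :
    IsPullback (pullback.fst W.hom f') (pullback.snd W.hom f' ≫ j') (W.hom ≫ j) f :=
  (IsPullback.of_hasPullback W.hom f').paste_vert h.flip

/-- The iso `V' ×_V W ≅ Y ×_X W`. -/
noncomputable def bcPjIsoApp (W : V.Etale) :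
    (EtCoh.bc f' ⋙ pj j').obj W ≅ (pj j ⋙ EtCoh.bc f).obj W :=
  MorphismProperty.Over.isoMk (isPullback_paste j f j' f' h W).isoPullback
    (by
      dsimp [EtCoh.bc, pj]
      exact (isPullback_paste j f j' f' h W).isoPullback_hom_snd)

@[simp] lemma bcPjIsoApp_hom_left (W : V.Etale) :
    (bcPjIsoApp j f j' f' h W).hom.left = (isPullback_paste j f j' f' h W).isoPullback.hom := rfl

lemma bcPj_aux {C : Type*} [Category C] {P P' Q Q' A A' B : C} (a : A ⟶ A')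
    (p₁ : P ⟶ A) (p₂ : P ⟶ B) (p₁' : P' ⟶ A') (p₂' : P' ⟶ B)
    (q₁ : Q ⟶ A) (q₂ : Q ⟶ B) (q₁' : Q' ⟶ A') (q₂' : Q' ⟶ B)
    (m₁ : P ⟶ P') (m₂ : Q ⟶ Q') (e : P ⟶ Q) (e' : P' ⟶ Q')
    (h1 : m₁ ≫ p₁' = p₁ ≫ a) (h2 : m₁ ≫ p₂' = p₂)
    (h3 : m₂ ≫ q₁' = q₁ ≫ a) (h4 : m₂ ≫ q₂' = q₂)
    (h5 : e ≫ q₁ = p₁) (h6 : e ≫ q₂ = p₂) (h7 : e' ≫ q₁' = p₁') (h8 : e' ≫ q₂' = p₂')
    (hext : ∀ x y : P ⟶ Q', x ≫ q₁' = y ≫ q₁' → x ≫ q₂' = y ≫ q₂' → x = y) :
    m₁ ≫ e' = e ≫ m₂ := by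
  apply hext
  · rw [Category.assoc, Category.assoc, h7, h1, h3, reassoc_of% h5]
  · rw [Category.assoc, Category.assoc, h8, h2, h4, h6]

/-- `bc f' ⋙ pj j' ≅ pj j ⋙ bc f` for a cartesian square. -/
noncomputable def bcPjIso : EtCoh.bc f' ⋙ pj j' ≅ pj j ⋙ EtCoh.bc f :=
  NatIso.ofComponents (bcPjIsoApp j f j' f' h) (by
    intro W W' g
    apply MorphismProperty.Over.Hom.ext
    change ((EtCoh.bc f').map g).left ≫ (isPullback_paste j f j' f' h W').isoPullback.hom =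
      (isPullback_paste j f j' f' h W).isoPullback.hom ≫ ((EtCoh.bc f).map ((pj j).map g)).left
    refine bcPj_aux g.left (pullback.fst W.hom f') (pullback.snd W.hom f' ≫ j')
      (pullback.fst W'.hom f') (pullback.snd W'.hom f' ≫ j')
      (pullback.fst (W.hom ≫ j) f) (pullback.snd (W.hom ≫ j) f)
      (pullback.fst (W'.hom ≫ j) f) (pullback.snd (W'.hom ≫ j) f) _ _ _ _ ?_ ?_ ?_ ?_
      (IsPullback.isoPullback_hom_fst _) (IsPullback.isoPullback_hom_snd _)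
      (IsPullback.isoPullback_hom_fst _) (IsPullback.isoPullback_hom_snd _)
      (fun x y h1 h2 => pullback.hom_ext h1 h2)
    · dsimp [EtCoh.bc]
      exact pullback.lift_fst _ _ _
    · dsimp [EtCoh.bc]
      exact pullback.lift_snd_assoc _ _ _ _
    · dsimp [EtCoh.bc]
      exact pullback.lift_fst _ _ _
    · dsimp [EtCoh.bc]
      exact pullback.lift_snd _ _ _)

/-- `f'_* j'^{-1} ≅ j^{-1} f_*` for a cartesian square with `j` étale. -/
noncomputable def restrPushIso [EtShriek.JCont j] [EtShriek.JCont j'] :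
    EtShriek.restrAlong j' ⋙ EtCoh.push f' ≅ EtCoh.push f ⋙ EtShriek.restrAlong j :=
  haveI : (pj j ⋙ EtCoh.bc f).IsContinuous V.smallEtaleTopology Y.smallEtaleTopology :=
    Functor.isContinuous_comp (pj j) (EtCoh.bc f) _ X.smallEtaleTopology _
  Functor.sheafPushforwardContinuousComp' (bcPjIso j f j' f' h) AddCommGrpCat.{u + 1}
    V.smallEtaleTopology V'.smallEtaleTopology Y.smallEtaleTopology ≪≫
  (Functor.sheafPushforwardContinuousComp (pj j) (EtCoh.bc f) AddCommGrpCat.{u + 1}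
    V.smallEtaleTopology X.smallEtaleTopology Y.smallEtaleTopology).symm

/-- `j'_! f'^* ≅ f^* j_!` for a cartesian square with `j` étale. -/
noncomputable def extZeroPullIso [EtShriek.JCont j] [EtShriek.JCont j'] :
    EtCoh.pull f' ⋙ EtShriek.extZero j' ≅ EtShriek.extZero j ⋙ EtCoh.pull f :=
  Adjunction.leftAdjointUniq ((EtCoh.pullPushAdj f').comp (EtShriek.extZeroAdj j'))
    (((EtShriek.extZeroAdj j).comp (EtCoh.pullPushAdj f)).ofNatIsoRight
      (restrPushIso j f j' f' h).symm)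

end Groth.Agent.Lib.Helper22.EtLoc
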