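import Groth.Prelude.Def_SGA4b

/-!
# Base change along the identity; direct image of sheaves of sets along an isomorphism
-/

set_option autoImplicit false
universe u
open CategoryTheory CategoryTheory.Limits AlgebraicGeometry Opposite

namespace Groth.Agent.Lib.Helper22.EtLoc

noncomputable section

variable {X Y : Scheme.{u}}

/-- The projection `U ×_X X → U` as an isomorphism. -/
def fstIdIso {U : Scheme.{u}} (uh : U ⟶ X) : pullback uh (𝟙 X) ≅ U :=
  asIso (pullback.fst uh (𝟙 X))

@[simp] lemma fstIdIso_hom {U : Scheme.{u}} (uh : U ⟶ X) :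
    (fstIdIso uh).hom = pullback.fst uh (𝟙 X) := rfl

set_option backward.isDefEq.respectTransparency.types false in
/-- Base change along the identity is the identity. -/
def bcIdIso (X : Scheme.{u}) : EtCoh.bc (𝟙 X) ≅ 𝟭 X.Etale :=
  NatIso.ofComponents
    (fun U => MorphismProperty.Over.isoMk (fstIdIso (U.hom : U.left ⟶ X))
      (by
        change pullback.fst (U.hom : U.left ⟶ X) (𝟙 X) ≫ U.hom = pullback.snd U.hom (𝟙 X)
        rw [pullback.condition, Category.comp_id]))
    (by
      intro U V φ
      apply MorphismProperty.Over.Hom.ext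
      change ((EtCoh.bc (𝟙 X)).map φ).left ≫ pullback.fst (V.hom : V.left ⟶ X) (𝟙 X) =
        pullback.fst (U.hom : U.left ⟶ X) (𝟙 X) ≫ φ.left
      dsimp [EtCoh.bc]
      exact pullback.lift_fst _ _ _)

/-- Direct image of sheaves of sets along the identity is the identity. -/
def pushShId (X : Scheme.{u}) : EtDesc.pushSh (𝟙 X) ≅ 𝟭 (EtDesc.Sh X) :=
  Functor.sheafPushforwardContinuousId' (bcIdIso X) _ _

/-- Direct image of sheaves of sets along an isomorphism of schemes is an equivalence. -/
def pushShEquiv (e : X ≅ Y) : EtDesc.Sh X ≌ EtDesc.Sh Y :=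
  CategoryTheory.Equivalence.mk (EtDesc.pushSh e.hom) (EtDesc.pushSh e.inv)
    ((pushShId X).symm ≪≫ eqToIso (by rw [e.hom_inv_id]) ≪≫ (EtDesc.pushCompSh e.inv e.hom).symm)
    (EtDesc.pushCompSh e.hom e.inv ≪≫ eqToIso (by rw [e.inv_hom_id]) ≪≫ pushShId Y)

instance isEquivalence_pushSh_of_isIso (f : X ⟶ Y) [IsIso f] : (EtDesc.pushSh f).IsEquivalence :=
  (pushShEquiv (asIso f)).isEquivalence_functor

/-- The unit `G → f_* f^* G` is an isomorphism for an isomorphism `f`. -/
instance isIso_unit_adjSh_of_isIso (f : X ⟶ Y) [IsIso f] (G : EtDesc.Sh Y) :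
    IsIso ((EtDesc.adjSh f).unit.app G) := by
  have := (EtDesc.adjSh f).isEquivalence_left_of_isEquivalence_right
  infer_instance

end

end Groth.Agent.Lib.Helper22.EtLoc
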