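import Groth.Agent.Lib.Helper22.EtStalk.ClosedPush

/-!
# Open subschemes of étale schemes and gluing over disjoint covers (helper22)
-/

set_option autoImplicit false
universe u
open CategoryTheory CategoryTheory.Limits AlgebraicGeometry Opposite

namespace Groth.Agent.Lib.Helper22.EtLoc.Clopen

open Groth.Agent.Lib.Helper22.CechU.Etale Groth.Agent.Lib.Helper22.EtStalk

noncomputable section

variable {X : Scheme.{u}}

/-- An open subscheme of an étale `X`-scheme, as an étale `X`-scheme. -/
def openSub (P : X.Etale) (W : P.left.Opens) : X.Etale :=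
  MorphismProperty.Over.mk ⊤ (W.ι ≫ (P.hom : P.left ⟶ X)) (by
    have : Etale (P.hom : P.left ⟶ X) := P.prop
    exact (inferInstance : Etale (W.ι ≫ (P.hom : P.left ⟶ X))))

/-- The inclusion of an open subscheme. -/
def openSubι (P : X.Etale) (W : P.left.Opens) : openSub P W ⟶ P :=
  MorphismProperty.Over.homMk W.ι rfl trivial

@[simp] lemma openSubι_left (P : X.Etale) (W : P.left.Opens) : (openSubι P W).left = W.ι := rfl

instance mono_openSubι (P : X.Etale) (W : P.left.Opens) : Mono (openSubι P W) := by
  constructor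
  intro Z g₁ g₂ h
  apply MorphismProperty.Over.Hom.ext
  have h1 : g₁.left ≫ W.ι = g₂.left ≫ W.ι := congrArg (fun φ => φ.left) h
  exact (cancel_mono W.ι).1 h1

/-- Restriction of a morphism of étale schemes to an open of the target. -/
def openSubMap {Q P : X.Etale} (m : Q ⟶ P) (W : P.left.Opens) :
    openSub Q (m.left ⁻¹ᵁ W) ⟶ openSub P W :=
  MorphismProperty.Over.homMk (m.left ∣_ W) (by
    change (m.left ∣_ W) ≫ W.ι ≫ (P.hom : P.left ⟶ X) = (m.left ⁻¹ᵁ W).ι ≫ (Q.hom : Q.left ⟶ X)
    have h1 : m.left ≫ (P.hom : P.left ⟶ X) = Q.hom := Over.w m.hom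
    rw [← Category.assoc, morphismRestrict_ι, Category.assoc, h1]) trivial

lemma openSubMap_ι {Q P : X.Etale} (m : Q ⟶ P) (W : P.left.Opens) :
    openSubMap m W ≫ openSubι P W = openSubι Q (m.left ⁻¹ᵁ W) ≫ m := by
  apply MorphismProperty.Over.Hom.ext
  exact morphismRestrict_ι m.left W

section Glue

variable (F : EtCoh.Ab X) {P A B : X.Etale} (a : A ⟶ P) (b : B ⟶ P)

/-- The two-element family. -/
def cov2 (A B : X.Etale) : Bool → X.Etale
  | true => A
  | false => B

/-- The two-element family of arrows. -/
def cov2π : (i : Bool) → cov2 A B i ⟶ P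
  | true => a
  | false => b

lemma cover2_mem (hcov : ∀ p : P.left, p ∈ Set.range a.left.base ∨ p ∈ Set.range b.left.base) :
    Sieve.ofArrows (cov2 A B) (cov2π a b) ∈ X.smallEtaleTopology P := by
  rw [mem_smallEtaleTopology_iff]
  intro x
  rcases hcov x with ⟨y, hy⟩ | ⟨y, hy⟩
  · exact ⟨A, a, y, Sieve.ofArrows_mk _ _ true, hy⟩
  · exact ⟨B, b, y, Sieve.ofArrows_mk _ _ false, hy⟩

lemma isSheafFor_cover2
    (hcov : ∀ p : P.left, p ∈ Set.range a.left.base ∨ p ∈ Set.range b.left.base) :
    (Presieve.ofArrows (cov2 A B) (cov2π a b)).IsSheafFor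
      (F.obj ⋙ forget AddCommGrpCat.{u + 1}) := by
  rw [Presieve.isSheafFor_iff_generate]
  exact isSheaf_forget F _ (cover2_mem a b hcov)

/-- Sections are determined by their restrictions to a two-element cover. -/
lemma sep2 (hcov : ∀ p : P.left, p ∈ Set.range a.left.base ∨ p ∈ Set.range b.left.base)
    (r r' : F.obj.obj (op P)) (h1 : F.obj.map a.op r = F.obj.map a.op r')
    (h2 : F.obj.map b.op r = F.obj.map b.op r') : r = r' := by
  refine (isSheafFor_cover2 F a b hcov).isSeparatedFor.ext ?_
  intro Y f hf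
  obtain ⟨i⟩ := hf
  cases i
  · exact h2
  · exact h1

/-- Gluing over a disjoint cover by two monomorphisms. -/
lemma glue2 [Mono a] [Mono b]
    (hcov : ∀ p : P.left, p ∈ Set.range a.left.base ∨ p ∈ Set.range b.left.base)
    (hdisj : Disjoint (Set.range a.left.base) (Set.range b.left.base))
    (s : F.obj.obj (op A)) (t : F.obj.obj (op B)) :
    ∃ r : F.obj.obj (op P), F.obj.map a.op r = s ∧ F.obj.map b.op r = t := by
  have hs := (Presieve.isSheafFor_arrows_iff (F.obj ⋙ forget AddCommGrpCat.{u + 1})
    (cov2π a b)).1 (isSheafFor_cover2 F a b hcov)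
  let x : (i : Bool) → (F.obj ⋙ forget AddCommGrpCat.{u + 1}).obj (op (cov2 A B i)) := fun i =>
    match i with
    | true => s
    | false => t
  have key : ∀ (Z : X.Etale) (g₁ : Z ⟶ A) (g₂ : Z ⟶ B), g₁ ≫ a = g₂ ≫ b →
      F.obj.map g₁.op s = F.obj.map g₂.op t := by
    intro Z g₁ g₂ hg
    have hE : IsEmpty Z.left := by
      constructor
      intro z
      have h0 : g₁.left ≫ a.left = g₂.left ≫ b.left := congrArg (fun φ => φ.left) hg
      have h1 : a.left (g₁.left z) = b.left (g₂.left z) := by
        have := congrArg (fun ψ : Z.left ⟶ P.left => ψ z) h0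
        simpa only [Scheme.Hom.comp_apply] using this
      exact Set.disjoint_left.1 hdisj ⟨g₁.left z, rfl⟩ ⟨g₂.left z, h1.symm⟩
    have := subsingleton_sections_of_isEmpty F Z
    exact Subsingleton.elim _ _
  have hx : Presieve.Arrows.Compatible (F.obj ⋙ forget AddCommGrpCat.{u + 1}) (cov2π a b) x := by
    intro i j Z gi gj hg
    cases i <;> cases j
    · have : gi = gj := (cancel_mono b).1 hg
      rw [this]
    · exact (key Z gj gi hg.symm).symm
    · exact key Z gi gj hg
    · have : gi = gj := (cancel_mono a).1 hg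
      rw [this]
  obtain ⟨r, hr1, -⟩ := hs x hx
  exact ⟨r, hr1 true, hr1 false⟩

end Glue

section Compl

variable {S : Scheme.{u}} (W : S.Opens) (hW : IsClosed (W : Set S))

/-- The open complement of a clopen. -/
def complS : S.Opens := ⟨(W : Set S)ᶜ, hW.isOpen_compl⟩

lemma complS_cover (p : S) : p ∈ Set.range W.ι ∨ p ∈ Set.range (complS W hW).ι := by
  rw [Scheme.Opens.range_ι, Scheme.Opens.range_ι]
  exact Classical.em (p ∈ (W : Set S))

lemma complS_disjoint : Disjoint (Set.range W.ι) (Set.range (complS W hW).ι) := by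
  rw [Scheme.Opens.range_ι, Scheme.Opens.range_ι]
  exact disjoint_compl_right

end Compl

section ExtendZero

variable (F : EtCoh.Ab X) (P : X.Etale) (W : P.left.Opens) (hW : IsClosed (W : Set P.left))

/-- The open complement of a clopen. -/
abbrev compl : P.left.Opens := complS W hW

lemma clopen_cover (p : P.left) :
    p ∈ Set.range (openSubι P W).left.base ∨
      p ∈ Set.range (openSubι P (compl P W hW)).left.base :=
  complS_cover W hW p

lemma clopen_disjoint :
    Disjoint (Set.range (openSubι P W).left.base)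
      (Set.range (openSubι P (compl P W hW)).left.base) :=
  complS_disjoint W hW

/-- Extension by zero of a section over a clopen. -/
lemma exists_extend_zero (s : F.obj.obj (op (openSub P W))) :
    ∃ r : F.obj.obj (op P), F.obj.map (openSubι P W).op r = s ∧
      F.obj.map (openSubι P (compl P W hW)).op r = 0 :=
  glue2 F (openSubι P W) (openSubι P (compl P W hW)) (clopen_cover P W hW)
    (clopen_disjoint P W hW) s 0

/-- A section vanishing on a clopen and on its complement vanishes. -/
lemma eq_zero_of_clopen (r : F.obj.obj (op P)) (h1 : F.obj.map (openSubι P W).op r = 0)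
    (h2 : F.obj.map (openSubι P (compl P W hW)).op r = 0) : r = 0 :=
  sep2 F (openSubι P W) (openSubι P (compl P W hW)) (clopen_cover P W hW) r 0
    (h1.trans (map_zero _).symm) (h2.trans (map_zero _).symm)

end ExtendZero

end

end Groth.Agent.Lib.Helper22.EtLoc.Clopen
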