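import Groth.Agent.Lib.Helper22.EtStalk.ConstStalk
import Groth.Agent.Lib.Helper22.EtStalk.Conservative
import Groth.Agent.Lib.Helper22.EtStalk.AlgClosedPoints
import Groth.Agent.Lib.Helper22.CechU.EtaleCov
import Mathlib.CategoryTheory.Sites.LocallyBijective

/-!
# Maps between constant sheaves are locally induced by group homomorphisms (helper22)
-/

set_option autoImplicit false

universe v u

open CategoryTheory CategoryTheory.Limits AlgebraicGeometry Opposite

namespace Groth.Agent.Lib.Helper22.EtLoc.ConstHom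

open Groth.Agent.Lib.Helper22.EtStalk Groth.Agent.Lib.Helper22.CechU.Etale

noncomputable section

variable {U : Scheme.{u}}

/-- The constant sheaf. -/
abbrev cst (M : AddCommGrpCat.{u + 1}) : EtCoh.Ab U :=
  (constantSheaf U.smallEtaleTopology AddCommGrpCat.{u + 1}).obj M

/-- The constant sections of a constant sheaf. -/
def tsec (M : AddCommGrpCat.{u + 1}) (T : U.Etale) : M ⟶ (cst (U := U) M).obj.obj (op T) :=
  (toSheafify U.smallEtaleTopology ((Functor.const (U.Etale)ᵒᵖ).obj M)).app (op T)

lemma tsec_map (M : AddCommGrpCat.{u + 1}) {T T' : U.Etale} (f : T' ⟶ T) (m : M) :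
    (cst (U := U) M).obj.map f.op (tsec M T m) = tsec M T' m := by
  have := (toSheafify U.smallEtaleTopology ((Functor.const (U.Etale)ᵒᵖ).obj M)).naturality f.op
  have h2 := congrArg (fun φ => φ.hom m) this
  simp only [Functor.const_obj_obj, Functor.const_obj_map, Category.id_comp] at h2
  exact h2.symm

lemma tsec_naturality {M N : AddCommGrpCat.{u + 1}} (h : M ⟶ N) (T : U.Etale) (m : M) :
    ((constantSheaf U.smallEtaleTopology AddCommGrpCat.{u + 1}).map h).hom.app (op T) (tsec M T m) =
      tsec N T (h m) := by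
  have := toSheafify_naturality U.smallEtaleTopology ((Functor.const (U.Etale)ᵒᵖ).map h)
  have h2 := congrArg (fun φ => (φ.app (op T)).hom m) this
  exact h2.symm

variable {Ω : Type u} [Field Ω] [IsSepClosed Ω] (ξ : Spec (CommRingCat.of Ω) ⟶ U)

lemma presheafFiberConstIso_inv (M : AddCommGrpCat.{u + 1}) (T : U.Etale)
    (x : (Scheme.pointSmallEtale ξ).fiber.obj T) :
    (ConstStalk.presheafFiberConstIso ξ M).inv =
      (Scheme.pointSmallEtale ξ).toPresheafFiber T x ((Functor.const (U.Etale)ᵒᵖ).obj M) := by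
  have : IsConnected ((Scheme.pointSmallEtale ξ).fiber.Elementsᵒᵖ) := IsFiltered.isConnected _
  have := IsColimit.comp_coconePointUniqueUpToIso_inv
    ((Scheme.pointSmallEtale ξ).isColimitPresheafFiberCocone ((Functor.const (U.Etale)ᵒᵖ).obj M))
    (isColimitConstCocone ((Scheme.pointSmallEtale ξ).fiber.Elementsᵒᵖ) M)
    (op ((Scheme.pointSmallEtale ξ).fiber.elementsMk T x))
  exact (Category.id_comp _).symm.trans this

/-- The inverse of `stalkConstIso` sends `m` to the germ of the constant section `m`. -/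
lemma stalkConstIso_inv_apply (M : AddCommGrpCat.{u + 1}) (T : U.Etale)
    (x : (Scheme.pointSmallEtale ξ).fiber.obj T) (m : M) :
    (ConstStalk.stalkConstIso ξ M).inv m = germ ξ (cst M) T x (tsec M T m) := by
  have h1 : (ConstStalk.stalkConstIso ξ M).inv =
      (ConstStalk.presheafFiberConstIso ξ M).inv ≫
        (Scheme.pointSmallEtale ξ).presheafFiber.map
          (toSheafify U.smallEtaleTopology ((Functor.const (U.Etale)ᵒᵖ).obj M)) := rfl
  rw [h1, presheafFiberConstIso_inv ξ M T x,
    (Scheme.pointSmallEtale ξ).toPresheafFiber_naturality]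
  rfl

/-- Finitely many pairs of sections with equal germs agree on a common étale neighbourhood. -/
lemma exists_common_nbhd (F : EtCoh.Ab U) (K : Type v) [Finite K] :
    ∀ (T : U.Etale) (x : (Scheme.pointSmallEtale ξ).fiber.obj T) (a b : K → F.obj.obj (op T)),
      (∀ k, germ ξ F T x (a k) = germ ξ F T x (b k)) →
      ∃ (W : U.Etale) (f : W ⟶ T) (w : (Scheme.pointSmallEtale ξ).fiber.obj W),
        (Scheme.pointSmallEtale ξ).fiber.map f w = x ∧
          ∀ k, F.obj.map f.op (a k) = F.obj.map f.op (b k) := by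
  induction K using Finite.induction_empty_option with
  | of_equiv e ih =>
    intro T x a b h
    obtain ⟨W, f, w, hw, hk⟩ := ih T x (a ∘ e) (b ∘ e) (fun k => h (e k))
    exact ⟨W, f, w, hw, fun k => by simpa using hk (e.symm k)⟩
  | h_empty =>
    intro T x a b _
    exact ⟨T, 𝟙 T, x, by simp, fun k => k.elim⟩
  | h_option ih =>
    intro T x a b h
    obtain ⟨W₂, f₂, w₂, hw₂, hf₂⟩ :=
      ((Scheme.pointSmallEtale ξ).toPresheafFiber_eq_iff' T x (a none) (b none)).1 (h none)
    obtain ⟨W, f, w, hw, hk⟩ := ih W₂ w₂ (fun k => F.obj.map f₂.op (a (some k)))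
      (fun k => F.obj.map f₂.op (b (some k))) (fun k => by
        rw [germ_map, germ_map, hw₂]
        exact h (some k))
    refine ⟨W, f ≫ f₂, w, ?_, ?_⟩
    · rw [Functor.map_comp]
      exact (congrArg _ hw).trans hw₂
    · intro k
      rw [op_comp, Functor.map_comp]
      cases k with
      | none => exact congrArg (F.obj.map f.op) hf₂
      | some k => exact hk k

end

noncomputable section

variable {U : Scheme.{u}}

lemma map_comp_app (F : EtCoh.Ab U) {A B C : U.Etale} (k : A ⟶ B) (l : B ⟶ C)
    (c : F.obj.obj (op C)) :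
    F.obj.map (k ≫ l).op c = F.obj.map k.op (F.obj.map l.op c) := by
  rw [op_comp, Functor.map_comp_apply]

/-- **A map between constant sheaves, with finite source, is étale locally induced by a group
homomorphism.** -/
theorem exists_local_hom (M N : AddCommGrpCat.{u + 1}) [Finite M] (ψ : cst (U := U) M ⟶ cst N)
    (y : U) :
    ∃ (W : U.Etale) (_ : y ∈ Set.range W.hom) (h : M ⟶ N), ∀ (T : U.Etale) (_ : T ⟶ W),
      ψ.hom.app (op T) =
        ((constantSheaf U.smallEtaleTopology AddCommGrpCat.{u + 1}).map h).hom.app (op T) := by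
  obtain ⟨Ω, _, _, ξ, x, hx⟩ := AC.exists_geomPoint (EtCoh.top U) y
  let h : M ⟶ N := (ConstStalk.stalkConstIso ξ M).inv ≫ (EtCoh.stalk ξ).map ψ ≫
    (ConstStalk.stalkConstIso ξ N).hom
  let a : M → (cst (U := U) N).obj.obj (op (EtCoh.top U)) :=
    fun m => ψ.hom.app (op (EtCoh.top U)) (tsec M (EtCoh.top U) m)
  let b : M → (cst (U := U) N).obj.obj (op (EtCoh.top U)) :=
    fun m => tsec N (EtCoh.top U) (h m)
  have hgerm : ∀ m, germ ξ (cst N) (EtCoh.top U) x (a m) = germ ξ (cst N) (EtCoh.top U) x (b m) := by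
    intro m
    have h1 : germ ξ (cst N) (EtCoh.top U) x (a m) =
        (EtCoh.stalk ξ).map ψ ((ConstStalk.stalkConstIso ξ M).inv m) := by
      rw [stalkConstIso_inv_apply ξ M (EtCoh.top U) x m, germ_naturality]
    have h2 : germ ξ (cst N) (EtCoh.top U) x (b m) = (ConstStalk.stalkConstIso ξ N).inv (h m) :=
      (stalkConstIso_inv_apply ξ N (EtCoh.top U) x (h m)).symm
    rw [h1, h2]
    change _ = (ConstStalk.stalkConstIso ξ N).inv ((ConstStalk.stalkConstIso ξ N).hom
      ((EtCoh.stalk ξ).map ψ ((ConstStalk.stalkConstIso ξ M).inv m)))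
    exact (congrArg (fun φ => φ.hom ((EtCoh.stalk ξ).map ψ ((ConstStalk.stalkConstIso ξ M).inv m)))
      (ConstStalk.stalkConstIso ξ N).hom_inv_id).symm
  obtain ⟨W, f, w, hw, hab⟩ := exists_common_nbhd ξ (cst N) M (EtCoh.top U) x a b hgerm
  refine ⟨W, ?_, h, ?_⟩
  · refine ⟨w.left (default : Spec (CommRingCat.of Ω)), ?_⟩
    have h1 : w.left ≫ W.hom = ξ := Over.w w
    have h2 : x.left ≫ (EtCoh.top U).hom = ξ := Over.w x
    have h3 : (w.left ≫ W.hom) (default : Spec (CommRingCat.of Ω)) = y := by
      rw [h1, ← h2, Scheme.Hom.comp_apply, hx]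
      rfl
    rwa [Scheme.Hom.comp_apply] at h3
  · intro T g
    ext s
    apply eq_of_locally_eq
    intro p
    have hcov := Presheaf.imageSieve_mem U.smallEtaleTopology
      (toSheafify U.smallEtaleTopology ((Functor.const (U.Etale)ᵒᵖ).obj M)) (U := op T) s
    rw [mem_smallEtaleTopology_iff] at hcov
    obtain ⟨V, e, v, ⟨m, hm⟩, hv⟩ := hcov p
    refine ⟨V, e, ⟨v, hv⟩, ?_⟩
    have hm' : tsec M V m = (cst (U := U) M).obj.map e.op s := hm
    have e1 := congrArg (fun φ => φ.hom s) (ψ.hom.naturality e.op)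
    have e2 := congrArg (fun φ => φ.hom s)
      (((constantSheaf U.smallEtaleTopology AddCommGrpCat.{u + 1}).map h).hom.naturality e.op)
    have e3 := congrArg (fun φ => φ.hom (tsec M (EtCoh.top U) m))
      (ψ.hom.naturality (e ≫ g ≫ f).op)
    simp only [AddCommGrpCat.hom_comp, AddMonoidHom.coe_comp, Function.comp_apply] at e1 e2 e3
    have hassoc : e ≫ g ≫ f = (e ≫ g) ≫ f := (Category.assoc _ _ _).symm
    calc (cst N).obj.map e.op (ψ.hom.app (op T) s)
        = ψ.hom.app (op V) ((cst (U := U) M).obj.map e.op s) := e1.symm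
      _ = ψ.hom.app (op V) (tsec M V m) := by rw [hm']
      _ = ψ.hom.app (op V) ((cst (U := U) M).obj.map (e ≫ g ≫ f).op (tsec M (EtCoh.top U) m)) := by
          rw [tsec_map]
      _ = (cst N).obj.map (e ≫ g ≫ f).op (a m) := e3
      _ = (cst N).obj.map (e ≫ g).op ((cst N).obj.map f.op (a m)) := by
          rw [hassoc]; exact map_comp_app _ _ _ _
      _ = (cst N).obj.map (e ≫ g).op ((cst N).obj.map f.op (b m)) := by rw [hab m]
      _ = (cst N).obj.map (e ≫ g ≫ f).op (b m) := by
          rw [hassoc]; exact (map_comp_app _ _ _ _).symm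
      _ = tsec N V (h m) := tsec_map N _ _
      _ = ((constantSheaf U.smallEtaleTopology AddCommGrpCat.{u + 1}).map h).hom.app (op V)
            (tsec M V m) := (tsec_naturality h V m).symm
      _ = ((constantSheaf U.smallEtaleTopology AddCommGrpCat.{u + 1}).map h).hom.app (op V)
            ((cst (U := U) M).obj.map e.op s) := by rw [hm']
      _ = (cst N).obj.map e.op
            (((constantSheaf U.smallEtaleTopology AddCommGrpCat.{u + 1}).map h).hom.app (op T) s) := e2

end

end Groth.Agent.Lib.Helper22.EtLoc.ConstHom
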