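import Groth.Agent.Lib.Helper22.EtLoc.AcyclicAll

/-!
# Higher étale cohomology classes vanish étale locally
-/

set_option autoImplicit false
set_option linter.unusedSectionVars false
universe u
open CategoryTheory CategoryTheory.Limits AlgebraicGeometry Opposite Abelian

namespace Groth.Agent.Lib.Helper22.EtLoc

open Groth.Agent.Lib.Helper22.CechU.Etale Groth.Agent.Lib.Helper22.DimShift

noncomputable section

variable {X Y : Scheme.{u}}

/-- Naturality of the degree-zero identification `σH`. -/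
lemma σH_naturality (j : Y ⟶ X) [Etale j] {G G' : EtCoh.Ab X} (ψ : G ⟶ G')
    (x : EtCoh.H Y ((EtCoh.pull j).obj G) 0) :
    σH j G' (x.comp (Ext.mk₀ ((EtCoh.pull j).map ψ)) (add_zero 0)) =
      ψ.hom.app (op ((pj j).obj (EtCoh.top Y))) (σH j G x) := by
  have h1 := Sheaf.H.equiv₀_naturality (hT := EtCore.topIsTerminal Y) ((EtCoh.pull j).map ψ) x
  have h2 := congrArg (fun φ => (ConcreteCategory.hom φ)
    (Sheaf.H.equiv₀ _ (EtCore.topIsTerminal Y) x)) (σ_naturality j ψ)
  refine Eq.trans ?_ h2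
  change (σ j G').hom (Sheaf.H.equiv₀ _ (EtCore.topIsTerminal Y)
    (x.comp (Ext.mk₀ ((EtCoh.pull j).map ψ)) (add_zero 0))) = _
  rw [← Sheaf.H.map_apply, ← h1]
  rfl

set_option backward.isDefEq.respectTransparency.types false in
/-- A degree-one class dies étale locally. -/
lemma exists_etale_Hpull_one_eq_zero (F : EtCoh.Ab X) (α : EtCoh.H X F 1) (x : X) :
    ∃ (W : X.Etale) (w : W.left), (W.hom : W.left ⟶ X) w = x ∧
      EtCore.Hpull (W.hom : W.left ⟶ X) F 1 α = 0 := by
  have hS := injSC_shortExact F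
  have h0 : (α : Ext (EtCoh.const X ℤ) (injSC F).X₁ 1).comp (Ext.mk₀ (injSC F).f) (add_zero 1) = 0 :=
    Ext.eq_zero_of_injective _
  obtain ⟨β, hβ⟩ := Ext.covariant_sequence_exact₁ _ hS α h0 (zero_add 1)
  let b := Sheaf.H.equiv₀ _ (EtCore.topIsTerminal X) β
  have : Epi (injSC F).g := hS.epi_g
  have hls : Sheaf.IsLocallySurjective (injSC F).g :=
    (Sheaf.isLocallySurjective_iff_epi' _ (injSC F).g).2 inferInstance
  have hmem := Presheaf.imageSieve_mem X.smallEtaleTopology (injSC F).g.hom b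
  rw [mem_smallEtaleTopology_iff] at hmem
  obtain ⟨V, f, v, ⟨z, hz⟩, hv⟩ := hmem x
  have hE : Etale (V.hom : V.left ⟶ X) := V.prop
  have hfl : (f.left : V.left ⟶ X) = V.hom := by
    let fl : V.left ⟶ X := f.left
    have e : fl ≫ 𝟙 X = V.hom := Over.w f.hom
    change fl = V.hom
    rw [← e, Category.comp_id]
  refine ⟨V, v, by rw [← hfl]; exact hv, ?_⟩
  let j : V.left ⟶ X := V.hom
  let e := pjTopIso V
  let z' := (injSC F).X₂.obj.map e.hom.op z
  let γ := (σH j (injSC F).X₂).symm z'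
  have hγ : γ.comp (Ext.mk₀ ((EtCoh.pull j).map (injSC F).g)) (add_zero 0) =
      EtCore.Hpull j (injSC F).X₃ 0 β := by
    apply (σH j (injSC F).X₃).injective
    rw [σH_naturality, σH_Hpull j (injSC F).X₃ (e.hom ≫ f) β, AddEquiv.apply_symm_apply]
    have h1 := NatTrans.naturality_apply (injSC F).g.hom e.hom.op z
    refine h1.trans ?_
    rw [hz, op_comp, Functor.map_comp]
    rfl
  have h2 := Hpull_δ j (injSC F) hS 0 1 (zero_add 1) β
  rw [hβ] at h2
  refine h2.trans ?_
  rw [← hγ, Ext.comp_assoc_of_second_deg_zero]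
  erw [(hS.map_of_exact (EtCoh.pull j)).comp_extClass]
  exact Ext.comp_zero ..

/-- Higher étale cohomology classes die étale locally. -/
theorem exists_etale_Hpull_eq_zero (n : ℕ) : ∀ (F : EtCoh.Ab X) (α : EtCoh.H X F (n + 1)) (x : X),
    ∃ (W : X.Etale) (w : W.left), (W.hom : W.left ⟶ X) w = x ∧
      EtCore.Hpull (W.hom : W.left ⟶ X) F (n + 1) α = 0 := by
  induction n with
  | zero => exact exists_etale_Hpull_one_eq_zero
  | succ n ih =>
    intro F α x
    have hS := injSC_shortExact F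
    have h0 : (α : Ext (EtCoh.const X ℤ) (injSC F).X₁ (n + 1 + 1)).comp (Ext.mk₀ (injSC F).f)
        (add_zero (n + 1 + 1)) = 0 := Ext.eq_zero_of_injective _
    obtain ⟨β, hβ⟩ := Ext.covariant_sequence_exact₁ _ hS α h0 (n₀ := n + 1) rfl
    obtain ⟨W, w, hw, hW⟩ := ih (injSC F).X₃ β x
    refine ⟨W, w, hw, ?_⟩
    have h2 := Hpull_δ (W.hom : W.left ⟶ X) (injSC F) hS (n + 1) (n + 1 + 1) rfl β
    rw [hβ] at h2
    refine h2.trans ?_
    rw [hW]
    exact Ext.zero_comp ..

end

end Groth.Agent.Lib.Helper22.EtLoc
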