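import Groth.Agent.Lib.Helper22.EtLoc.TransferField
import Groth.Agent.Lib.Helper22.EtLoc.LocallyZero
import Groth.Agent.S0101

/-!
# Points of étale schemes over a field
-/

set_option autoImplicit false
set_option linter.unusedSectionVars false
universe u
open CategoryTheory CategoryTheory.Limits AlgebraicGeometry Opposite Abelian

namespace Groth.Agent.Lib.Helper22.EtLoc

noncomputable section

/-- A point of an étale scheme over a field `k` is dominated by the spectrum of a finite separable
extension of `k`. -/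
theorem exists_finite_separable_point (k : Type u) [Field k] {Y : Scheme.{u}}
    (f : Y ⟶ Spec (CommRingCat.of k)) [Etale f] (y : Y) :
    ∃ (L : Type u) (_ : Field L) (_ : Algebra k L) (_ : FiniteDimensional k L)
      (_ : Algebra.IsSeparable k L) (g : Spec (CommRingCat.of L) ⟶ Y),
      g ≫ f = Spec.map (CommRingCat.ofHom (algebraMap k L)) := by
  obtain ⟨R, ι, hι, r, hr⟩ := Scheme.exists_Spec_apply_eq y
  obtain ⟨φ, hφ⟩ := Spec.map_surjective (ι ≫ f)
  have hE : Etale (Spec.map φ) := by rw [hφ]; infer_instance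
  rw [HasRingHomProperty.Spec_iff (P := @Etale)] at hE
  algebraize [φ.hom]
  obtain ⟨I, _, Ai, _, _, e, hAi⟩ := (Algebra.Etale.iff_exists_algEquiv_prod k R).1 hE
  have hI : Nonempty I := by
    by_contra hne
    rw [not_nonempty_iff] at hne
    have : Subsingleton R := e.injective.subsingleton
    have : Nontrivial R := by
      have : Nonempty (PrimeSpectrum R) := ⟨r⟩
      exact (PrimeSpectrum.nonempty_iff_nontrivial).1 this
    exact not_subsingleton R ‹_›
  obtain ⟨i⟩ := hI
  let ψ : R →ₐ[k] Ai i := (Pi.evalAlgHom k Ai i).comp e.toAlgHom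
  refine ⟨Ai i, inferInstance, inferInstance, (hAi i).1, (hAi i).2,
    Spec.map (CommRingCat.ofHom ψ.toRingHom) ≫ ι, ?_⟩
  rw [Category.assoc, ← hφ, ← Spec.map_comp]
  congr 1
  ext a
  exact ψ.commutes a

/-- A higher cohomology class on `Spec k` dies on a finite separable extension of `k`. -/
theorem exists_finite_separable_Hpull_eq_zero (k : Type u) [Field k]
    (F : EtCoh.Ab (Spec (CommRingCat.of k))) (n : ℕ)
    (α : EtCoh.H (Spec (CommRingCat.of k)) F (n + 1)) :
    ∃ (L : Type u) (_ : Field L) (_ : Algebra k L) (_ : FiniteDimensional k L)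
      (_ : Algebra.IsSeparable k L),
      ∀ [PreservesFiniteLimits (EtCoh.pull (Spec.map (CommRingCat.ofHom (algebraMap k L))))],
        EtCore.Hpull (Spec.map (CommRingCat.ofHom (algebraMap k L))) F (n + 1) α = 0 := by
  obtain ⟨W, w, -, hW⟩ := exists_etale_Hpull_eq_zero n F α
    (⟨⊥, Ideal.isPrime_bot⟩ : PrimeSpectrum k)
  have hE : Etale (W.hom : W.left ⟶ Spec (CommRingCat.of k)) := W.prop
  obtain ⟨L, _, _, _, _, g, hg⟩ := exists_finite_separable_point k
    (W.hom : W.left ⟶ Spec (CommRingCat.of k)) w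
  refine ⟨L, inferInstance, inferInstance, inferInstance, inferInstance, ?_⟩
  intro _
  have : PreservesFiniteLimits (EtCoh.pull g) := Groth.Agent.S0101.result g
  have h := HpullVia_Hpull g (W.hom : W.left ⟶ Spec (CommRingCat.of k)) _ hg F (n + 1) α
  rw [← h, hW, map_zero]

/-- Higher cohomology of `Spec k` is torsion. -/
theorem isOfFinAddOrder_H_field (k : Type u) [Field k]
    (F : EtCoh.Ab (Spec (CommRingCat.of k))) (i : ℕ) (hi : 0 < i)
    (x : EtCoh.H (Spec (CommRingCat.of k)) F i) : IsOfFinAddOrder x := by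
  obtain ⟨n, rfl⟩ : ∃ n, i = n + 1 := ⟨i - 1, by omega⟩
  obtain ⟨L, _, _, _, _, hL⟩ := exists_finite_separable_Hpull_eq_zero k F n x
  have h := field_transfer k L F (n + 1) x hL
  rw [isOfFinAddOrder_iff_nsmul_eq_zero]
  exact ⟨Module.finrank k L, Module.finrank_pos, h⟩

end

end Groth.Agent.Lib.Helper22.EtLoc
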