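import Groth.Agent.Lib.Helper22.EtLoc.FieldTorsion

/-!
# Pullback of cohomology classes along towers of fields
-/

set_option autoImplicit false
set_option linter.unusedSectionVars false
universe u
open CategoryTheory CategoryTheory.Limits AlgebraicGeometry Opposite Abelian

namespace Groth.Agent.Lib.Helper22.EtLoc

noncomputable section

section General

variable {X Y Y' : Scheme.{u}} (f : Y' ⟶ Y) (t : Y ⟶ X) (f₀ : Y' ⟶ X) (w : f ≫ t = f₀)
  [PreservesFiniteLimits (EtCoh.pull f)] [PreservesFiniteLimits (EtCoh.pull t)]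
  [PreservesFiniteLimits (EtCoh.pull f₀)]

lemma HpullVia_injective_iff (G : EtCoh.Ab X) (p : ℕ)
    (x : EtCoh.H Y ((EtCoh.pull t).obj G) p) :
    EtCore.HpullVia f t f₀ w G p x = 0 ↔ EtCore.Hpull f ((EtCoh.pull t).obj G) p x = 0 := by
  rw [HpullVia_apply]
  constructor
  · intro h
    have h2 := congrArg (fun y => Ext.comp y (Ext.mk₀ ((εIso f t f₀ w).inv.app G)) (add_zero p)) h
    rw [Ext.comp_assoc_of_third_deg_zero, Ext.mk₀_comp_mk₀, Iso.hom_inv_id_app] at h2
    exact (Ext.comp_mk₀_id _).symm.trans (h2.trans (Ext.zero_comp ..))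
  · intro h
    rw [h, Ext.zero_comp]

include w in
/-- If a class dies on `Y` it dies on `Y'`. -/
lemma Hpull_eq_zero_of_factor (G : EtCoh.Ab X) (p : ℕ) (x : EtCoh.H X G p)
    (h : EtCore.Hpull t G p x = 0) : EtCore.Hpull f₀ G p x = 0 := by
  rw [← HpullVia_Hpull f t f₀ w G p x, h, map_zero]

include w in
/-- If a class dies on `Y'` then its restriction to `Y` dies on `Y'`. -/
lemma Hpull_Hpull_eq_zero (G : EtCoh.Ab X) (p : ℕ) (x : EtCoh.H X G p)
    (h : EtCore.Hpull f₀ G p x = 0) :
    EtCore.Hpull f ((EtCoh.pull t).obj G) p (EtCore.Hpull t G p x) = 0 := by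
  rw [← HpullVia_injective_iff f t f₀ w, HpullVia_Hpull f t f₀ w G p x, h]

end General

section Tower

variable (K A B : Type u) [Field K] [Field A] [Field B] [Algebra K A] [Algebra A B] [Algebra K B]
  [IsScalarTower K A B]

lemma specMapField_comp :
    specMapField A B ≫ specMapField K A = specMapField K B := by
  unfold specMapField
  rw [← Spec.map_comp]
  congr 1
  ext x
  exact (IsScalarTower.algebraMap_apply K A B x).symm

end Tower

end

end Groth.Agent.Lib.Helper22.EtLoc
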