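import Groth.Agent.Lib.Helper22.Strata.Adapted
import Groth.Agent.Lib.Helper22.EtLoc.MonoLoc
import Mathlib.Algebra.Category.Grp.Biproducts
import Mathlib.CategoryTheory.ObjectProperty.FiniteProducts

/-!
# Closure properties of finite locally constant sheaves (helper22)
-/

set_option autoImplicit false

universe u

open CategoryTheory CategoryTheory.Limits AlgebraicGeometry Opposite ZeroObject

namespace Groth.Agent.Lib.Helper22.EtLoc.Flc

open Groth.Agent.Lib.Helper22.EtLoc Groth.Agent.Lib.Helper22.Strata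

variable {X Y : Scheme.{u}}

/-- Reformulation of finite local constancy with étale morphisms and pullbacks. -/
theorem flc_iff (F : EtCoh.Ab X) :
    EtCoh.IsFiniteLocallyConstant F ↔
      ∀ x : X, ∃ (W : Scheme.{u}) (w : W ⟶ X) (_ : Etale w) (_ : x ∈ Set.range w) (M : Type)
        (_ : AddCommGroup M) (_ : Finite M),
        Nonempty ((EtCoh.pull w).obj F ≅ EtCoh.const W M) := by
  constructor
  · rintro ⟨ι, U, hU, hM⟩ x
    obtain ⟨i, y, hy⟩ := hU x
    obtain ⟨M, i1, i2, e⟩ := hM i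
    exact ⟨(U i).left, (U i).hom, (U i).prop, ⟨y, hy⟩, M, i1, i2,
      (OverSite.restr_iso_const_iff (U i) F _).1 e⟩
  · intro h
    choose W w hw hx M i1 i2 e using h
    refine ⟨X, fun x => @Scheme.Etale.mk _ _ (w x) (hw x), fun x => ?_, fun x => ?_⟩
    · obtain ⟨y, hy⟩ := hx x
      exact ⟨x, y, hy⟩
    · exact ⟨M x, i1 x, i2 x,
        (OverSite.restr_iso_const_iff (@Scheme.Etale.mk _ _ (w x) (hw x)) F _).2 (e x)⟩

/-- Finite local constancy is étale local. -/
theorem flc_of_etale_local (K : EtCoh.Ab Y)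
    (h : ∀ y : Y, ∃ (U : Scheme.{u}) (g : U ⟶ Y) (_ : Etale g) (_ : y ∈ Set.range g),
      EtCoh.IsFiniteLocallyConstant ((EtCoh.pull g).obj K)) :
    EtCoh.IsFiniteLocallyConstant K := by
  rw [flc_iff]
  intro y
  obtain ⟨U, g, hg, ⟨v, hv⟩, hK⟩ := h y
  obtain ⟨W, w, hw, ⟨t, ht⟩, M, i1, i2, e⟩ := (flc_iff _).1 hK v
  refine ⟨W, w ≫ g, inferInstance, ⟨t, ?_⟩, M, i1, i2, ?_⟩
  · rw [Scheme.Hom.comp_apply, ht, hv]
  · obtain ⟨e⟩ := e
    exact ⟨(EtCore.pullComp w g).app K ≪≫ e⟩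

/-- Pushforward along an isomorphism preserves finite local constancy. -/
theorem flc_push_of_isIso {V U : Scheme.{u}} (c : V ⟶ U) [IsIso c] (H : EtCoh.Ab V)
    (h : EtCoh.IsFiniteLocallyConstant H) :
    EtCoh.IsFiniteLocallyConstant ((EtCoh.push c).obj H) := by
  rw [flc_iff]
  intro x
  obtain ⟨W, w, hw, ⟨t, ht⟩, M, i1, i2, ⟨e⟩⟩ := (flc_iff _).1 h ((inv c) x)
  refine ⟨W, w ≫ c, inferInstance, ⟨t, ?_⟩, M, i1, i2, ?_⟩
  · rw [Scheme.Hom.comp_apply, ht, ← Scheme.Hom.comp_apply, IsIso.inv_hom_id]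
    rfl
  · have : IsIso ((EtCoh.pullPushAdj c).counit.app H) := isIso_pullPushAdj_counit_app c H
    exact ⟨(EtCore.pullComp w c).app _ ≪≫
      (EtCoh.pull w).mapIso (asIso ((EtCoh.pullPushAdj c).counit.app H)) ≪≫ e⟩

instance gsec_additive (X : Scheme.{u}) : (EtCore.gsec X).Additive where
  map_add := rfl

instance constantSheaf_additive (X : Scheme.{u}) :
    (constantSheaf X.smallEtaleTopology AddCommGrpCat.{u + 1}).Additive :=
  (EtCore.constAdj X).left_adjoint_additive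

instance constantSheaf_preservesBinaryBiproducts (X : Scheme.{u}) :
    PreservesBinaryBiproducts (constantSheaf X.smallEtaleTopology AddCommGrpCat.{u + 1}) :=
  preservesBinaryBiproducts_of_preservesBiproducts _

instance pull_preservesBinaryBiproducts (f : X ⟶ Y) :
    PreservesBinaryBiproducts (EtCoh.pull f) :=
  preservesBinaryBiproducts_of_preservesBiproducts _

/-- A zero sheaf is finite locally constant. -/
theorem flc_of_isZero (Z : EtCoh.Ab X) (hZ : IsZero Z) : EtCoh.IsFiniteLocallyConstant Z := by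
  rw [flc_iff]
  intro x
  refine ⟨X, 𝟙 X, inferInstance, ⟨x, rfl⟩, PUnit, inferInstance, inferInstance, ?_⟩
  have h1 : IsZero ((EtCoh.pull (𝟙 X)).obj Z) := Functor.map_isZero _ hZ
  have h0 : IsZero (AddCommGrpCat.of (ULift.{u + 1} PUnit)) :=
    AddCommGrpCat.isZero_of_subsingleton _
  have h2 : IsZero (EtCoh.const X PUnit) := Functor.map_isZero _ h0
  exact ⟨h1.iso h2⟩

/-- The constant sheaf on a product group. -/
lemma const_biprod_iso (W : Scheme.{u}) (M N : Type) [AddCommGroup M] [AddCommGroup N] :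
    Nonempty (EtCoh.const W M ⊞ EtCoh.const W N ≅ EtCoh.const W (M × N)) := by
  let c := constantSheaf W.smallEtaleTopology AddCommGrpCat.{u + 1}
  let eg : (ULift.{u + 1} M × ULift.{u + 1} N) ≃+ ULift.{u + 1} (M × N) :=
    (AddEquiv.prodCongr AddEquiv.ulift AddEquiv.ulift).trans AddEquiv.ulift.symm
  let e1 : AddCommGrpCat.of (ULift.{u + 1} M) ⊞ AddCommGrpCat.of (ULift.{u + 1} N) ≅
      AddCommGrpCat.of (ULift.{u + 1} (M × N)) :=
    AddCommGrpCat.biprodIsoProd _ _ ≪≫ eg.toAddCommGrpIso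
  exact ⟨(c.mapBiprod _ _).symm ≪≫ c.mapIso e1⟩

/-- Binary biproducts of finite locally constant sheaves are finite locally constant. -/
theorem flc_biprod (F G : EtCoh.Ab X) (hF : EtCoh.IsFiniteLocallyConstant F)
    (hG : EtCoh.IsFiniteLocallyConstant G) : EtCoh.IsFiniteLocallyConstant (F ⊞ G) := by
  rw [flc_iff]
  intro x
  obtain ⟨W₁, w₁, hw₁, ⟨t₁, ht₁⟩, M, i1, i2, e₁⟩ := (flc_iff F).1 hF x
  obtain ⟨W₂, w₂, hw₂, ⟨t₂, ht₂⟩, N, j1, j2, e₂⟩ := (flc_iff G).1 hG x
  obtain ⟨z, hz1, hz2⟩ := Scheme.Pullback.exists_preimage_pullback t₁ t₂ (ht₁.trans ht₂.symm)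
  refine ⟨pullback w₁ w₂, pullback.fst w₁ w₂ ≫ w₁, inferInstance, ⟨z, ?_⟩, M × N,
    inferInstance, inferInstance, ?_⟩
  · rw [Scheme.Hom.comp_apply, hz1, ht₁]
  · obtain ⟨a⟩ := LccPull.pull_comp_iso_const (pullback.fst w₁ w₂) w₁ F _ e₁
    obtain ⟨b⟩ := LccPull.pull_comp_iso_const (pullback.snd w₁ w₂) w₂ G _ e₂
    have hc : pullback.fst w₁ w₂ ≫ w₁ = pullback.snd w₁ w₂ ≫ w₂ := pullback.condition
    obtain ⟨c⟩ := const_biprod_iso (pullback w₁ w₂) M N
    exact ⟨(EtCoh.pull (pullback.fst w₁ w₂ ≫ w₁)).mapBiprod F G ≪≫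
      biprod.mapIso a ((EtCore.pullCongr hc).app G ≪≫ b) ≪≫ c⟩

/-- Finite local constancy as an object property. -/
def flcProp (X : Scheme.{u}) : ObjectProperty (EtCoh.Ab X) :=
  fun F => EtCoh.IsFiniteLocallyConstant F

instance : (flcProp X).IsClosedUnderIsomorphisms :=
  ⟨fun e h => isFiniteLocallyConstant_of_iso e h⟩

instance : (flcProp X).ContainsZero :=
  ⟨⟨(0 : EtCoh.Ab X), isZero_zero _, flc_of_isZero _ (isZero_zero _)⟩⟩

instance : (flcProp X).IsClosedUnderBinaryProducts :=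
  ObjectProperty.IsClosedUnderLimitsOfShape.mk' (by
    rintro _ ⟨F, hF⟩
    have e : limit F ≅ F.obj ⟨.left⟩ ⊞ F.obj ⟨.right⟩ :=
      HasLimit.isoOfNatIso (diagramIsoPair F) ≪≫ (biprod.isoProd _ _).symm
    exact isFiniteLocallyConstant_of_iso e.symm (flc_biprod _ _ (hF _) (hF _)))

instance : (flcProp X).IsClosedUnderFiniteProducts :=
  ObjectProperty.IsClosedUnderFiniteProducts.mk'

/-- Finite biproducts of finite locally constant sheaves are finite locally constant. -/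
theorem flc_biproduct {J : Type} [Finite J] (A : J → EtCoh.Ab X)
    (h : ∀ j, EtCoh.IsFiniteLocallyConstant (A j)) : EtCoh.IsFiniteLocallyConstant (⨁ A) := by
  have h1 : flcProp X (∏ᶜ A) := (flcProp X).prop_product h
  exact isFiniteLocallyConstant_of_iso (biproduct.isoProduct A).symm h1

end Groth.Agent.Lib.Helper22.EtLoc.Flc
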