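import Groth.Agent.Lib.Helper22.EtLoc.LocalHom
import Groth.Agent.Lib.Helper22.EtLoc.ExcisionH
import Mathlib.CategoryTheory.Sites.CoverLifting
/-!
# Restriction along an étale map commutes with sheafification; constant sheaves (helper22)
-/

set_option autoImplicit false
universe u
open CategoryTheory CategoryTheory.Limits AlgebraicGeometry Opposite

namespace Groth.Agent.Lib.Helper22.EtLoc.ResSheafify

open Groth.Agent.Lib.Helper22.EtStalk Groth.Agent.Lib.Helper22.EtLoc
open Groth.Agent.Lib.Helper22.EtLoc.ConstHom Groth.Agent.Lib.Helper22.CechU.Etale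

noncomputable section

variable {X Y : Scheme.{u}} (j : Y ⟶ X) [hj : Etale j]

instance isCocontinuous_pj :
    (pj j).IsCocontinuous Y.smallEtaleTopology X.smallEtaleTopology where
  cover_lift {A} S hS := by
    rw [mem_smallEtaleTopology_iff] at hS ⊢
    intro x
    obtain ⟨V, f, y, hf, hy⟩ := hS x
    have e1 : f.left ≫ ((pj j).obj A).hom = V.hom := Over.w f.hom
    have hE1 : Etale f.left := inferInstance
    have hE2 : Etale A.hom := A.prop
    have : Etale (f.left ≫ A.hom) := EtCoh.etaleMP.comp_mem _ _ hE1 hE2
    let V' : Y.Etale := Scheme.Etale.mk (f.left ≫ A.hom)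
    let f' : V' ⟶ A := MorphismProperty.Over.homMk f.left rfl trivial
    have hV : V.hom = ((pj j).obj V').hom := by
      rw [← e1]
      exact (Category.assoc _ _ _).symm
    let e : (pj j).obj V' ≅ V := MorphismProperty.Over.isoMk (Iso.refl _)
      ((Category.id_comp _).trans hV)
    have hf' : (pj j).map f' = e.hom ≫ f :=
      MorphismProperty.Over.Hom.ext (Category.id_comp _).symm
    refine ⟨V', f', y, ?_, hy⟩
    change S.arrows ((pj j).map f')
    rw [hf']
    exact S.downward_closed hf _

/-- The constant presheaf restricted along `pj j` is the constant presheaf. -/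
def constCompIso (M : AddCommGrpCat.{u + 1}) :
    (Functor.const (Y.Etale)ᵒᵖ).obj M ≅ (pj j).op ⋙ (Functor.const (X.Etale)ᵒᵖ).obj M :=
  NatIso.ofComponents (fun _ => Iso.refl _)

/-- Restriction of the constant sheaf along an étale map is the constant sheaf, compatibly with
constant sections. -/
def resCstIso (M : AddCommGrpCat.{u + 1}) : cst (U := Y) M ≅ (res j).obj (cst (U := X) M) :=
  (presheafToSheaf Y.smallEtaleTopology AddCommGrpCat.{u + 1}).mapIso (constCompIso j M) ≪≫
    ((pj j).pushforwardContinuousSheafificationCompatibility AddCommGrpCat.{u + 1}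
      Y.smallEtaleTopology X.smallEtaleTopology).app ((Functor.const (X.Etale)ᵒᵖ).obj M)

lemma resCstIso_hom_tsec (M : AddCommGrpCat.{u + 1}) (T : Y.Etale) (m : M) :
    (resCstIso j M).hom.hom.app (op T) (tsec M T m) = tsec M ((pj j).obj T) m := by
  have h1 := Functor.toSheafify_pullbackSheafificationCompatibility (pj j) AddCommGrpCat.{u + 1}
    Y.smallEtaleTopology X.smallEtaleTopology ((Functor.const (X.Etale)ᵒᵖ).obj M)
  have h2 := toSheafify_naturality Y.smallEtaleTopology (constCompIso j M).hom
  have h0 : (resCstIso j M).hom.hom = sheafifyMap Y.smallEtaleTopology (constCompIso j M).hom ≫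
      (((pj j).pushforwardContinuousSheafificationCompatibility AddCommGrpCat.{u + 1}
        Y.smallEtaleTopology X.smallEtaleTopology).hom.app
          ((Functor.const (X.Etale)ᵒᵖ).obj M)).hom := rfl
  have h3 : toSheafify Y.smallEtaleTopology ((Functor.const (Y.Etale)ᵒᵖ).obj M) ≫
      (resCstIso j M).hom.hom = (constCompIso j M).hom ≫
        Functor.whiskerLeft (pj j).op
          (toSheafify X.smallEtaleTopology ((Functor.const (X.Etale)ᵒᵖ).obj M)) := by
    rw [h0, ← h1]
    exact (Category.assoc _ _ _).symm.trans
      ((congrArg (· ≫ _) h2.symm).trans (Category.assoc _ _ _))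
  have h4 := congrArg (fun φ => (φ.app (op T)).hom m) h3
  exact h4

end

end Groth.Agent.Lib.Helper22.EtLoc.ResSheafify
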