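import Groth.Agent.Lib.Helper22.EtLoc.FlcKer
import Groth.Agent.Lib.Helper22.EtLoc.ResSheafify
/-!
# Finite local constancy is closed under extensions (helper22)
-/

set_option autoImplicit false
universe v u
open CategoryTheory CategoryTheory.Limits AlgebraicGeometry Opposite

namespace Groth.Agent.Lib.Helper22.EtLoc.FlcExt

open Groth.Agent.Lib.Helper22.EtStalk Groth.Agent.Lib.Helper22.EtLoc
open Groth.Agent.Lib.Helper22.EtLoc.ConstHom Groth.Agent.Lib.Helper22.EtLoc.LocalHom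
open Groth.Agent.Lib.Helper22.EtLoc.Flc Groth.Agent.Lib.Helper22.EtLoc.ExcisionH
open Groth.Agent.Lib.Helper22.EtLoc.FlcKer

noncomputable section

section A

variable {U : Scheme.{u}}

/-- Maps out of a constant sheaf are determined by their values on constant sections. -/
lemma cst_hom_ext {M : AddCommGrpCat.{u + 1}} {G : EtCoh.Ab U} (a b : cst M ⟶ G)
    (h : ∀ (T : U.Etale) (m : M),
      a.hom.app (op T) (tsec M T m) = b.hom.app (op T) (tsec M T m)) : a = b := by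
  apply Sheaf.hom_ext
  apply sheafify_hom_ext U.smallEtaleTopology _ _ G.property
  ext T m
  exact h T.unop m

/-- The presheaf map underlying `cstLift`. -/
def cstLiftPre {M : AddCommGrpCat.{u + 1}} {G : EtCoh.Ab U}
    (σ : M ⟶ G.obj.obj (op (EtCoh.top U))) : (Functor.const (U.Etale)ᵒᵖ).obj M ⟶ G.obj where
  app T := σ ≫ G.obj.map (toTop T.unop).op
  naturality T T' f := by
    dsimp
    rw [Category.id_comp, Category.assoc, ← Functor.map_comp]
    congr 2
    exact congrArg Quiver.Hom.op (toTop_comp f.unop).symm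

/-- The map out of a constant sheaf determined by a homomorphism to global sections. -/
def cstLift {M : AddCommGrpCat.{u + 1}} {G : EtCoh.Ab U}
    (σ : M ⟶ G.obj.obj (op (EtCoh.top U))) : cst M ⟶ G :=
  ⟨sheafifyLift U.smallEtaleTopology (cstLiftPre σ) G.property⟩

lemma cstLift_tsec {M : AddCommGrpCat.{u + 1}} {G : EtCoh.Ab U}
    (σ : M ⟶ G.obj.obj (op (EtCoh.top U))) (T : U.Etale) (m : M) :
    (cstLift σ).hom.app (op T) (tsec M T m) = G.obj.map (toTop T).op (σ m) := by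
  have h := toSheafify_sheafifyLift U.smallEtaleTopology (cstLiftPre σ) G.property
  exact congrArg (fun φ => (φ.app (op T)).hom m) h

lemma map_toTop_tsec (M : AddCommGrpCat.{u + 1}) (T : U.Etale) (m : M) :
    (cst (U := U) M).obj.map (toTop T).op (tsec M (EtCoh.top U) m) = tsec M T m :=
  tsec_map M (toTop T) m

lemma hom_map_toTop {F G : EtCoh.Ab U} (a : F ⟶ G) (T : U.Etale)
    (s : F.obj.obj (op (EtCoh.top U))) :
    a.hom.app (op T) (F.obj.map (toTop T).op s) =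
      G.obj.map (toTop T).op (a.hom.app (op (EtCoh.top U)) s) :=
  congrArg (fun φ => φ.hom s) (a.hom.naturality (toTop T).op)

/-- **Criterion for an extension of constant sheaves to be constant**, in terms of global
sections. -/
theorem nonempty_iso_cst_of_sections (S : ShortComplex (EtCoh.Ab U)) (hS : S.ShortExact)
    (R : ShortComplex AddCommGrpCat.{u + 1}) (hR : R.ShortExact)
    (β₁ : cst R.X₁ ≅ S.X₁) (β₃ : cst R.X₃ ≅ S.X₃)
    (σ : R.X₂ ⟶ S.X₂.obj.obj (op (EtCoh.top U)))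
    (ha : ∀ e : R.X₂, S.g.hom.app (op (EtCoh.top U)) (σ e) =
      β₃.hom.hom.app (op (EtCoh.top U)) (tsec R.X₃ (EtCoh.top U) (R.g e)))
    (hb : ∀ m : R.X₁, σ (R.f m) = S.f.hom.app (op (EtCoh.top U))
      (β₁.hom.hom.app (op (EtCoh.top U)) (tsec R.X₁ (EtCoh.top U) m))) :
    Nonempty (cst R.X₂ ≅ S.X₂) := by
  let cs := constantSheaf U.smallEtaleTopology AddCommGrpCat.{u + 1}
  have hR' : (R.map cs).ShortExact := hR.map_of_exact cs
  have c12 : (R.map cs).f ≫ cstLift σ = β₁.hom ≫ S.f := by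
    apply cst_hom_ext
    intro T m
    change (cstLift σ).hom.app (op T) ((cs.map R.f).hom.app (op T) (tsec R.X₁ T m)) =
      S.f.hom.app (op T) (β₁.hom.hom.app (op T) (tsec R.X₁ T m))
    rw [tsec_naturality, cstLift_tsec, hb, ← hom_map_toTop, ← hom_map_toTop, map_toTop_tsec]
  have c23 : cstLift σ ≫ S.g = (R.map cs).g ≫ β₃.hom := by
    apply cst_hom_ext
    intro T e
    change S.g.hom.app (op T) ((cstLift σ).hom.app (op T) (tsec R.X₂ T e)) =
      β₃.hom.hom.app (op T) ((cs.map R.g).hom.app (op T) (tsec R.X₂ T e))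
    rw [tsec_naturality, cstLift_tsec, hom_map_toTop, ha, ← hom_map_toTop, map_toTop_tsec]
  let φ : R.map cs ⟶ S :=
    { τ₁ := β₁.hom
      τ₂ := cstLift σ
      τ₃ := β₃.hom
      comm₁₂ := c12.symm
      comm₂₃ := c23 }
  have h1 : IsIso φ.τ₁ := inferInstanceAs (IsIso β₁.hom)
  have h3 : IsIso φ.τ₃ := inferInstanceAs (IsIso β₃.hom)
  have h2 : IsIso φ.τ₂ := ShortComplex.isIso₂_of_shortExact_of_isIso₁₃ φ hR' hS
  exact ⟨@asIso _ _ _ _ (cstLift σ) h2⟩


end A


/-- The middle term of a short exact sequence of abelian groups with finite ends is finite. -/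
lemma finite_of_shortExact (R : ShortComplex AddCommGrpCat.{u}) (hR : R.ShortExact)
    [Finite R.X₁] [Finite R.X₃] : Finite R.X₂ := by
  have hg : Function.Surjective R.g := (AddCommGrpCat.epi_iff_surjective _).1 hR.epi_g
  have hex := (ShortComplex.ab_exact_iff R).1 hR.exact
  let s := Function.surjInv hg
  apply Finite.of_surjective (fun q : R.X₁ × R.X₃ => R.f q.1 + s q.2)
  intro e
  obtain ⟨a, ha⟩ := hex (e - s (R.g e)) (by
    rw [map_sub, Function.surjInv_eq hg, sub_self])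
  exact ⟨(a, R.g e), by simp [ha, s]⟩

variable {U : Scheme.{u}} {Ω : Type u} [Field Ω] [IsSepClosed Ω] (ξ : Spec (CommRingCat.of Ω) ⟶ U)

/-- Finitely many germs are represented by sections over a common étale neighbourhood. -/
lemma exists_sections (F : EtCoh.Ab U) (K : Type v) [Finite K] :
    ∀ (e : K → (EtCoh.stalk ξ).obj F),
      ∃ (T : U.Etale) (t : (Scheme.pointSmallEtale ξ).fiber.obj T) (s : K → F.obj.obj (op T)),
        ∀ k, germ ξ F T t (s k) = e k := by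
  induction K using Finite.induction_empty_option with
  | of_equiv eq ih =>
    intro e
    obtain ⟨T, t, s, hs⟩ := ih (e ∘ eq)
    exact ⟨T, t, s ∘ eq.symm, fun k => by simpa using hs (eq.symm k)⟩
  | h_empty =>
    intro e
    obtain ⟨T, t, -, -⟩ := (Scheme.pointSmallEtale ξ).toPresheafFiber_jointly_surjective
      (P := F.obj) (0 : (EtCoh.stalk ξ).obj F)
    exact ⟨T, t, fun k => k.elim, fun k => k.elim⟩
  | h_option ih =>
    intro e
    obtain ⟨T₁, t₁, s₁, hs₁⟩ := ih (fun k => e (some k))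
    obtain ⟨T₂, t₂, s₂, hs₂⟩ := (Scheme.pointSmallEtale ξ).toPresheafFiber_jointly_surjective
      (P := F.obj) (e none)
    let a : (Scheme.pointSmallEtale ξ).fiber.Elements := ⟨T₁, t₁⟩
    let b : (Scheme.pointSmallEtale ξ).fiber.Elements := ⟨T₂, t₂⟩
    let c := IsCofiltered.min a b
    let l : c ⟶ a := IsCofiltered.minToLeft a b
    let r : c ⟶ b := IsCofiltered.minToRight a b
    refine ⟨c.1, c.2, fun k => match k with
      | none => F.obj.map r.1.op s₂
      | some k => F.obj.map l.1.op (s₁ k), ?_⟩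
    intro k
    cases k with
    | none =>
      change germ ξ F c.1 c.2 (F.obj.map r.1.op s₂) = e none
      rw [germ_map]
      have : (Scheme.pointSmallEtale ξ).fiber.map r.1 c.2 = t₂ := r.2
      rw [this]
      exact hs₂
    | some k =>
      change germ ξ F c.1 c.2 (F.obj.map l.1.op (s₁ k)) = e (some k)
      rw [germ_map]
      have : (Scheme.pointSmallEtale ξ).fiber.map l.1 c.2 = t₁ := l.2
      rw [this]
      exact hs₁ k

/-- Simultaneous version of `exists_common_nbhd` for two sheaves. -/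
lemma exists_common_nbhd₂ (F G : EtCoh.Ab U) (K L : Type v) [Finite K] [Finite L]
    (T : U.Etale) (x : (Scheme.pointSmallEtale ξ).fiber.obj T)
    (a b : K → F.obj.obj (op T)) (c d : L → G.obj.obj (op T))
    (hab : ∀ k, germ ξ F T x (a k) = germ ξ F T x (b k))
    (hcd : ∀ l, germ ξ G T x (c l) = germ ξ G T x (d l)) :
    ∃ (W : U.Etale) (f : W ⟶ T) (w : (Scheme.pointSmallEtale ξ).fiber.obj W),
      (Scheme.pointSmallEtale ξ).fiber.map f w = x ∧
        (∀ k, F.obj.map f.op (a k) = F.obj.map f.op (b k)) ∧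
        (∀ l, G.obj.map f.op (c l) = G.obj.map f.op (d l)) := by
  obtain ⟨W₁, f₁, w₁, hw₁, h₁⟩ := exists_common_nbhd ξ F K T x a b hab
  obtain ⟨W, f₂, w, hw, h₂⟩ := exists_common_nbhd ξ G L W₁ w₁
    (fun l => G.obj.map f₁.op (c l)) (fun l => G.obj.map f₁.op (d l)) (fun l => by
      rw [germ_map, germ_map, hw₁]
      exact hcd l)
  refine ⟨W, f₂ ≫ f₁, w, ?_, fun k => ?_, fun l => ?_⟩
  · rw [Functor.map_comp]
    exact (congrArg _ hw).trans hw₁
  · rw [map_comp_app, map_comp_app, h₁ k]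
  · rw [map_comp_app, map_comp_app]
    exact h₂ l

/-- A fibre element of an étale neighbourhood gives a point over the image of `ξ`. -/
lemma mem_range_of_fiber (W : U.Etale) (w : (Scheme.pointSmallEtale ξ).fiber.obj W) :
    ξ (default : Spec (CommRingCat.of Ω)) ∈ Set.range W.hom := by
  refine ⟨w.left (default : Spec (CommRingCat.of Ω)), ?_⟩
  have h1 : w.left ≫ W.hom = ξ := Over.w w
  have h2 : (w.left ≫ W.hom) (default : Spec (CommRingCat.of Ω)) =
      ξ (default : Spec (CommRingCat.of Ω)) := by rw [h1]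
  rwa [Scheme.Hom.comp_apply] at h2

/-- `W` as the image under `pj W.hom` of the terminal object of its own étale site. -/
def topIso (W : U.Etale) : (pj W.hom).obj (EtCoh.top W.left) ≅ W :=
  MorphismProperty.Over.isoMk (Iso.refl _) rfl

lemma hom_map {F G : EtCoh.Ab U} (a : F ⟶ G) {T T' : U.Etale} (f : T' ⟶ T)
    (s : F.obj.obj (op T)) :
    a.hom.app (op T') (F.obj.map f.op s) = G.obj.map f.op (a.hom.app (op T) s) :=
  congrArg (fun φ => φ.hom s) (a.hom.naturality f.op)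

/-- **Local section-level splitting data for an extension of constant sheaves.** -/
theorem exists_section_data (S : ShortComplex (EtCoh.Ab U)) (hS : S.ShortExact)
    (M₁ M₃ : AddCommGrpCat.{u + 1}) [Finite M₁] [Finite M₃]
    (α₁ : S.X₁ ≅ cst M₁) (α₃ : S.X₃ ≅ cst M₃) (y : U) :
    ∃ (E : AddCommGrpCat.{u + 1}) (_ : Finite E) (i : M₁ ⟶ E) (p : E ⟶ M₃) (zero : i ≫ p = 0)
      (_ : (ShortComplex.mk i p zero).ShortExact) (W : U.Etale) (_ : y ∈ Set.range W.hom)
      (σ : E ⟶ S.X₂.obj.obj (op ((pj W.hom).obj (EtCoh.top W.left)))),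
      (∀ e : E, S.g.hom.app _ (σ e) = α₃.inv.hom.app _ (tsec M₃ _ (p e))) ∧
      (∀ m : M₁, σ (i m) = S.f.hom.app _ (α₁.inv.hom.app _ (tsec M₁ _ m))) := by
  obtain ⟨Ω, _, _, ξ, x, hx⟩ := AC.exists_geomPoint (EtCoh.top U) y
  have hξy : ξ (default : Spec (CommRingCat.of Ω)) = y := by
    have h2 : x.left ≫ (EtCoh.top U).hom = ξ := Over.w x
    have h3 : (x.left ≫ (EtCoh.top U).hom) (default : Spec (CommRingCat.of Ω)) = y := by
      rw [Scheme.Hom.comp_apply, hx]
      rfl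
    rwa [h2] at h3
  let Φ := EtCoh.stalk ξ
  let c₁ := ConstStalk.stalkConstIso ξ M₁
  let c₃ := ConstStalk.stalkConstIso ξ M₃
  let E : AddCommGrpCat.{u + 1} := Φ.obj S.X₂
  let i : M₁ ⟶ E := c₁.inv ≫ Φ.map α₁.inv ≫ Φ.map S.f
  let p : E ⟶ M₃ := Φ.map S.g ≫ Φ.map α₃.hom ≫ c₃.hom
  have zero : i ≫ p = 0 := by
    simp only [i, p, Category.assoc]
    rw [← Φ.map_comp_assoc S.f S.g, S.zero, Φ.map_zero]
    simp
  have hΦ : (S.map Φ).ShortExact := hS.map_of_exact Φ
  have c12 : Φ.map S.f ≫ 𝟙 (Φ.obj S.X₂) = (Φ.map α₁.hom ≫ c₁.hom) ≫ i := by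
    have h1 : Φ.map α₁.hom ≫ Φ.map α₁.inv = 𝟙 _ := by
      rw [← Φ.map_comp, Iso.hom_inv_id, Φ.map_id]
    calc Φ.map S.f ≫ 𝟙 (Φ.obj S.X₂) = Φ.map S.f := Category.comp_id _
      _ = (Φ.map α₁.hom ≫ Φ.map α₁.inv) ≫ Φ.map S.f := by rw [h1, Category.id_comp]
      _ = Φ.map α₁.hom ≫ (c₁.hom ≫ c₁.inv) ≫ Φ.map α₁.inv ≫ Φ.map S.f := by
          rw [Iso.hom_inv_id, Category.id_comp, Category.assoc]
      _ = (Φ.map α₁.hom ≫ c₁.hom) ≫ i := by simp only [i, Category.assoc]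
  have c23 : Φ.map S.g ≫ (Φ.map α₃.hom ≫ c₃.hom) = 𝟙 (Φ.obj S.X₂) ≫ p :=
    (Category.id_comp _).symm
  let iso : S.map Φ ≅ ShortComplex.mk i p zero :=
    ShortComplex.isoMk (Φ.mapIso α₁ ≪≫ c₁) (Iso.refl _) (Φ.mapIso α₃ ≪≫ c₃) c12.symm c23.symm
  have hR : (ShortComplex.mk i p zero).ShortExact := ShortComplex.shortExact_of_iso iso hΦ
  have hE : Finite E := by
    have : Finite (ShortComplex.mk i p zero).X₁ := inferInstanceAs (Finite M₁)
    have : Finite (ShortComplex.mk i p zero).X₃ := inferInstanceAs (Finite M₃)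
    exact finite_of_shortExact _ hR
  -- sections representing all germs
  obtain ⟨T, t, σ₀, hσ₀⟩ := exists_sections ξ S.X₂ E (fun e => e)
  -- the families of equalities to be achieved
  let a₂ : (E × E) ⊕ M₁ → S.X₂.obj.obj (op T) := fun k => match k with
    | Sum.inl q => σ₀ (q.1 + q.2)
    | Sum.inr m => σ₀ (i m)
  let b₂ : (E × E) ⊕ M₁ → S.X₂.obj.obj (op T) := fun k => match k with
    | Sum.inl q => σ₀ q.1 + σ₀ q.2
    | Sum.inr m => S.f.hom.app (op T) (α₁.inv.hom.app (op T) (tsec M₁ T m))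
  let a₃ : E → S.X₃.obj.obj (op T) := fun e => S.g.hom.app (op T) (σ₀ e)
  let b₃ : E → S.X₃.obj.obj (op T) := fun e => α₃.inv.hom.app (op T) (tsec M₃ T (p e))
  have h₂ : ∀ k, germ ξ S.X₂ T t (a₂ k) = germ ξ S.X₂ T t (b₂ k) := by
    rintro (q | m)
    · change germ ξ S.X₂ T t (σ₀ (q.1 + q.2)) = germ ξ S.X₂ T t (σ₀ q.1 + σ₀ q.2)
      rw [map_add, hσ₀, hσ₀, hσ₀]
    · change germ ξ S.X₂ T t (σ₀ (i m)) =
        germ ξ S.X₂ T t (S.f.hom.app (op T) (α₁.inv.hom.app (op T) (tsec M₁ T m)))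
      rw [hσ₀, ← germ_naturality, ← germ_naturality, ← stalkConstIso_inv_apply]
      rfl
  have h₃ : ∀ e, germ ξ S.X₃ T t (a₃ e) = germ ξ S.X₃ T t (b₃ e) := by
    intro e
    change germ ξ S.X₃ T t (S.g.hom.app (op T) (σ₀ e)) =
      germ ξ S.X₃ T t (α₃.inv.hom.app (op T) (tsec M₃ T (p e)))
    rw [← germ_naturality, ← germ_naturality, ← stalkConstIso_inv_apply, hσ₀]
    change Φ.map S.g e = Φ.map α₃.inv (c₃.inv (c₃.hom (Φ.map α₃.hom (Φ.map S.g e))))
    have e1 : c₃.inv (c₃.hom (Φ.map α₃.hom (Φ.map S.g e))) = Φ.map α₃.hom (Φ.map S.g e) :=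
      congrArg (fun φ => φ.hom (Φ.map α₃.hom (Φ.map S.g e))) c₃.hom_inv_id
    have e2 : Φ.map α₃.inv (Φ.map α₃.hom (Φ.map S.g e)) = Φ.map S.g e := by
      have : Φ.map α₃.hom ≫ Φ.map α₃.inv = 𝟙 _ := by
        rw [← Φ.map_comp, Iso.hom_inv_id, Φ.map_id]
      exact congrArg (fun φ => φ.hom (Φ.map S.g e)) this
    rw [e1, e2]
  obtain ⟨W, f, w, hw, H₂, H₃⟩ := exists_common_nbhd₂ ξ S.X₂ S.X₃ _ _ T t a₂ b₂ a₃ b₃ h₂ h₃
  -- pass to the isomorphic object `(pj W.hom).obj (top W.left)`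
  let W' : U.Etale := (pj W.hom).obj (EtCoh.top W.left)
  let f' : W' ⟶ T := (topIso W).hom ≫ f
  have H₂' : ∀ k, S.X₂.obj.map f'.op (a₂ k) = S.X₂.obj.map f'.op (b₂ k) := fun k => by
    rw [map_comp_app, map_comp_app, H₂ k]
  have H₃' : ∀ e, S.X₃.obj.map f'.op (a₃ e) = S.X₃.obj.map f'.op (b₃ e) := fun e => by
    rw [map_comp_app, map_comp_app, H₃ e]
  let σ : E ⟶ S.X₂.obj.obj (op W') :=
    AddCommGrpCat.ofHom (AddMonoidHom.mk' (fun e => S.X₂.obj.map f'.op (σ₀ e)) (fun e e' => by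
      have := H₂' (Sum.inl (e, e'))
      change S.X₂.obj.map f'.op (σ₀ (e + e')) = S.X₂.obj.map f'.op (σ₀ e + σ₀ e') at this
      rw [this, map_add]))
  refine ⟨E, hE, i, p, zero, hR, W, ?_, σ, fun e => ?_, fun m => ?_⟩
  · rw [← hξy]
    exact mem_range_of_fiber ξ W w
  · change S.g.hom.app (op W') (S.X₂.obj.map f'.op (σ₀ e)) =
      α₃.inv.hom.app (op W') (tsec M₃ W' (p e))
    rw [hom_map, ← tsec_map M₃ f', hom_map]
    exact H₃' e
  · change S.X₂.obj.map f'.op (σ₀ (i m)) =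
      S.f.hom.app (op W') (α₁.inv.hom.app (op W') (tsec M₁ W' m))
    rw [← tsec_map M₁ f', hom_map, hom_map]
    exact H₂' (Sum.inr m)


section Assembly

variable {X : Scheme.{u}}

/-- **Finite local constancy is closed under extensions.** -/
theorem flc_of_shortExact (S : ShortComplex (EtCoh.Ab X)) (hS : S.ShortExact)
    (h₁ : EtCoh.IsFiniteLocallyConstant S.X₁) (h₃ : EtCoh.IsFiniteLocallyConstant S.X₃) :
    EtCoh.IsFiniteLocallyConstant S.X₂ := by
  rw [flc_iff]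
  intro x
  obtain ⟨W₁, w₁, hw₁, ⟨t₁, ht₁⟩, M₁, i1, i2, ⟨e₁⟩⟩ := (flc_iff S.X₁).1 h₁ x
  obtain ⟨W₂, w₂, hw₂, ⟨t₂, ht₂⟩, M₃, j1, j2, ⟨e₂⟩⟩ := (flc_iff S.X₃).1 h₃ x
  have : Finite (AddCommGrpCat.of (ULift.{u + 1} M₁)) := Finite.of_equiv M₁ Equiv.ulift.symm
  have : Finite (AddCommGrpCat.of (ULift.{u + 1} M₃)) := Finite.of_equiv M₃ Equiv.ulift.symm
  obtain ⟨W', u, hu, ⟨y, hy⟩, -, α', β', -⟩ := exists_local_groupHom (0 : S.X₁ ⟶ S.X₃) x w₁ w₂
    t₁ t₂ ht₁ ht₂ (AddCommGrpCat.of (ULift.{u + 1} M₁)) (AddCommGrpCat.of (ULift.{u + 1} M₃)) e₁ e₂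
  have hS₁ : (S.map (res u)).ShortExact := hS.map_of_exact (res u)
  obtain ⟨E, hE, i, p, zero, hR, W, ⟨z, hz⟩, σ, ha, hb⟩ :=
    exists_section_data (S.map (res u)) hS₁ _ _ α' β' y
  let v : W.left ⟶ W' := W.hom
  have hv : Etale v := W.prop
  have hS₂ : ((S.map (res u)).map (res v)).ShortExact := hS₁.map_of_exact (res v)
  let β₁ : cst (U := W.left) (AddCommGrpCat.of (ULift.{u + 1} M₁)) ≅
      (res v).obj ((res u).obj S.X₁) :=
    ResSheafify.resCstIso v _ ≪≫ (res v).mapIso α'.symm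
  let β₃ : cst (U := W.left) (AddCommGrpCat.of (ULift.{u + 1} M₃)) ≅
      (res v).obj ((res u).obj S.X₃) :=
    ResSheafify.resCstIso v _ ≪≫ (res v).mapIso β'.symm
  obtain ⟨θ⟩ := nonempty_iso_cst_of_sections ((S.map (res u)).map (res v)) hS₂
    (ShortComplex.mk i p zero) hR β₁ β₃ σ
    (fun e => by
      refine (ha e).trans ?_
      change _ = β'.inv.hom.app (op ((pj v).obj (EtCoh.top W.left)))
        ((ResSheafify.resCstIso v (AddCommGrpCat.of (ULift.{u + 1} M₃))).hom.hom.app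
          (op (EtCoh.top W.left)) (tsec _ (EtCoh.top W.left) (p e)))
      rw [ResSheafify.resCstIso_hom_tsec]
      rfl)
    (fun m => by
      refine (hb m).trans ?_
      change _ = ((res u).map S.f).hom.app (op ((pj v).obj (EtCoh.top W.left)))
        (α'.inv.hom.app (op ((pj v).obj (EtCoh.top W.left)))
          ((ResSheafify.resCstIso v (AddCommGrpCat.of (ULift.{u + 1} M₁))).hom.hom.app
            (op (EtCoh.top W.left)) (tsec _ (EtCoh.top W.left) m)))
      rw [ResSheafify.resCstIso_hom_tsec]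
      rfl)
  obtain ⟨K, k1, k2, ⟨eK⟩⟩ := exists_small_model E
  refine ⟨W.left, v ≫ u, inferInstance, ⟨z, ?_⟩, K, k1, k2, ⟨?_⟩⟩
  · rw [Scheme.Hom.comp_apply]
    have : v z = y := hz
    rw [this, hy]
  · exact (pullIsoRes (v ≫ u)).app _ ≪≫ (resCompIso v u).app _ ≪≫
      (res v).mapIso ((pullIsoRes u).app _) ≪≫ θ.symm ≪≫
      (constantSheaf W.left.smallEtaleTopology AddCommGrpCat.{u + 1}).mapIso eK

end Assembly

end

end Groth.Agent.Lib.Helper22.EtLoc.FlcExt
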