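import Groth.Agent.Lib.Helper22.EtLoc.LocalHom
import Groth.Agent.Lib.Helper22.EtLoc.ExcisionH
/-!
# Kernels and cokernels of maps of finite locally constant sheaves (helper22)
-/

set_option autoImplicit false
universe u
open CategoryTheory CategoryTheory.Limits AlgebraicGeometry Opposite

namespace Groth.Agent.Lib.Helper22.EtLoc.FlcKer

open Groth.Agent.Lib.Helper22.EtStalk Groth.Agent.Lib.Helper22.EtLoc
open Groth.Agent.Lib.Helper22.EtLoc.ConstHom Groth.Agent.Lib.Helper22.EtLoc.LocalHom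
open Groth.Agent.Lib.Helper22.EtLoc.Flc Groth.Agent.Lib.Helper22.EtLoc.ExcisionH

noncomputable section

variable (U : Scheme.{u})

instance const_preservesFiniteLimits :
    PreservesFiniteLimits (Functor.const (U.Etale)ᵒᵖ : AddCommGrpCat.{u+1} ⥤ _) := by
  constructor
  intro J _ _
  constructor
  intro K
  apply preservesLimit_of_evaluation
  intro T
  change PreservesLimit K (𝟭 _)
  infer_instance

instance const_preservesFiniteColimits :
    PreservesFiniteColimits (Functor.const (U.Etale)ᵒᵖ : AddCommGrpCat.{u+1} ⥤ _) := by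
  constructor
  intro J _ _
  constructor
  intro K
  apply preservesColimit_of_evaluation
  intro T
  change PreservesColimit K (𝟭 _)
  infer_instance

instance constantSheaf_preservesFiniteLimits :
    PreservesFiniteLimits (constantSheaf U.smallEtaleTopology AddCommGrpCat.{u + 1}) := by
  unfold constantSheaf
  infer_instance

instance constantSheaf_preservesFiniteColimits :
    PreservesFiniteColimits (constantSheaf U.smallEtaleTopology AddCommGrpCat.{u + 1}) := by
  unfold constantSheaf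
  infer_instance

/-- A finite abelian group in a large universe is isomorphic to `ULift` of a small one. -/
theorem exists_small_model (A : AddCommGrpCat.{u + 1}) [Finite A] :
    ∃ (K : Type) (_ : AddCommGroup K) (_ : Finite K),
      Nonempty (A ≅ AddCommGrpCat.of (ULift.{u + 1} K)) := by
  have : Small.{0} A := Countable.toSmall _
  refine ⟨Shrink.{0} A, inferInstance, Finite.of_equiv A (equivShrink A), ⟨?_⟩⟩
  let e' : A ≃+ ULift.{u + 1} (Shrink.{0} A) :=
    (Shrink.addEquiv (α := A)).symm.trans AddEquiv.ulift.symm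
  exact e'.toAddCommGrpIso

lemma finite_kernel {M N : AddCommGrpCat.{u + 1}} [Finite M] (h : M ⟶ N) :
    Finite (kernel h : AddCommGrpCat.{u + 1}) :=
  Finite.of_equiv h.hom.ker (AddCommGrpCat.kernelIsoKer h).addCommGroupIsoToAddEquiv.symm.toEquiv

lemma finite_cokernel {M N : AddCommGrpCat.{u + 1}} [Finite N] (h : M ⟶ N) :
    Finite (cokernel h : AddCommGrpCat.{u + 1}) :=
  Finite.of_equiv (N ⧸ h.hom.range)
    (AddCommGrpCat.cokernelIsoQuotient h).addCommGroupIsoToAddEquiv.symm.toEquiv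

variable {X : Scheme.{u}}

theorem flc_kernel_cokernel {F G : EtCoh.Ab X} (φ : F ⟶ G)
    (hF : EtCoh.IsFiniteLocallyConstant F) (hG : EtCoh.IsFiniteLocallyConstant G) :
    EtCoh.IsFiniteLocallyConstant (kernel φ) ∧ EtCoh.IsFiniteLocallyConstant (cokernel φ) := by
  have key : ∀ x : X, ∃ (W' : Scheme.{u}) (u : W' ⟶ X) (_ : Etale u) (_ : x ∈ Set.range u)
      (M N : AddCommGrpCat.{u + 1}) (_ : Finite M) (_ : Finite N) (h : M ⟶ N)
      (α' : (res u).obj F ≅ cst M) (β' : (res u).obj G ≅ cst N),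
      (res u).map φ ≫ β'.hom = α'.hom ≫
        (constantSheaf W'.smallEtaleTopology AddCommGrpCat.{u + 1}).map h := by
    intro x
    obtain ⟨W₁, w₁, hw₁, ⟨t₁, ht₁⟩, M₁, i1, i2, ⟨e₁⟩⟩ := (flc_iff F).1 hF x
    obtain ⟨W₂, w₂, hw₂, ⟨t₂, ht₂⟩, M₂, j1, j2, ⟨e₂⟩⟩ := (flc_iff G).1 hG x
    have : Finite (AddCommGrpCat.of (ULift.{u + 1} M₁)) :=
      Finite.of_equiv M₁ Equiv.ulift.symm
    have : Finite (AddCommGrpCat.of (ULift.{u + 1} M₂)) :=
      Finite.of_equiv M₂ Equiv.ulift.symm
    obtain ⟨W', u, hu, hx, h, α', β', H⟩ := exists_local_groupHom φ x w₁ w₂ t₁ t₂ ht₁ ht₂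
      (AddCommGrpCat.of (ULift.{u + 1} M₁)) (AddCommGrpCat.of (ULift.{u + 1} M₂)) e₁ e₂
    exact ⟨W', u, hu, hx, _, _, inferInstance, inferInstance, h, α', β', H⟩
  constructor
  · rw [flc_iff]
    intro x
    obtain ⟨W', u, hu, hx, M, N, hM, hN, h, α', β', H⟩ := key x
    have := finite_kernel h
    obtain ⟨K, k1, k2, ⟨eK⟩⟩ := exists_small_model (kernel h)
    refine ⟨W', u, hu, hx, K, k1, k2, ⟨?_⟩⟩
    exact (pullIsoRes u).app _ ≪≫ PreservesKernel.iso (res u) φ ≪≫
      kernel.mapIso _ _ α' β' H ≪≫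
      (PreservesKernel.iso (constantSheaf W'.smallEtaleTopology AddCommGrpCat.{u + 1}) h).symm ≪≫
      (constantSheaf W'.smallEtaleTopology AddCommGrpCat.{u + 1}).mapIso eK
  · rw [flc_iff]
    intro x
    obtain ⟨W', u, hu, hx, M, N, hM, hN, h, α', β', H⟩ := key x
    have := finite_cokernel h
    obtain ⟨K, k1, k2, ⟨eK⟩⟩ := exists_small_model (cokernel h)
    refine ⟨W', u, hu, hx, K, k1, k2, ⟨?_⟩⟩
    exact (pullIsoRes u).app _ ≪≫ PreservesCokernel.iso (res u) φ ≪≫
      cokernel.mapIso _ _ α' β' H ≪≫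
      (PreservesCokernel.iso (constantSheaf W'.smallEtaleTopology AddCommGrpCat.{u + 1}) h).symm ≪≫
      (constantSheaf W'.smallEtaleTopology AddCommGrpCat.{u + 1}).mapIso eK

end

end Groth.Agent.Lib.Helper22.EtLoc.FlcKer
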