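import Groth.Agent.Lib.Helper22.EtLoc.SecSuppLoc
import Groth.Agent.Lib.Helper22.Horseshoe.DerivedLES
import Mathlib.Data.ZMod.QuotientGroup
import Groth.Prelude.Def_EtDepth
/-!
# Devissage of finite abelian l-groups; stalks of l-torsion sheaves (helper22)
-/

set_option autoImplicit false
universe u
open CategoryTheory CategoryTheory.Limits AlgebraicGeometry Opposite

namespace Groth.Agent.Lib.Helper22.EtLoc.LGroup

/-- **Dévissage of finite abelian `ℓ`-groups.** -/
theorem lgroup_induction (ℓ : ℕ) (hℓ : ℓ.Prime) (P : AddCommGrpCat.{u + 1} → Prop)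
    (h0 : ∀ A : AddCommGrpCat.{u + 1}, IsZero A → P A)
    (hℓ' : P (AddCommGrpCat.of (ULift.{u + 1} (ZMod ℓ))))
    (hext : ∀ S : ShortComplex AddCommGrpCat.{u + 1}, S.ShortExact → P S.X₁ → P S.X₃ → P S.X₂) :
    ∀ (n : ℕ) (M : AddCommGrpCat.{u + 1}) [Finite M], Nat.card M = n →
      (∀ m : M, ∃ k : ℕ, ℓ ^ k • m = 0) → P M := by
  intro n
  induction n using Nat.strong_induction_on with
  | _ n ih =>
  intro M _ hcard hM
  by_cases hsub : Subsingleton M
  · exact h0 M (AddCommGrpCat.isZero_of_subsingleton M)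
  rw [not_subsingleton_iff_nontrivial] at hsub
  obtain ⟨m, hm⟩ := exists_ne (0 : M)
  classical
  let k₀ := Nat.find (hM m)
  have hk₀ : ℓ ^ k₀ • m = 0 := Nat.find_spec (hM m)
  have hk₀pos : k₀ ≠ 0 := by
    intro h
    rw [h, pow_zero, one_smul] at hk₀
    exact hm hk₀
  let g : M := ℓ ^ (k₀ - 1) • m
  have hg : g ≠ 0 := Nat.find_min (hM m) (Nat.sub_one_lt hk₀pos)
  have hℓg : ℓ • g = 0 := by
    change ℓ • (ℓ ^ (k₀ - 1) • m) = 0
    rw [smul_smul, ← pow_succ', Nat.sub_add_cancel (Nat.pos_of_ne_zero hk₀pos)]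
    exact hk₀
  have hord : addOrderOf g = ℓ := by
    have := Fact.mk hℓ
    exact addOrderOf_eq_prime hℓg hg
  let φ : ZMod ℓ →+ M := ZMod.lift ℓ ⟨zmultiplesHom M g, by
    change (ℓ : ℤ) • g = 0
    rw [natCast_zsmul]; exact hℓg⟩
  have hφinj : Function.Injective φ := by
    rw [ZMod.lift_injective]
    intro z hz
    change z • g = 0 at hz
    rw [← addOrderOf_dvd_iff_zsmul_eq_zero, hord] at hz
    exact (ZMod.intCast_zmod_eq_zero_iff_dvd z ℓ).2 hz
  let N : AddSubgroup M := φ.range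
  let S : ShortComplex AddCommGrpCat.{u + 1} :=
    ShortComplex.mk
      (AddCommGrpCat.ofHom (φ.comp AddEquiv.ulift.toAddMonoidHom) :
        AddCommGrpCat.of (ULift.{u + 1} (ZMod ℓ)) ⟶ M)
      (AddCommGrpCat.ofHom (QuotientAddGroup.mk' N) : M ⟶ AddCommGrpCat.of (M ⧸ N)) (by
        ext ⟨z⟩
        change QuotientAddGroup.mk' N (φ z) = 0
        rw [QuotientAddGroup.mk'_apply, QuotientAddGroup.eq_zero_iff]
        exact ⟨z, rfl⟩)
  have hS : S.ShortExact := by
    refine ShortComplex.ShortExact.mk' ?_ ?_ ?_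
    · rw [ShortComplex.ab_exact_iff]
      intro x hx
      change QuotientAddGroup.mk' N x = 0 at hx
      rw [QuotientAddGroup.mk'_apply, QuotientAddGroup.eq_zero_iff] at hx
      obtain ⟨z, hz⟩ := hx
      exact ⟨⟨z⟩, hz⟩
    · rw [AddCommGrpCat.mono_iff_injective]
      exact hφinj.comp AddEquiv.ulift.injective
    · rw [AddCommGrpCat.epi_iff_surjective]
      exact QuotientAddGroup.mk'_surjective N
  have hQfin : Finite (AddCommGrpCat.of (M ⧸ N)) := inferInstanceAs (Finite (M ⧸ N))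
  have hcardN : Nat.card N = ℓ := by
    have := Nat.card_congr (Equiv.ofInjective φ hφinj)
    rw [Nat.card_zmod] at this
    exact this.symm
  have hQcard : Nat.card (M ⧸ N) < n := by
    have h1 := AddSubgroup.card_eq_card_quotient_mul_card_addSubgroup N
    rw [hcard, hcardN] at h1
    have hpos : 0 < Nat.card (M ⧸ N) := Nat.card_pos
    rw [h1]
    exact lt_mul_of_one_lt_right hpos hℓ.one_lt
  have hQ : P (AddCommGrpCat.of (M ⧸ N)) := by
    refine ih _ hQcard (AddCommGrpCat.of (M ⧸ N)) rfl ?_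
    intro q
    obtain ⟨x, rfl⟩ := QuotientAddGroup.mk'_surjective N q
    obtain ⟨k, hk⟩ := hM x
    refine ⟨k, ?_⟩
    change ℓ ^ k • QuotientAddGroup.mk' N x = 0
    rw [← map_nsmul, hk, map_zero]
  exact hext S hS hℓ' hQ

open Groth.Agent.Lib.Helper22.EtStalk Groth.Agent.Lib.Helper22.EtLoc
open Groth.Agent.Lib.Helper22.EtLoc.ConstHom Groth.Agent.Lib.Helper22.EtLoc.ExcisionH
open Groth.Agent.Lib.Helper22.EtLoc.SecSuppLoc Groth.Agent.Lib.Helper22.EtLoc.FlcKer

variable {X : Scheme.{u}}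

/-- The stalks of an `ℓ`-torsion sheaf are `ℓ`-power torsion. -/
theorem stalk_lTorsion (ℓ : ℕ) (F : EtCoh.Ab X) (hF : EtDepth.IsLTorsion ℓ F)
    {Ω : Type u} [Field Ω] [IsSepClosed Ω] (ξ : Spec (CommRingCat.of Ω) ⟶ X)
    (e : (EtCoh.stalk ξ).obj F) : ∃ k : ℕ, ℓ ^ k • e = 0 := by
  obtain ⟨T, t, s, rfl⟩ := (Scheme.pointSmallEtale ξ).toPresheafFiber_jointly_surjective
    (P := F.obj) e
  obtain ⟨V, g, ⟨v, hv⟩, k, hk⟩ := hF T s (t.left (default : Spec (CommRingCat.of Ω)))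
  have hgE : Etale g.left := inferInstance
  obtain ⟨t'', -⟩ := Scheme.pointSmallEtaleFiberObjToPreimage_surjective t.left rfl
    (@Scheme.Etale.mk _ _ g.left hgE) ⟨v, hv⟩
  have h1 : t''.left ≫ g.left = t.left := Over.w t''
  have h2 : g.left ≫ T.hom = V.hom := Over.w g.hom
  have h3 : t.left ≫ T.hom = ξ := Over.w t
  let t' : (Scheme.pointSmallEtale ξ).fiber.obj V := Over.homMk t''.left (by
    change t''.left ≫ V.hom = ξ
    calc t''.left ≫ V.hom = t''.left ≫ (g.left ≫ T.hom) := congrArg (t''.left ≫ ·) h2.symm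
      _ = (t''.left ≫ g.left) ≫ T.hom := (Category.assoc _ _ _).symm
      _ = t.left ≫ T.hom := congrArg (· ≫ T.hom) h1
      _ = ξ := h3)
  have ht' : (Scheme.pointSmallEtale ξ).fiber.map g t' = t := by
    apply Over.OverMorphism.ext
    exact h1
  refine ⟨k, ?_⟩
  have h4 : germ ξ F V t' (F.obj.map g.op s) = germ ξ F T t s := by
    rw [germ_map, ht']
  change ℓ ^ k • germ ξ F T t s = 0
  rw [← h4, ← map_nsmul, hk, map_zero]

end Groth.Agent.Lib.Helper22.EtLoc.LGroup
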