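import Groth.Agent.Lib.Helper22.EtLoc.OverSite
import Groth.Prelude.Def_EtRestW

set_option autoImplicit false

universe u

open CategoryTheory CategoryTheory.Limits Opposite AlgebraicGeometry

namespace Groth.Agent.Lib.Helper22.EtLoc.LccPull

open Groth.Agent.Lib.Helper22.CechU.Etale Groth.Agent.Lib.Helper22.EtLoc

variable {X Y : Scheme.{u}}

/-- If the pullback of `G` along `g` is constant, so is its pullback along `h ≫ g`. -/
theorem pull_comp_iso_const {Z : Scheme.{u}} (h : Z ⟶ X) (g : X ⟶ Y) (G : EtCoh.Ab Y)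
    (M : AddCommGrpCat.{u + 1})
    (e : Nonempty ((EtCoh.pull g).obj G ≅
      (constantSheaf X.smallEtaleTopology AddCommGrpCat.{u + 1}).obj M)) :
    Nonempty ((EtCoh.pull (h ≫ g)).obj G ≅
      (constantSheaf Z.smallEtaleTopology AddCommGrpCat.{u + 1}).obj M) := by
  obtain ⟨e⟩ := e
  exact ⟨(EtCore.pullComp h g).app G ≪≫ (EtCoh.pull h).mapIso e ≪≫ (EtCore.pullConstIso h).app M⟩

/-- Restriction of `f^* G` to the base change of `U` is constant when `G|_U` is. -/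
theorem restr_bc_iso_const (f : X ⟶ Y) (G : EtCoh.Ab Y) (U : Y.Etale) (M : AddCommGrpCat.{u + 1})
    (e : Nonempty (EtCoh.restr G U ≅
      (constantSheaf (Y.smallEtaleTopology.over U) AddCommGrpCat.{u + 1}).obj M)) :
    Nonempty (EtCoh.restr ((EtCoh.pull f).obj G) ((EtCoh.bc f).obj U) ≅
      (constantSheaf (X.smallEtaleTopology.over ((EtCoh.bc f).obj U)) AddCommGrpCat.{u + 1}).obj M) := by
  rw [OverSite.restr_iso_const_iff] at e ⊢
  have h1 := pull_comp_iso_const (pullback.fst U.hom f) U.hom G M e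
  have hc : pullback.fst U.hom f ≫ U.hom = ((EtCoh.bc f).obj U).hom ≫ f := pullback.condition
  obtain ⟨e1⟩ := h1
  exact ⟨((EtCore.pullComp ((EtCoh.bc f).obj U).hom f).app G).symm ≪≫
    (EtCore.pullCongr hc.symm).app G ≪≫ e1⟩

lemma covers_bc (f : X ⟶ Y) {ι : Type u} (U : ι → Y.Etale) (h : EtCoh.Covers U) :
    EtCoh.Covers (fun i => (EtCoh.bc f).obj (U i)) := by
  intro x
  obtain ⟨i, y, hy⟩ := h (f x)
  obtain ⟨z, hz1, hz2⟩ := Scheme.Pullback.exists_preimage_pullback y x hy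
  exact ⟨i, z, hz2⟩

theorem isFiniteLocallyConstant_pull (f : X ⟶ Y) (G : EtCoh.Ab Y)
    (h : EtCoh.IsFiniteLocallyConstant G) :
    EtCoh.IsFiniteLocallyConstant ((EtCoh.pull f).obj G) := by
  obtain ⟨ι, U, hU, hM⟩ := h
  refine ⟨ι, fun i => (EtCoh.bc f).obj (U i), covers_bc f U hU, fun i => ?_⟩
  obtain ⟨M, i1, i2, e⟩ := hM i
  exact ⟨M, i1, i2, restr_bc_iso_const f G (U i) _ e⟩

theorem isLocallyConstant_pull (f : X ⟶ Y) (G : EtCoh.Ab Y)
    (h : EtRest.IsLocallyConstant G) :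
    EtRest.IsLocallyConstant ((EtCoh.pull f).obj G) := by
  obtain ⟨ι, U, hU, hM⟩ := h
  refine ⟨ι, fun i => (EtCoh.bc f).obj (U i), covers_bc f U hU, fun i => ?_⟩
  obtain ⟨M, i1, e⟩ := hM i
  exact ⟨M, i1, restr_bc_iso_const f G (U i) _ e⟩

end Groth.Agent.Lib.Helper22.EtLoc.LccPull
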