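import Groth.Agent.Lib.Helper22.EtLoc.ConstHom
import Groth.Agent.Lib.Helper22.EtLoc.FlcClosure
import Groth.Prelude.Def_EtRestW

/-!
# Maps of locally constant sheaves are locally induced by group homomorphisms (helper22)
-/

set_option autoImplicit false

universe u

open CategoryTheory CategoryTheory.Limits AlgebraicGeometry Opposite

namespace Groth.Agent.Lib.Helper22.EtLoc.LocalHom

open Groth.Agent.Lib.Helper22.EtStalk Groth.Agent.Lib.Helper22.EtLoc
open Groth.Agent.Lib.Helper22.EtLoc.ConstHom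

noncomputable section

variable {X : Scheme.{u}}

/-- `res (v ≫ w) ≅ pull w ⋙ res v`. -/
def resCompIso {W₀ W : Scheme.{u}} (v : W ⟶ W₀) [Etale v] (w₀ : W₀ ⟶ X) [Etale w₀] :
    res (v ≫ w₀) ≅ EtCoh.pull w₀ ⋙ res v :=
  (pullIsoRes (v ≫ w₀)).symm ≪≫ EtCore.pullComp v w₀ ≪≫
    Functor.isoWhiskerLeft (EtCoh.pull w₀) (pullIsoRes v)

/-- Restriction of a constant sheaf is constant, naturally in the value. -/
def resConstIso {W₀ W : Scheme.{u}} (v : W ⟶ W₀) [Etale v] :
    constantSheaf W₀.smallEtaleTopology AddCommGrpCat.{u + 1} ⋙ res v ≅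
      constantSheaf W.smallEtaleTopology AddCommGrpCat.{u + 1} :=
  Functor.isoWhiskerLeft _ (pullIsoRes v).symm ≪≫ EtCore.pullConstIso v

/-- Reformulation of local constancy with étale morphisms and pullbacks. -/
theorem lc_iff (G : EtCoh.Ab X) :
    EtRest.IsLocallyConstant G ↔
      ∀ x : X, ∃ (W : Scheme.{u}) (w : W ⟶ X) (_ : Etale w) (_ : x ∈ Set.range w)
        (N : Type (u + 1)) (_ : AddCommGroup N),
        Nonempty ((EtCoh.pull w).obj G ≅ cst (AddCommGrpCat.of N)) := by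
  constructor
  · rintro ⟨ι, U, hU, hM⟩ x
    obtain ⟨i, y, hy⟩ := hU x
    obtain ⟨N, i1, e⟩ := hM i
    exact ⟨(U i).left, (U i).hom, (U i).prop, ⟨y, hy⟩, N, i1,
      (OverSite.restr_iso_const_iff (U i) G _).1 e⟩
  · intro h
    choose W w hw hx N i1 e using h
    refine ⟨X, fun x => @Scheme.Etale.mk _ _ (w x) (hw x), fun x => ?_, fun x => ?_⟩
    · obtain ⟨y, hy⟩ := hx x
      exact ⟨x, y, hy⟩
    · exact ⟨N x, i1 x,
        (OverSite.restr_iso_const_iff (@Scheme.Etale.mk _ _ (w x) (hw x)) G _).2 (e x)⟩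

/-- **Local structure of maps between locally constant sheaves** (source with finite value). -/
theorem exists_local_groupHom {F G : EtCoh.Ab X} (φ : F ⟶ G) (x : X)
    {W₁ W₂ : Scheme.{u}} (w₁ : W₁ ⟶ X) [Etale w₁] (w₂ : W₂ ⟶ X) [Etale w₂]
    (t₁ : W₁) (t₂ : W₂) (ht₁ : w₁ t₁ = x) (ht₂ : w₂ t₂ = x)
    (M N : AddCommGrpCat.{u + 1}) [Finite M]
    (e₁ : (EtCoh.pull w₁).obj F ≅ cst M) (e₂ : (EtCoh.pull w₂).obj G ≅ cst N) :
    ∃ (W' : Scheme.{u}) (u : W' ⟶ X) (_ : Etale u) (_ : x ∈ Set.range u) (h : M ⟶ N)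
      (α' : (res u).obj F ≅ cst M) (β' : (res u).obj G ≅ cst N),
      (res u).map φ ≫ β'.hom = α'.hom ≫
        (constantSheaf W'.smallEtaleTopology AddCommGrpCat.{u + 1}).map h := by
  let p₁ := pullback.fst w₁ w₂
  let p₂ := pullback.snd w₁ w₂
  let w₀ := p₁ ≫ w₁
  have hc : p₁ ≫ w₁ = p₂ ≫ w₂ := pullback.condition
  let α₀ : (EtCoh.pull w₀).obj F ≅ cst M :=
    (EtCore.pullComp p₁ w₁).app F ≪≫ (EtCoh.pull p₁).mapIso e₁ ≪≫ (EtCore.pullConstIso p₁).app M
  let β₀ : (EtCoh.pull w₀).obj G ≅ cst N :=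
    (EtCore.pullCongr hc).app G ≪≫ (EtCore.pullComp p₂ w₂).app G ≪≫
      (EtCoh.pull p₂).mapIso e₂ ≪≫ (EtCore.pullConstIso p₂).app N
  let ψ : cst (U := pullback w₁ w₂) M ⟶ cst N := α₀.inv ≫ (EtCoh.pull w₀).map φ ≫ β₀.hom
  have hψ : α₀.hom ≫ ψ = (EtCoh.pull w₀).map φ ≫ β₀.hom := by
    simp only [ψ, Iso.hom_inv_id_assoc]
  obtain ⟨z, hz1, hz2⟩ := Scheme.Pullback.exists_preimage_pullback t₁ t₂ (ht₁.trans ht₂.symm)
  obtain ⟨W, ⟨t, ht⟩, h, H⟩ := exists_local_hom M N ψ z
  have hW : Etale W.hom := W.prop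
  let v : W.left ⟶ pullback w₁ w₂ := W.hom
  let ν := resCompIso v w₀
  let θ := resConstIso v
  have hres : (res v).map ψ =
      (res v).map ((constantSheaf (pullback w₁ w₂).smallEtaleTopology AddCommGrpCat.{u + 1}).map h) := by
    apply Sheaf.hom_ext
    ext T' : 2
    exact H ((pj v).obj T'.unop) (MorphismProperty.Over.homMk T'.unop.hom rfl trivial)
  refine ⟨W.left, v ≫ w₀, inferInstance, ⟨t, ?_⟩, h,
    ν.app F ≪≫ (res v).mapIso α₀ ≪≫ θ.app M, ν.app G ≪≫ (res v).mapIso β₀ ≪≫ θ.app N, ?_⟩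
  · rw [Scheme.Hom.comp_apply]
    have : v t = z := ht
    rw [this, Scheme.Hom.comp_apply, hz1, ht₁]
  · simp only [Iso.trans_hom, Iso.app_hom, Functor.mapIso_hom]
    have n1 := ν.hom.naturality φ
    have n2 := θ.hom.naturality h
    simp only [Functor.comp_map] at n1 n2
    have hψ' : (res v).map ((EtCoh.pull w₀).map φ) ≫ (res v).map β₀.hom =
        (res v).map α₀.hom ≫ (res v).map ψ := by
      rw [← Functor.map_comp, ← hψ, Functor.map_comp]
    calc (res (v ≫ w₀)).map φ ≫ ν.hom.app G ≫ (res v).map β₀.hom ≫ θ.hom.app N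
        = ((res (v ≫ w₀)).map φ ≫ ν.hom.app G) ≫ (res v).map β₀.hom ≫ θ.hom.app N :=
          (Category.assoc _ _ _).symm
      _ = (ν.hom.app F ≫ (res v).map ((EtCoh.pull w₀).map φ)) ≫ (res v).map β₀.hom ≫ θ.hom.app N :=
          congrArg (· ≫ (res v).map β₀.hom ≫ θ.hom.app N) n1
      _ = ν.hom.app F ≫ ((res v).map ((EtCoh.pull w₀).map φ) ≫ (res v).map β₀.hom) ≫ θ.hom.app N := by
          simp only [Category.assoc]
      _ = ν.hom.app F ≫ ((res v).map α₀.hom ≫ (res v).map ψ) ≫ θ.hom.app N := by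
          rw [hψ']
      _ = ν.hom.app F ≫ (res v).map α₀.hom ≫ (res v).map
            ((constantSheaf (pullback w₁ w₂).smallEtaleTopology AddCommGrpCat.{u + 1}).map h) ≫
              θ.hom.app N := by
          rw [hres]; simp only [Category.assoc]
      _ = ν.hom.app F ≫ (res v).map α₀.hom ≫ θ.hom.app M ≫
            (constantSheaf W.left.smallEtaleTopology AddCommGrpCat.{u + 1}).map h := by
          rw [n2]
      _ = (ν.hom.app F ≫ (res v).map α₀.hom ≫ θ.hom.app M) ≫
            (constantSheaf W.left.smallEtaleTopology AddCommGrpCat.{u + 1}).map h := by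
          simp only [Category.assoc]

/-- Transport of a local description from `U.left` to the over-site of `U`. -/
theorem overSite_of_res {F G : EtCoh.Ab X} (φ : F ⟶ G) (U : X.Etale)
    (M N : AddCommGrpCat.{u + 1}) (h : M ⟶ N)
    (α' : (res U.hom).obj F ≅ cst M) (β' : (res U.hom).obj G ≅ cst N)
    (H : (res U.hom).map φ ≫ β'.hom = α'.hom ≫
      (constantSheaf U.left.smallEtaleTopology AddCommGrpCat.{u + 1}).map h) :
    ∃ (α : EtCoh.restr F U ≅
        (constantSheaf (X.smallEtaleTopology.over U) AddCommGrpCat.{u + 1}).obj M)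
      (β : EtCoh.restr G U ≅
        (constantSheaf (X.smallEtaleTopology.over U) AddCommGrpCat.{u + 1}).obj N),
      (X.smallEtaleTopology.overPullback AddCommGrpCat.{u + 1} U).map φ ≫ β.hom =
        α.hom ≫ (constantSheaf (X.smallEtaleTopology.over U) AddCommGrpCat.{u + 1}).map h := by
  let E := (OverSite.shEquiv U).functor
  let α'' : (OverSite.shEquiv U).inverse.obj (EtCoh.restr F U) ≅ cst M := α'
  let β'' : (OverSite.shEquiv U).inverse.obj (EtCoh.restr G U) ≅ cst N := β'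
  have H' : (OverSite.shEquiv U).inverse.map
      ((X.smallEtaleTopology.overPullback AddCommGrpCat.{u + 1} U).map φ) ≫ β''.hom =
      α''.hom ≫ (constantSheaf U.left.smallEtaleTopology AddCommGrpCat.{u + 1}).map h := H
  refine ⟨((OverSite.shEquiv U).counitIso.app (EtCoh.restr F U)).symm ≪≫ E.mapIso α'' ≪≫
      (OverSite.constIso U).app M,
    ((OverSite.shEquiv U).counitIso.app (EtCoh.restr G U)).symm ≪≫ E.mapIso β'' ≪≫
      (OverSite.constIso U).app N, ?_⟩
  simp only [Iso.trans_hom, Iso.symm_hom, Iso.app_inv, Iso.app_hom, Functor.mapIso_hom]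
  have n1 := (OverSite.shEquiv U).counitIso.inv.naturality
    ((X.smallEtaleTopology.overPullback AddCommGrpCat.{u + 1} U).map φ)
  have n2 := (OverSite.constIso U).hom.naturality h
  simp only [Functor.id_map, Functor.comp_map] at n1 n2
  have n3 : E.map ((OverSite.shEquiv U).inverse.map
      ((X.smallEtaleTopology.overPullback AddCommGrpCat.{u + 1} U).map φ)) ≫ E.map β''.hom =
      E.map α''.hom ≫ E.map ((constantSheaf U.left.smallEtaleTopology AddCommGrpCat.{u + 1}).map h) := by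
    rw [← Functor.map_comp, H', Functor.map_comp]
  calc (X.smallEtaleTopology.overPullback AddCommGrpCat.{u + 1} U).map φ ≫
        (OverSite.shEquiv U).counitIso.inv.app (EtCoh.restr G U) ≫ E.map β''.hom ≫
          (OverSite.constIso U).hom.app N
      = ((X.smallEtaleTopology.overPullback AddCommGrpCat.{u + 1} U).map φ ≫
        (OverSite.shEquiv U).counitIso.inv.app (EtCoh.restr G U)) ≫ E.map β''.hom ≫
          (OverSite.constIso U).hom.app N := (Category.assoc _ _ _).symm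
    _ = ((OverSite.shEquiv U).counitIso.inv.app (EtCoh.restr F U) ≫
          E.map ((OverSite.shEquiv U).inverse.map
            ((X.smallEtaleTopology.overPullback AddCommGrpCat.{u + 1} U).map φ))) ≫ E.map β''.hom ≫
          (OverSite.constIso U).hom.app N :=
        congrArg (· ≫ E.map β''.hom ≫ (OverSite.constIso U).hom.app N) n1
    _ = (OverSite.shEquiv U).counitIso.inv.app (EtCoh.restr F U) ≫
          (E.map ((OverSite.shEquiv U).inverse.map
            ((X.smallEtaleTopology.overPullback AddCommGrpCat.{u + 1} U).map φ)) ≫ E.map β''.hom) ≫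
          (OverSite.constIso U).hom.app N := by simp only [Category.assoc]
    _ = (OverSite.shEquiv U).counitIso.inv.app (EtCoh.restr F U) ≫
          (E.map α''.hom ≫ E.map ((constantSheaf U.left.smallEtaleTopology AddCommGrpCat.{u + 1}).map h)) ≫
          (OverSite.constIso U).hom.app N := by rw [n3]
    _ = (OverSite.shEquiv U).counitIso.inv.app (EtCoh.restr F U) ≫
          E.map α''.hom ≫ (OverSite.constIso U).hom.app M ≫
            (constantSheaf (X.smallEtaleTopology.over U) AddCommGrpCat.{u + 1}).map h := by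
        simp only [Category.assoc]; rw [n2]
    _ = ((OverSite.shEquiv U).counitIso.inv.app (EtCoh.restr F U) ≫
          E.map α''.hom ≫ (OverSite.constIso U).hom.app M) ≫
            (constantSheaf (X.smallEtaleTopology.over U) AddCommGrpCat.{u + 1}).map h := by
        simp only [Category.assoc]

/-- Combined form on the over-site. -/
theorem exists_overSite_groupHom {F G : EtCoh.Ab X} (φ : F ⟶ G) (x : X)
    {W₁ W₂ : Scheme.{u}} (w₁ : W₁ ⟶ X) [Etale w₁] (w₂ : W₂ ⟶ X) [Etale w₂]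
    (hx₁ : x ∈ Set.range w₁) (hx₂ : x ∈ Set.range w₂)
    (M N : AddCommGrpCat.{u + 1}) [Finite M]
    (e₁ : (EtCoh.pull w₁).obj F ≅ cst M) (e₂ : (EtCoh.pull w₂).obj G ≅ cst N) :
    ∃ (U : X.Etale) (_ : x ∈ Set.range U.hom) (h : M ⟶ N)
      (α : EtCoh.restr F U ≅
        (constantSheaf (X.smallEtaleTopology.over U) AddCommGrpCat.{u + 1}).obj M)
      (β : EtCoh.restr G U ≅
        (constantSheaf (X.smallEtaleTopology.over U) AddCommGrpCat.{u + 1}).obj N),
      (X.smallEtaleTopology.overPullback AddCommGrpCat.{u + 1} U).map φ ≫ β.hom =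
        α.hom ≫ (constantSheaf (X.smallEtaleTopology.over U) AddCommGrpCat.{u + 1}).map h := by
  obtain ⟨t₁, ht₁⟩ := hx₁
  obtain ⟨t₂, ht₂⟩ := hx₂
  obtain ⟨W', u, hu, hx, h, α', β', H⟩ :=
    exists_local_groupHom φ x w₁ w₂ t₁ t₂ ht₁ ht₂ M N e₁ e₂
  obtain ⟨α, β, Hαβ⟩ := overSite_of_res φ (@Scheme.Etale.mk _ _ u hu) M N h α' β' H
  exact ⟨@Scheme.Etale.mk _ _ u hu, hx, h, α, β, Hαβ⟩

end

end Groth.Agent.Lib.Helper22.EtLoc.LocalHom
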