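import Groth.Agent.Lib.Helper22.SheafExact

/-!
# Translating Mayer–Vietoris exactness in `AddCommGrpCat` into kernels and ranges
-/

set_option autoImplicit false

universe u

open CategoryTheory CategoryTheory.Limits

namespace Groth.Agent.Lib.Helper22.EtLoc

open Groth.Agent.Lib.Helper22.SheafExact

lemma ab_of_exact_mk₂ {A B C : AddCommGrpCat.{u}} (f : A ⟶ B) (g : B ⟶ C)
    (h : (ComposableArrows.mk₂ f g).Exact) :
    (∀ x, g (f x) = 0) ∧ (∀ y, g y = 0 → ∃ x, f x = y) := by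
  have w : f ≫ g = 0 := h.toIsComplex.zero 0
  have he : (ShortComplex.mk f g w).Exact := h.exact 0
  refine ⟨fun x => ?_, fun y hy => ?_⟩
  · rw [← ConcreteCategory.comp_apply, w]
    rfl
  · exact (ShortComplex.ab_exact_iff _).1 he y hy

section

variable {A B₁ B₂ C : AddCommGrpCat.{u}} (a₁ : A ⟶ B₁) (a₂ : A ⟶ B₂) (b₁ : B₁ ⟶ C) (b₂ : B₂ ⟶ C)

lemma fst_lift (x : A) : (biprod.fst : B₁ ⊞ B₂ ⟶ B₁) ((biprod.lift a₁ a₂) x) = a₁ x := by
  rw [← ConcreteCategory.comp_apply, biprod.lift_fst]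

lemma snd_lift (x : A) : (biprod.snd : B₁ ⊞ B₂ ⟶ B₂) ((biprod.lift a₁ a₂) x) = a₂ x := by
  rw [← ConcreteCategory.comp_apply, biprod.lift_snd]

lemma desc_inl (y : B₁) : (biprod.desc b₁ (-b₂)) ((biprod.inl : B₁ ⟶ B₁ ⊞ B₂) y) = b₁ y := by
  rw [← ConcreteCategory.comp_apply, biprod.inl_desc]

lemma desc_inr (y : B₂) : (biprod.desc b₁ (-b₂)) ((biprod.inr : B₂ ⟶ B₁ ⊞ B₂) y) = -b₂ y := by
  rw [← ConcreteCategory.comp_apply, biprod.inr_desc]
  rfl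

lemma desc_apply (z : (B₁ ⊞ B₂ : AddCommGrpCat.{u})) :
    (biprod.desc b₁ (-b₂)) z =
      b₁ ((biprod.fst : B₁ ⊞ B₂ ⟶ B₁) z) - b₂ ((biprod.snd : B₁ ⊞ B₂ ⟶ B₂) z) := by
  conv_lhs => rw [biprod_elt z]
  rw [map_add, desc_inl, desc_inr, sub_eq_add_neg]

/-- The element of the biproduct with given components. -/
noncomputable def pairElt (y₁ : B₁) (y₂ : B₂) : (B₁ ⊞ B₂ : AddCommGrpCat.{u}) :=
  (biprod.inl : B₁ ⟶ B₁ ⊞ B₂) y₁ + (biprod.inr : B₂ ⟶ B₁ ⊞ B₂) y₂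

lemma fst_pairElt (y₁ : B₁) (y₂ : B₂) :
    (biprod.fst : B₁ ⊞ B₂ ⟶ B₁) (pairElt y₁ y₂) = y₁ := by
  unfold pairElt
  rw [map_add, ← ConcreteCategory.comp_apply, ← ConcreteCategory.comp_apply, biprod.inl_fst,
    biprod.inr_fst]
  exact add_zero _

lemma snd_pairElt (y₁ : B₁) (y₂ : B₂) :
    (biprod.snd : B₁ ⊞ B₂ ⟶ B₂) (pairElt y₁ y₂) = y₂ := by
  unfold pairElt
  rw [map_add, ← ConcreteCategory.comp_apply, ← ConcreteCategory.comp_apply, biprod.inl_snd,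
    biprod.inr_snd]
  exact zero_add _

lemma lift_eq_zero (x : A) (h1 : a₁ x = 0) (h2 : a₂ x = 0) : (biprod.lift a₁ a₂) x = 0 := by
  rw [biprod_elt ((biprod.lift a₁ a₂) x), fst_lift, snd_lift, h1, h2, map_zero, map_zero, add_zero]

lemma lift_eq_pairElt (x : A) : (biprod.lift a₁ a₂) x = pairElt (a₁ x) (a₂ x) := by
  rw [biprod_elt ((biprod.lift a₁ a₂) x), fst_lift, snd_lift]
  rfl

/-- The difference map on the product. -/
abbrev diffHom : (B₁ × B₂) →+ C :=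
  b₁.hom.comp (AddMonoidHom.fst _ _) - b₂.hom.comp (AddMonoidHom.snd _ _)

lemma ker_prod_eq_bot (h : Mono (biprod.lift a₁ a₂)) : (AddMonoidHom.prod a₁.hom a₂.hom).ker = ⊥ := by
  rw [AddCommGrpCat.mono_iff_injective] at h
  rw [eq_bot_iff]
  intro x hx
  rw [AddMonoidHom.mem_ker] at hx
  have h1 : a₁ x = 0 := congrArg Prod.fst hx
  have h2 : a₂ x = 0 := congrArg Prod.snd hx
  rw [AddSubgroup.mem_bot]
  exact h ((lift_eq_zero a₁ a₂ x h1 h2).trans (map_zero _).symm)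

lemma ker_diff_eq_range_prod
    (h : (ComposableArrows.mk₂ (biprod.lift a₁ a₂) (biprod.desc b₁ (-b₂))).Exact) :
    (diffHom b₁ b₂).ker = (AddMonoidHom.prod a₁.hom a₂.hom).range := by
  obtain ⟨hz, he⟩ := ab_of_exact_mk₂ _ _ h
  ext ⟨y₁, y₂⟩
  rw [AddMonoidHom.mem_ker, AddMonoidHom.mem_range]
  constructor
  · intro hy
    have hy' : b₁ y₁ - b₂ y₂ = 0 := hy
    obtain ⟨x, hx⟩ := he (pairElt y₁ y₂) (by
      rw [desc_apply, fst_pairElt, snd_pairElt]; exact hy')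
    refine ⟨x, ?_⟩
    have e1 : a₁ x = y₁ := by rw [← fst_lift a₁ a₂, hx, fst_pairElt]
    have e2 : a₂ x = y₂ := by rw [← snd_lift a₁ a₂, hx, snd_pairElt]
    exact Prod.ext e1 e2
  · rintro ⟨x, hx⟩
    have e1 : a₁ x = y₁ := congrArg Prod.fst hx
    have e2 : a₂ x = y₂ := congrArg Prod.snd hx
    have := hz x
    rw [desc_apply, fst_lift, snd_lift, e1, e2] at this
    exact this

lemma ker_eq_range_diff {D : AddCommGrpCat.{u}} (d : C ⟶ D)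
    (h : (ComposableArrows.mk₂ (biprod.desc b₁ (-b₂)) d).Exact) :
    d.hom.ker = (diffHom b₁ b₂).range := by
  obtain ⟨hz, he⟩ := ab_of_exact_mk₂ _ _ h
  ext c
  rw [AddMonoidHom.mem_ker, AddMonoidHom.mem_range]
  constructor
  · intro hc
    obtain ⟨z, hz'⟩ := he c hc
    refine ⟨((biprod.fst : B₁ ⊞ B₂ ⟶ B₁) z, (biprod.snd : B₁ ⊞ B₂ ⟶ B₂) z), ?_⟩
    rw [← hz', desc_apply]
    rfl
  · rintro ⟨⟨y₁, y₂⟩, hy⟩
    have hy' : b₁ y₁ - b₂ y₂ = c := hy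
    have := hz (pairElt y₁ y₂)
    rw [desc_apply, fst_pairElt, snd_pairElt, hy'] at this
    exact this

lemma ker_prod_eq_range {R : AddCommGrpCat.{u}} (d : R ⟶ A)
    (h : (ComposableArrows.mk₂ d (biprod.lift a₁ a₂)).Exact) :
    (AddMonoidHom.prod a₁.hom a₂.hom).ker = d.hom.range := by
  obtain ⟨hz, he⟩ := ab_of_exact_mk₂ _ _ h
  ext x
  rw [AddMonoidHom.mem_ker, AddMonoidHom.mem_range]
  constructor
  · intro hx
    have h1 : a₁ x = 0 := congrArg Prod.fst hx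
    have h2 : a₂ x = 0 := congrArg Prod.snd hx
    exact he x (lift_eq_zero a₁ a₂ x h1 h2)
  · rintro ⟨r, rfl⟩
    have := hz r
    have e1 : a₁ (d r) = 0 := by rw [← fst_lift a₁ a₂, this, map_zero]
    have e2 : a₂ (d r) = 0 := by rw [← snd_lift a₁ a₂, this, map_zero]
    exact Prod.ext e1 e2

end

end Groth.Agent.Lib.Helper22.EtLoc
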