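import Groth.Prelude.Def_EtShriek2
import Groth.Agent.Lib.Helper22.EtLoc.MonoLoc

/-!
# Localization along an étale monomorphism, general coefficients (helper22)

`resA`, `pushA`, `resPushAdjA`, counit iso, `fullyFaithfulPushA`.
-/

set_option autoImplicit false

universe u v w

open CategoryTheory CategoryTheory.Limits Opposite AlgebraicGeometry

namespace Groth.Agent.Lib.Helper22.EtLoc

variable {U X : Scheme.{u}} (j : U ⟶ X) [hj : Etale j] (A : Type w) [Category.{v} A]

/-- Restriction along an étale morphism, general coefficients. -/
noncomputable abbrev resA : Sheaf X.smallEtaleTopology A ⥤ Sheaf U.smallEtaleTopology A :=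
  (pj j).sheafPushforwardContinuous A U.smallEtaleTopology X.smallEtaleTopology

/-- Direct image, general coefficients. -/
noncomputable abbrev pushA : Sheaf U.smallEtaleTopology A ⥤ Sheaf X.smallEtaleTopology A :=
  (EtCoh.bc j).sheafPushforwardContinuous A X.smallEtaleTopology U.smallEtaleTopology

/-- `res j ⊣ push j`, general coefficients. -/
noncomputable def resPushAdjA : resA j A ⊣ pushA j A :=
  (pjAdj j).sheafPushforwardContinuous _ _

lemma resPushAdjA_counit_app (F : Sheaf U.smallEtaleTopology A) (W : U.Etale) :
    ((resPushAdjA j A).counit.app F).hom.app (op W) = F.obj.map ((pjAdj j).unit.app W).op := by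
  simp [resPushAdjA, Adjunction.sheafPushforwardContinuous, Adjunction.whiskerLeft]
  try rfl

instance isIso_resPushAdjA_counit_app [Mono j] (F : Sheaf U.smallEtaleTopology A) :
    IsIso ((resPushAdjA j A).counit.app F) := by
  have h : ∀ W : (U.Etale)ᵒᵖ, IsIso (((resPushAdjA j A).counit.app F).hom.app W) := by
    intro W
    rw [show W = op W.unop from rfl, resPushAdjA_counit_app]
    have : IsIso ((pjAdj j).unit.app (unop W)) := inferInstance
    have : IsIso ((pjAdj j).unit.app (unop W)).op := inferInstance
    exact Functor.map_isIso _ _
  have : IsIso ((resPushAdjA j A).counit.app F).hom := NatIso.isIso_of_isIso_app _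
  exact (isIso_iff_of_reflects_iso _ (sheafToPresheaf _ _)).1 ‹_›

instance isIso_resPushAdjA_counit [Mono j] : IsIso (resPushAdjA j A).counit :=
  NatIso.isIso_of_isIso_app _

/-- Direct image along an étale monomorphism is fully faithful. -/
noncomputable def fullyFaithfulPushA [Mono j] : (pushA j A).FullyFaithful :=
  (resPushAdjA j A).fullyFaithfulROfIsIsoCounit

end Groth.Agent.Lib.Helper22.EtLoc
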