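import Groth.Agent.Lib.Helper22.EtLoc.Basic
import Mathlib.CategoryTheory.Sites.ConstantSheaf
import Mathlib.CategoryTheory.Sites.DenseSubsite.SheafEquiv

set_option autoImplicit false

universe u

open CategoryTheory CategoryTheory.Limits Opposite AlgebraicGeometry

namespace Groth.Agent.Lib.Helper22.EtLoc.OverSite

open Groth.Agent.Lib.Helper22.CechU.Etale Groth.Agent.Lib.Helper22.EtLoc

variable {X : Scheme.{u}} (U : X.Etale)

instance etale_hom : Etale U.hom := U.prop

/-- The functor `(U.left).Etale ⥤ Over U`: an étale `U`-scheme, as an étale `X`-scheme over `U`. -/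
noncomputable def toOver : (U.left).Etale ⥤ Over U where
  obj V := Over.mk (Y := (pj U.hom).obj V) (MorphismProperty.Over.homMk V.hom rfl trivial)
  map {V W} f := Over.homMk ((pj U.hom).map f) (by
    apply MorphismProperty.Over.Hom.ext
    exact Over.w f.hom)
  map_id V := by
    apply Over.OverMorphism.ext
    exact (pj U.hom).map_id V
  map_comp f g := by
    apply Over.OverMorphism.ext
    exact (pj U.hom).map_comp f g

@[simp] lemma toOver_obj_left (V : (U.left).Etale) : ((toOver U).obj V).left = (pj U.hom).obj V := rfl
@[simp] lemma toOver_map_left {V W : (U.left).Etale} (f : V ⟶ W) :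
    ((toOver U).map f).left = (pj U.hom).map f := rfl

lemma toOver_comp_forget : toOver U ⋙ Over.forget U = pj U.hom := rfl

instance faithful_toOver : (toOver U).Faithful where
  map_injective {V W} f g h := by
    apply MorphismProperty.Over.Hom.ext
    exact congrArg (fun φ => φ.left.left) h

instance full_toOver : (toOver U).Full where
  map_surjective {V W} h := by
    have hw : h.left.left ≫ W.hom = V.hom := congrArg (fun φ => φ.left) (Over.w h)
    refine ⟨MorphismProperty.Over.homMk h.left.left hw trivial, ?_⟩
    apply Over.OverMorphism.ext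
    apply MorphismProperty.Over.Hom.ext
    rfl

instance essSurj_toOver : (toOver U).EssSurj where
  mem_essImage A := by
    have hE : Etale A.hom.left := inferInstance
    let V : (U.left).Etale := Scheme.Etale.mk A.hom.left
    have hw : A.hom.left ≫ U.hom = A.left.hom := Over.w A.hom.hom
    let e0 : (pj U.hom).obj V ≅ A.left :=
      MorphismProperty.Over.isoMk (Iso.refl _) ((Category.id_comp _).trans hw.symm)
    refine ⟨V, ⟨Over.isoMk e0 ?_⟩⟩
    apply MorphismProperty.Over.Hom.ext
    exact Category.id_comp _

instance isEquivalence_toOver : (toOver U).IsEquivalence where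

instance isDenseSubsite_toOver :
    (toOver U).IsDenseSubsite (U.left).smallEtaleTopology (X.smallEtaleTopology.over U) where
  functorPushforward_mem_iff {V S} := by
    rw [GrothendieckTopology.mem_over_iff, mem_smallEtaleTopology_iff, mem_smallEtaleTopology_iff]
    constructor
    · intro h x
      obtain ⟨Z, g, y, hg, hy⟩ := h x
      rw [Sieve.overEquiv_iff] at hg
      obtain ⟨W, f, k, hf, hk⟩ := hg
      refine ⟨W, f, k.left.left y, hf, ?_⟩
      have h1 : g = k.left ≫ (pj U.hom).map f := congrArg (fun φ => φ.left) hk
      have h2 : g.left = k.left.left ≫ f.left := congrArg (fun φ => φ.left) h1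
      rw [← hy, h2]
      rfl
    · intro h x
      obtain ⟨W, f, y, hf, hy⟩ := h x
      refine ⟨(pj U.hom).obj W, (pj U.hom).map f, y, ?_, hy⟩
      rw [Sieve.overEquiv_iff]
      refine ⟨W, f, Over.homMk (𝟙 _) ?_, hf, ?_⟩
      · apply MorphismProperty.Over.Hom.ext
        simp only [Functor.id_obj, Over.mk_left, Over.mk_hom]
        exact (Over.w f.hom).symm
      · apply Over.OverMorphism.ext
        exact (Category.id_comp _).symm

/-- The equivalence between sheaves on `U.left` and sheaves on the over-site of `U`. -/
noncomputable abbrev shEquiv :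
    EtCoh.Ab U.left ≌ Sheaf (X.smallEtaleTopology.over U) AddCommGrpCat.{u + 1} :=
  Functor.IsDenseSubsite.sheafEquiv (U.left).smallEtaleTopology
    (X.smallEtaleTopology.over U) (toOver U) AddCommGrpCat.{u + 1}

/-- The image of the terminal object is terminal. -/
noncomputable def toOverTopIsTerminal : IsTerminal ((toOver U).obj (EtCoh.top U.left)) :=
  IsTerminal.isTerminalObj (toOver U) _ (EtCore.topIsTerminal U.left)

/-- Under the equivalence, restriction to the over-site corresponds to restriction along `pj`. -/
lemma shEquiv_inverse_obj (F : EtCoh.Ab X) :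
    (shEquiv U).inverse.obj (EtCoh.restr F U) = (res U.hom).obj F := rfl

/-- Constant sheaves correspond under the equivalence. -/
noncomputable def constIso :
    constantSheaf (U.left).smallEtaleTopology AddCommGrpCat.{u + 1} ⋙ (shEquiv U).functor ≅
      constantSheaf (X.smallEtaleTopology.over U) AddCommGrpCat.{u + 1} :=
  equivCommuteConstant (U.left).smallEtaleTopology AddCommGrpCat.{u + 1}
    (X.smallEtaleTopology.over U) (toOver U) (EtCore.topIsTerminal U.left) (toOverTopIsTerminal U)

/-- Constant sheaves correspond under the equivalence (inverse direction). -/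
noncomputable def constIso' :
    constantSheaf (U.left).smallEtaleTopology AddCommGrpCat.{u + 1} ≅
      constantSheaf (X.smallEtaleTopology.over U) AddCommGrpCat.{u + 1} ⋙ (shEquiv U).inverse :=
  equivCommuteConstant' (U.left).smallEtaleTopology AddCommGrpCat.{u + 1}
    (X.smallEtaleTopology.over U) (toOver U) (EtCore.topIsTerminal U.left) (toOverTopIsTerminal U)

/-- **Lemma R**: `F|_U` is constant with value `M` on the over-site iff the pullback of `F` to
`U.left` is the constant sheaf with value `M`. -/
theorem restr_iso_const_iff (F : EtCoh.Ab X) (M : AddCommGrpCat.{u + 1}) :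
    Nonempty (EtCoh.restr F U ≅
        (constantSheaf (X.smallEtaleTopology.over U) AddCommGrpCat.{u + 1}).obj M) ↔
      Nonempty ((EtCoh.pull U.hom).obj F ≅
        (constantSheaf (U.left).smallEtaleTopology AddCommGrpCat.{u + 1}).obj M) := by
  constructor
  · rintro ⟨e⟩
    exact ⟨(pullIsoRes U.hom).app F ≪≫ (shEquiv U).inverse.mapIso e ≪≫ ((constIso' U).app M).symm⟩
  · rintro ⟨e⟩
    have e1 : (res U.hom).obj F ≅
        (constantSheaf (U.left).smallEtaleTopology AddCommGrpCat.{u + 1}).obj M :=
      ((pullIsoRes U.hom).app F).symm ≪≫ e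
    exact ⟨((shEquiv U).counitIso.app (EtCoh.restr F U)).symm ≪≫
      (shEquiv U).functor.mapIso e1 ≪≫ (constIso U).app M⟩

end Groth.Agent.Lib.Helper22.EtLoc.OverSite
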