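import Groth.Prelude.Def_EtBCD
import Groth.Agent.Lib.Helper22.EtStalk.PullShExact
import Groth.Agent.S3047

set_option autoImplicit false
universe u
open CategoryTheory CategoryTheory.Limits AlgebraicGeometry Opposite

namespace Groth.Agent.Lib.Helper22.EtLoc.SecPullBC

open Groth.Agent.Lib.Helper22.EtStalk.PullShExact EtDesc

variable {X Y Xb Yb : Scheme.{u}}

lemma map_map_apply (G : Sh X) {A B C : X.Etale} (a : A ⟶ B) (b : B ⟶ C) (x : sect G C) :
    G.obj.map a.op (G.obj.map b.op x) = G.obj.map (a ≫ b).op x := by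
  rw [op_comp, G.obj.map_comp]
  rfl

lemma map_id_apply (G : Sh X) {A : X.Etale} (x : sect G A) :
    G.obj.map (𝟙 A).op x = x := by
  rw [op_id, G.obj.map_id]
  rfl

/-- Sections over the terminal object: `Γ(X, G) ≃ Γ(Y, f_* G)`. -/
noncomputable def γ (f : X ⟶ Y) (G : Sh X) :
    sect G (EtCoh.top X) ≃ sect ((pushSh f).obj G) (EtCoh.top Y) where
  toFun := G.obj.map (EtCore.bcTopIso f).hom.op
  invFun := G.obj.map (EtCore.bcTopIso f).inv.op
  left_inv x := by
    rw [map_map_apply, Iso.inv_hom_id, map_id_apply]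
  right_inv x := by
    change G.obj.map (EtCore.bcTopIso f).hom.op (G.obj.map (EtCore.bcTopIso f).inv.op x) = x
    rw [map_map_apply, Iso.hom_inv_id, map_id_apply]

lemma secPull_eq (f : X ⟶ Y) (F : Sh Y) (s : sect F (EtCoh.top Y)) :
    secPull f F s = (γ f ((pullSh f).obj F)).symm (((adjSh f).unit.app F).hom.app (op (EtCoh.top Y)) s) :=
  rfl

lemma pushSh_map_app (f : X ⟶ Y) {G G' : Sh X} (φ : G ⟶ G') (W : Y.Etale) :
    ((pushSh f).map φ).hom.app (op W) = φ.hom.app (op ((EtCoh.bc f).obj W)) := rfl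

lemma pushSh_obj_map (f : X ⟶ Y) (G : Sh X) {W W' : Y.Etale} (a : W ⟶ W') :
    ((pushSh f).obj G).obj.map a.op = G.obj.map ((EtCoh.bc f).map a).op := rfl

lemma pushCompSh_hom_app (f : X ⟶ Y) (g : Xb ⟶ X) (H : Sh Xb) (W : Y.Etale) :
    ((pushCompSh f g).hom.app H).hom.app (op W) =
      H.obj.map ((MorphismProperty.Over.pullbackComp (P := EtCoh.etaleMP) (Q := ⊤) g f).hom.app
        W).op := by
  rfl

lemma pushCompSh_inv_app (f : X ⟶ Y) (g : Xb ⟶ X) (H : Sh Xb) (W : Y.Etale) :
    ((pushCompSh f g).inv.app H).hom.app (op W) =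
      H.obj.map ((MorphismProperty.Over.pullbackComp (P := EtCoh.etaleMP) (Q := ⊤) g f).inv.app
        W).op := by
  rfl

lemma pushCongrSh_hom_app {f f' : X ⟶ Y} (e : f = f') (H : Sh X) (W : Y.Etale) :
    ((EtBC.pushCongrSh e).hom.app H).hom.app (op W) =
      H.obj.map ((MorphismProperty.Over.pullbackCongr (P := EtCoh.etaleMP) (Q := ⊤) e).inv.app
        W).op := by
  rfl

lemma map_eq_of_isTerminal (K : Sh X) {A B : X.Etale} (hB : IsTerminal B) (m m' : A ⟶ B)
    (y : sect K B) : K.obj.map m.op y = K.obj.map m'.op y := by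
  rw [hB.hom_ext m m']

lemma nat_apply {F G : Sh X} (φ : F ⟶ G) {A B : X.Etale} (a : A ⟶ B) (x : sect F B) :
    φ.hom.app (op A) (F.obj.map a.op x) = G.obj.map a.op (φ.hom.app (op B) x) :=
  NatTrans.naturality_apply φ.hom a.op x

/-- elements of `K(A)` obtained by restriction from a fixed element over a terminal object -/
def IsPull (K : Sh X) {T : X.Etale} (y : sect K T) (A : X.Etale) (z : sect K A) : Prop :=
  ∃ m : A ⟶ T, z = K.obj.map m.op y

lemma IsPull.self (K : Sh X) {T : X.Etale} (y : sect K T) : IsPull K y T y :=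
  ⟨𝟙 T, (map_id_apply K y).symm⟩

lemma IsPull.map {K : Sh X} {T : X.Etale} {y : sect K T} {A B : X.Etale} {z : sect K B}
    (hz : IsPull K y B z) (a : A ⟶ B) : IsPull K y A (K.obj.map a.op z) := by
  obtain ⟨m, rfl⟩ := hz
  exact ⟨a ≫ m, map_map_apply K a m y⟩

lemma IsPull.unique {K : Sh X} {T : X.Etale} (hT : IsTerminal T) {y : sect K T} {A : X.Etale}
    {z z' : sect K A} (hz : IsPull K y A z) (hz' : IsPull K y A z') : z = z' := by
  obtain ⟨m, rfl⟩ := hz
  obtain ⟨m', rfl⟩ := hz'
  rw [hT.hom_ext m m']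

section BC

variable (h : Y ⟶ X) (p : Xb ⟶ X) (hb : Yb ⟶ Xb) (pY : Yb ⟶ Y) (w : hb ≫ p = pY ≫ h)

/-- the adjoint form of the base change map -/
noncomputable def β (Fb : Sh Xb) :
    (pushSh p).obj Fb ⟶ (pushSh h).obj ((pushSh pY).obj ((pullSh hb).obj Fb)) :=
  (pushSh p).map ((adjSh hb).unit.app Fb) ≫ (pushCompSh p hb).hom.app _ ≫
    (EtBC.pushCongrSh w).hom.app _ ≫ (pushCompSh h pY).inv.app _

lemma β_eq (Fb : Sh Xb) :
    β h p hb pY w Fb = (adjSh h).unit.app _ ≫ (pushSh h).map (EtBC.baseChange0Sh p h pY hb w Fb) := by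
  have h1 := ((adjSh h).homEquiv _ _).apply_symm_apply (β h p hb pY w Fb)
  have h2 := (adjSh h).homEquiv_unit (f := EtBC.baseChange0Sh p h pY hb w Fb)
  exact h1.symm.trans h2

/-- Compatibility of the base change map with pullback of global sections. -/
theorem bc0_secPull (Fb : Sh Xb) (s : sect Fb (EtCoh.top Xb)) :
    (EtBC.baseChange0Sh p h pY hb w Fb).hom.app (op (EtCoh.top Y))
        (secPull h ((pushSh p).obj Fb) (γ p Fb s)) =
      γ pY ((pullSh hb).obj Fb) (secPull hb Fb s) := by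
  have e1 : (EtBC.baseChange0Sh p h pY hb w Fb).hom.app (op (EtCoh.top Y))
        (secPull h ((pushSh p).obj Fb) (γ p Fb s)) =
      ((pushSh pY).obj ((pullSh hb).obj Fb)).obj.map (EtCore.bcTopIso h).inv.op
        ((EtBC.baseChange0Sh p h pY hb w Fb).hom.app (op ((EtCoh.bc h).obj (EtCoh.top X)))
          (((adjSh h).unit.app ((pushSh p).obj Fb)).hom.app (op (EtCoh.top X)) (γ p Fb s))) :=
    nat_apply (EtBC.baseChange0Sh p h pY hb w Fb) (EtCore.bcTopIso h).inv _
  have e2 : (EtBC.baseChange0Sh p h pY hb w Fb).hom.app (op ((EtCoh.bc h).obj (EtCoh.top X)))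
          (((adjSh h).unit.app ((pushSh p).obj Fb)).hom.app (op (EtCoh.top X)) (γ p Fb s)) =
      (β h p hb pY w Fb).hom.app (op (EtCoh.top X)) (γ p Fb s) := by
    rw [β_eq]
    rfl
  have e4 : ((adjSh hb).unit.app Fb).hom.app (op ((EtCoh.bc p).obj (EtCoh.top X))) (γ p Fb s) =
      ((pullSh hb).obj Fb).obj.map ((EtCoh.bc hb).map (EtCore.bcTopIso p).hom).op
        (((adjSh hb).unit.app Fb).hom.app (op (EtCoh.top Xb)) s) :=
    nat_apply ((adjSh hb).unit.app Fb) (EtCore.bcTopIso p).hom s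
  have e3 : (β h p hb pY w Fb).hom.app (op (EtCoh.top X)) (γ p Fb s) =
      ((pullSh hb).obj Fb).obj.map ((MorphismProperty.Over.pullbackComp (P := EtCoh.etaleMP)
          (Q := ⊤) pY h).inv.app (EtCoh.top X)).op
        (((pullSh hb).obj Fb).obj.map ((MorphismProperty.Over.pullbackCongr (P := EtCoh.etaleMP)
            (Q := ⊤) w).inv.app (EtCoh.top X)).op
          (((pullSh hb).obj Fb).obj.map ((MorphismProperty.Over.pullbackComp (P := EtCoh.etaleMP)
              (Q := ⊤) hb p).hom.app (EtCoh.top X)).op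
            (((adjSh hb).unit.app Fb).hom.app (op ((EtCoh.bc p).obj (EtCoh.top X)))
              (γ p Fb s)))) := rfl
  rw [e1, e2, e3, e4, pushSh_obj_map]
  have hT : IsTerminal ((EtCoh.bc hb).obj (EtCoh.top Xb)) := EtCore.bcTopIsTerminal hb
  change _ = ((pullSh hb).obj Fb).obj.map (EtCore.bcTopIso pY).hom.op
    (((pullSh hb).obj Fb).obj.map (EtCore.bcTopIso hb).inv.op
      (((adjSh hb).unit.app Fb).hom.app (op (EtCoh.top Xb)) s))
  refine IsPull.unique hT (y := ((adjSh hb).unit.app Fb).hom.app (op (EtCoh.top Xb)) s) ?_ ?_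
  · exact ((((IsPull.self _ _).map _).map _).map _).map _ |>.map _
  · exact ((IsPull.self _ _).map _).map _

end BC

/-- For surjective `p`, the unit `F ⟶ p_* p^* F` is injective on sections. -/
lemma unit_injective (p : Xb ⟶ X) (hp : Function.Surjective p.base) (F : Sh X) (U : X.Etale) :
    Function.Injective (((adjSh p).unit.app F).hom.app (op U)) := by
  have : Surjective p := ⟨hp⟩
  have : (pullSh p).Faithful := (Groth.Agent.S3047.result p).1
  exact injective_of_mono _ U

/-- Sections of an equalizer of sheaves of sets. -/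
lemma exists_section_of_regularMono {F G : Sh X} (a : F ⟶ G)
    (rm : RegularMono a) (U : X.Etale) (t : G.obj.obj (op U))
    (ht : rm.left.hom.app (op U) t = rm.right.hom.app (op U) t) :
    ∃ s : F.obj.obj (op U), a.hom.app (op U) s = t := by
  let Γ : Sh X ⥤ Type (u + 1) :=
    sheafToPresheaf _ _ ⋙ (evaluation _ _).obj (op U)
  have hl := isLimitForkMapOfIsLimit Γ rm.w rm.isLimit
  obtain ⟨s, hs, -⟩ := Types.unique_of_type_equalizer _ _ hl t ht
  exact ⟨s, hs⟩

/-- If pullback of global sections along `h` is injective for all sheaves, then sections of `h^*F`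
whose image in `h^*G` (for a mono `F ⟶ G`) comes from `X` come from `X`. -/
theorem mem_range_secPull_of_mono (h : Y ⟶ X)
    (hinj : ∀ F : Sh X, Function.Injective (secPull h F))
    {F G : Sh X} (v : F ⟶ G) [Mono v] (ξ : sect ((pullSh h).obj F) (EtCoh.top Y))
    (hξ : ((pullSh h).map v).hom.app (op (EtCoh.top Y)) ξ ∈ Set.range (secPull h G)) :
    ξ ∈ Set.range (secPull h F) := by
  obtain ⟨t, ht⟩ := hξ
  let rm := regularMonoOfMono v
  have e1 : secPull h rm.Z (rm.left.hom.app _ t) = secPull h rm.Z (rm.right.hom.app _ t) := by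
    rw [← secPull_naturality, ← secPull_naturality, ht]
    have w' : (pullSh h).map v ≫ (pullSh h).map rm.left =
        (pullSh h).map v ≫ (pullSh h).map rm.right := by
      rw [← Functor.map_comp, ← Functor.map_comp, rm.w]
    have w'' := congrArg (fun φ => φ.hom.app (op (EtCoh.top Y))) w'
    exact congrArg (fun ψ => (ConcreteCategory.hom ψ) ξ) w''
  have e2 := hinj rm.Z e1
  obtain ⟨s, hs⟩ := exists_section_of_regularMono v rm (EtCoh.top X) t e2
  refine ⟨s, ?_⟩
  have hm : Mono ((pullSh h).map v) := inferInstance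
  apply injective_of_mono ((pullSh h).map v) (EtCoh.top Y)
  rw [secPull_naturality, hs, ht]

section Main

variable (h : Y ⟶ X) (p : Xb ⟶ X) (hb : Yb ⟶ Xb) (pY : Yb ⟶ Y) (w : hb ≫ p = pY ≫ h)

lemma γ_secPull (F : Sh X) (s : sect F (EtCoh.top X)) :
    γ p ((pullSh p).obj F) (secPull p F s) =
      ((adjSh p).unit.app F).hom.app (op (EtCoh.top X)) s := by
  rw [secPull_eq, Equiv.apply_symm_apply]

include w in
/-- Descent of injectivity along a surjective `p`. -/
theorem injective_of_surjective (hp : Function.Surjective p.base)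
    (H : ∀ Fb : Sh Xb, Function.Injective (secPull hb Fb)) (F : Sh X) :
    Function.Injective (secPull h F) := by
  intro s t hst
  apply unit_injective p hp F (EtCoh.top X)
  rw [← γ_secPull, ← γ_secPull]
  congr 1
  apply H
  apply (γ pY ((pullSh hb).obj ((pullSh p).obj F))).injective
  rw [← bc0_secPull h p hb pY w, ← bc0_secPull h p hb pY w, γ_secPull, γ_secPull,
    ← secPull_naturality, ← secPull_naturality]
  exact congrArg _ (congrArg _ hst)

include w in
/-- Descent of bijectivity along a surjective `p`. -/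
theorem bijective_of_surjective (hp : Function.Surjective p.base)
    (H : ∀ Fb : Sh Xb, Function.Bijective (secPull hb Fb))
    (Hm : ∀ Fb : Sh Xb, Mono (EtBC.baseChange0Sh p h pY hb w Fb)) (F : Sh X) :
    Function.Bijective (secPull h F) := by
  have hinj : ∀ F : Sh X, Function.Injective (secPull h F) :=
    injective_of_surjective h p hb pY w hp (fun Fb => (H Fb).1)
  refine ⟨hinj F, ?_⟩
  -- surjectivity for sheaves of the form `p_* Fb`
  have hA : ∀ Fb : Sh Xb, Function.Surjective (secPull h ((pushSh p).obj Fb)) := by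
    intro Fb ξ
    have := Hm Fb
    obtain ⟨s', hs'⟩ := (H Fb).2 ((γ pY ((pullSh hb).obj Fb)).symm
      ((EtBC.baseChange0Sh p h pY hb w Fb).hom.app (op (EtCoh.top Y)) ξ))
    refine ⟨γ p Fb s', ?_⟩
    apply injective_of_mono (EtBC.baseChange0Sh p h pY hb w Fb) (EtCoh.top Y)
    rw [bc0_secPull, hs', Equiv.apply_symm_apply]
  intro ξ
  have : Surjective p := ⟨hp⟩
  have : (pullSh p).Faithful := (Groth.Agent.S3047.result p).1
  have : Mono ((adjSh p).unit.app F) := inferInstance
  exact mem_range_secPull_of_mono h hinj ((adjSh p).unit.app F) ξ (hA _ _)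

include w in
/-- Ascent of injectivity to the base change. -/
theorem injective_baseChange
    (H : ∀ F : Sh X, Function.Injective (secPull h F))
    (Hm : ∀ Fb : Sh Xb, Mono (EtBC.baseChange0Sh p h pY hb w Fb)) (Fb : Sh Xb) :
    Function.Injective (secPull hb Fb) := by
  intro s t hst
  have := Hm Fb
  apply (γ p Fb).injective
  apply H
  apply injective_of_mono (EtBC.baseChange0Sh p h pY hb w Fb) (EtCoh.top Y)
  rw [bc0_secPull, bc0_secPull, hst]

lemma surjective_of_isIso {F G : Sh X} (φ : F ⟶ G) [IsIso φ] (U : X.Etale) :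
    Function.Surjective (φ.hom.app (op U)) := by
  intro y
  refine ⟨(inv φ).hom.app (op U) y, ?_⟩
  have h1 := congrArg (fun k => k.hom.app (op U)) (IsIso.inv_hom_id φ)
  exact congrArg (fun ψ => (ConcreteCategory.hom ψ) y) h1

include w in
/-- Ascent of bijectivity to the base change. -/
theorem bijective_baseChange
    (H : ∀ F : Sh X, Function.Bijective (secPull h F))
    (Hi : ∀ Fb : Sh Xb, IsIso (EtBC.baseChange0Sh p h pY hb w Fb)) (Fb : Sh Xb) :
    Function.Bijective (secPull hb Fb) := by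
  refine ⟨injective_baseChange h p hb pY w (fun F => (H F).1)
    (fun Fb => by have := Hi Fb; infer_instance) Fb, ?_⟩
  intro ξ'
  have := Hi Fb
  obtain ⟨ξ, hξ⟩ := surjective_of_isIso (EtBC.baseChange0Sh p h pY hb w Fb) (EtCoh.top Y)
    (γ pY ((pullSh hb).obj Fb) ξ')
  obtain ⟨x, hx⟩ := (H ((pushSh p).obj Fb)).2 ξ
  obtain ⟨s, rfl⟩ := (γ p Fb).surjective x
  refine ⟨s, ?_⟩
  apply (γ pY ((pullSh hb).obj Fb)).injective
  rw [← bc0_secPull h p hb pY w, hx, hξ]

end Main

end Groth.Agent.Lib.Helper22.EtLoc.SecPullBC
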