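import Groth.Agent.Lib.Helper22.EtLoc.ExcisionH
import Groth.Agent.Lib.Helper22.EtLoc.FlcExt
import Groth.Agent.Lib.Helper22.EtStalk.Pull
import Groth.Agent.Lib.Helper22.RightDerivedExact
import Groth.Agent.Lib.Helper22.DimShiftIso
/-!
# Sections with support and local cohomology sheaves under étale localisation (helper22)
-/

set_option autoImplicit false
set_option linter.unusedSectionVars false
universe u
open CategoryTheory CategoryTheory.Limits AlgebraicGeometry Opposite

namespace Groth.Agent.Lib.Helper22.EtLoc.SecSuppLoc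

open Groth.Agent.Lib.Helper22.EtStalk Groth.Agent.Lib.Helper22.EtLoc
open Groth.Agent.Lib.Helper22.EtLoc.ExcisionH Groth.Agent.Lib.Helper22.CechU Groth.Agent.Lib.Helper22

noncomputable section

section A

variable {Y V : Scheme.{u}} (k : V ⟶ Y) [IsOpenImmersion k]

/-- The unit `G ⟶ k_* k^* G` kills a section over `A` iff the section vanishes on `A ×_Y V`. -/
lemma unit_zero_iff' (G : EtCoh.Ab Y) (A : Y.Etale) (s : G.obj.obj (op A)) :
    (EtDual.unitApp k G).hom.app (op A) s = 0 ↔
      G.obj.map ((pjAdj k).counit.app A).op s = 0 := by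
  have h := Adjunction.unit_leftAdjointUniq_hom_app (EtCoh.pullPushAdj k) (resPushAdj k) G
  let m := (EtCoh.push k).map
    ((Adjunction.leftAdjointUniq (EtCoh.pullPushAdj k) (resPushAdj k)).hom.app G)
  have hm : IsIso m := inferInstance
  have hinj : Function.Injective (m.hom.app (op A)) := Site.injective_app_of_mono m _
  have h2 : ((resPushAdj k).unit.app G).hom.app (op A) s =
      m.hom.app (op A) ((EtDual.unitApp k G).hom.app (op A) s) := by
    rw [← h]
    rfl
  have h3 : ((resPushAdj k).unit.app G).hom.app (op A) s =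
      G.obj.map ((pjAdj k).counit.app A).op s := rfl
  rw [← h3, h2]
  constructor
  · intro h0
    rw [h0]
    exact map_zero _
  · intro h0
    apply hinj
    rw [h0]
    exact (map_zero _).symm

/-- Sections of `secSupp k G` are the sections of `G` killed by the unit. -/
lemma exists_secSupp_eq (G : EtCoh.Ab Y) (A : Y.Etale) (s : G.obj.obj (op A))
    (hs : (EtDual.unitApp k G).hom.app (op A) s = 0) :
    ∃ t, (kernel.ι (EtDual.unitApp k G)).hom.app (op A) t = s := by
  have hS : (ShortComplex.mk (kernel.ι (EtDual.unitApp k G)) (EtDual.unitApp k G)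
      (kernel.condition _)).Exact := ShortComplex.exact_kernel _
  exact Site.sections_exact_of_left_exact hS
    (inferInstanceAs (Mono (kernel.ι (EtDual.unitApp k G)))) A s hs

lemma unit_kernel_ι (G : EtCoh.Ab Y) (A : Y.Etale)
    (t : ((EtDual.secSupp k).obj G).obj.obj (op A)) :
    (EtDual.unitApp k G).hom.app (op A) ((kernel.ι (EtDual.unitApp k G)).hom.app (op A) t) = 0 := by
  have h : kernel.ι (EtDual.unitApp k G) ≫ EtDual.unitApp k G = 0 := kernel.condition _
  have h2 := congrArg (fun ψ => ψ.hom.app (op A)) h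
  exact congrArg (fun ψ => ψ t) (congrArg AddCommGrpCat.Hom.hom h2)

end A

section B

variable {X U W : Scheme.{u}} (j : U ⟶ X) [IsOpenImmersion j] (w : W ⟶ X) [Etale w]

/-- The base change of `j` to `W`. -/
abbrev jW : pullback j w ⟶ W := pullback.snd j w

/-- The two descriptions of `T ×_X U` as an étale `X`-scheme. -/
abbrev A₁ (T : W.Etale) : X.Etale := (pj j).obj ((EtCoh.bc j).obj ((pj w).obj T))

abbrev A₂ (T : W.Etale) : X.Etale :=
  (pj w).obj ((pj (jW j w)).obj ((EtCoh.bc (jW j w)).obj T))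

section Sch

variable {T : Scheme.{u}} (t : T ⟶ W)

lemma c1 : pullback.snd (t ≫ w) j ≫ j = (pullback.fst (t ≫ w) j ≫ t) ≫ w := by
  rw [Category.assoc]; exact pullback.condition.symm

def l1 : pullback (t ≫ w) j ⟶ pullback j w :=
  pullback.lift (pullback.snd (t ≫ w) j) (pullback.fst (t ≫ w) j ≫ t) (c1 j w t)

def l12 : pullback (t ≫ w) j ⟶ pullback t (pullback.snd j w) :=
  pullback.lift (pullback.fst (t ≫ w) j) (l1 j w t) (by rw [l1, pullback.lift_snd])

lemma l12_fst : l12 j w t ≫ pullback.fst t (pullback.snd j w) = pullback.fst (t ≫ w) j := by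
  rw [l12, pullback.lift_fst]

lemma l12_w : l12 j w t ≫ ((pullback.snd t (pullback.snd j w) ≫ pullback.snd j w) ≫ w) =
    pullback.snd (t ≫ w) j ≫ j := by
  rw [← Category.assoc, ← Category.assoc, l12, pullback.lift_snd, l1, pullback.lift_snd,
    Category.assoc]
  exact pullback.condition

lemma c2 : pullback.fst t (pullback.snd j w) ≫ (t ≫ w) =
    (pullback.snd t (pullback.snd j w) ≫ pullback.fst j w) ≫ j := by
  rw [← Category.assoc, pullback.condition, Category.assoc, Category.assoc, pullback.condition]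

def l21 : pullback t (pullback.snd j w) ⟶ pullback (t ≫ w) j :=
  pullback.lift (pullback.fst t (pullback.snd j w))
    (pullback.snd t (pullback.snd j w) ≫ pullback.fst j w) (c2 j w t)

lemma l21_fst : l21 j w t ≫ pullback.fst (t ≫ w) j = pullback.fst t (pullback.snd j w) := by
  rw [l21, pullback.lift_fst]

lemma l21_w : l21 j w t ≫ (pullback.snd (t ≫ w) j ≫ j) =
    (pullback.snd t (pullback.snd j w) ≫ pullback.snd j w) ≫ w := by
  rw [← Category.assoc, l21, pullback.lift_snd, Category.assoc, Category.assoc,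
    pullback.condition]

end Sch

def a₁₂ (T : W.Etale) : A₁ j w T ⟶ A₂ j w T :=
  MorphismProperty.Over.homMk (l12 j w T.hom) (l12_w j w T.hom) trivial

def a₂₁ (T : W.Etale) : A₂ j w T ⟶ A₁ j w T :=
  MorphismProperty.Over.homMk (l21 j w T.hom) (l21_w j w T.hom) trivial

lemma a₁₂_comp (T : W.Etale) :
    a₁₂ j w T ≫ (pj w).map ((pjAdj (jW j w)).counit.app T) =
      (pjAdj j).counit.app ((pj w).obj T) := by
  apply MorphismProperty.Over.Hom.ext
  exact l12_fst j w T.hom

lemma a₂₁_comp (T : W.Etale) :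
    a₂₁ j w T ≫ (pjAdj j).counit.app ((pj w).obj T) =
      (pj w).map ((pjAdj (jW j w)).counit.app T) := by
  apply MorphismProperty.Over.Hom.ext
  exact l21_fst j w T.hom

/-- Vanishing on `T ×_X U` computed on `X` or on `W`. -/
lemma vanish_iff (F : EtCoh.Ab X) (T : W.Etale) (s : F.obj.obj (op ((pj w).obj T))) :
    F.obj.map ((pjAdj j).counit.app ((pj w).obj T)).op s = 0 ↔
      F.obj.map ((pj w).map ((pjAdj (jW j w)).counit.app T)).op s = 0 :=
  map_zero_iff_of_maps F _ _ (a₁₂ j w T) (a₂₁ j w T) (a₁₂_comp j w T) (a₂₁_comp j w T) s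

end B

section C

variable {X U W : Scheme.{u}} (j : U ⟶ X) [IsOpenImmersion j] (w : W ⟶ X) [Etale w]

/-- `a_F : (secSupp j F)|_W ⟶ F|_W`. -/
abbrev aF (F : EtCoh.Ab X) : (res w).obj ((EtDual.secSupp j).obj F) ⟶ (res w).obj F :=
  (res w).map (kernel.ι (EtDual.unitApp j F))

lemma aF_unit (F : EtCoh.Ab X) : aF j w F ≫ EtDual.unitApp (jW j w) ((res w).obj F) = 0 := by
  apply Sheaf.hom_ext
  ext T t
  have h1 := unit_kernel_ι j F ((pj w).obj T.unop) t
  rw [unit_zero_iff', vanish_iff] at h1
  exact (unit_zero_iff' (jW j w) ((res w).obj F) T.unop _).2 h1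

/-- The comparison `(secSupp j F)|_W ⟶ secSupp j_W (F|_W)`. -/
def θhom (F : EtCoh.Ab X) :
    (res w).obj ((EtDual.secSupp j).obj F) ⟶ (EtDual.secSupp (jW j w)).obj ((res w).obj F) :=
  kernel.lift _ (aF j w F) (aF_unit j w F)

lemma θhom_ι (F : EtCoh.Ab X) :
    θhom j w F ≫ kernel.ι (EtDual.unitApp (jW j w) ((res w).obj F)) = aF j w F :=
  kernel.lift_ι _ _ _

instance (F : EtCoh.Ab X) : Mono (aF j w F) := inferInstanceAs (Mono ((res w).map _))

instance (F : EtCoh.Ab X) : Mono (θhom j w F) :=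
  mono_of_mono_fac (θhom_ι j w F)

instance (F : EtCoh.Ab X) : IsIso (θhom j w F) := by
  have hsurj : ∀ T : W.Etale, Function.Surjective ((θhom j w F).hom.app (op T)) := by
    intro T t'
    let s := (kernel.ι (EtDual.unitApp (jW j w) ((res w).obj F))).hom.app (op T) t'
    have h1 := unit_kernel_ι (jW j w) ((res w).obj F) T t'
    have h2 : (EtDual.unitApp j F).hom.app (op ((pj w).obj T)) s = 0 := by
      rw [unit_zero_iff', vanish_iff]
      exact (unit_zero_iff' (jW j w) ((res w).obj F) T _).1 h1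
    obtain ⟨t, ht⟩ := exists_secSupp_eq j F ((pj w).obj T) s h2
    refine ⟨t, ?_⟩
    apply Site.injective_app_of_mono (kernel.ι (EtDual.unitApp (jW j w) ((res w).obj F))) T
    have h3 := congrArg (fun ψ => ψ.hom.app (op T) t) (θhom_ι j w F)
    exact h3.trans ht
  have hinj : ∀ T : W.Etale, Function.Injective ((θhom j w F).hom.app (op T)) :=
    fun T => Site.injective_app_of_mono (θhom j w F) T
  have : ∀ T : (W.Etale)ᵒᵖ, IsIso ((θhom j w F).hom.app T) := by
    intro T
    exact (ConcreteCategory.isIso_iff_bijective _).2 ⟨hinj T.unop, hsurj T.unop⟩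
  have : IsIso (θhom j w F).hom := NatIso.isIso_of_isIso_app _
  exact (isIso_iff_of_reflects_iso _ (sheafToPresheaf _ _)).1 this

/-- Supported sections commute with étale restriction. -/
def θ : EtDual.secSupp j ⋙ res w ≅ res w ⋙ EtDual.secSupp (jW j w) :=
  NatIso.ofComponents (fun F => asIso (θhom j w F)) (by
    intro F G α
    apply (cancel_mono (kernel.ι (EtDual.unitApp (jW j w) ((res w).obj G)))).1
    simp only [Functor.comp_map, asIso_hom, Category.assoc]
    rw [θhom_ι]
    have h1 : (EtDual.secSupp (jW j w)).map ((res w).map α) ≫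
        kernel.ι (EtDual.unitApp (jW j w) ((res w).obj G)) =
        kernel.ι (EtDual.unitApp (jW j w) ((res w).obj F)) ≫ (res w).map α := kernel.lift_ι _ _ _
    have h2 : (EtDual.secSupp j).map α ≫ kernel.ι (EtDual.unitApp j G) =
        kernel.ι (EtDual.unitApp j F) ≫ α := kernel.lift_ι _ _ _
    rw [h1, ← Category.assoc, θhom_ι, ← Functor.map_comp, ← Functor.map_comp, h2])

end C

section D

variable {X U W : Scheme.{u}} (j : U ⟶ X) [IsOpenImmersion j] (w : W ⟶ X) [Etale w]

instance : (res w).PreservesHomology := Functor.preservesHomologyOfExact _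

/-- **Local cohomology sheaves commute with étale restriction.** -/
theorem nonempty_locCoh_res_iso (p : ℕ) (F : EtCoh.Ab X) :
    Nonempty ((res w).obj ((EtDual.locCoh j p).obj F) ≅
      (EtDual.locCoh (jW j w) p).obj ((res w).obj F)) := by
  have e1 := DimShift.rightDerivedCompExactIso (EtDual.secSupp j) (res w) p F
  obtain ⟨e2⟩ := DimShift.nonempty_rightDerived_comp_iso (res w) (EtDual.secSupp (jW j w))
    (EtDual.secSupp j ⋙ res w) (θ j w).symm (fun I hI => injective_res w I) p F
    (fun q => isZero_rightDerived_succ_of_exact _ q F)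
  exact ⟨e1.symm ≪≫ e2.symm⟩

/-- Vanishing of an abelian étale sheaf is étale local. -/
theorem isZero_of_res {G : EtCoh.Ab X}
    (h : ∀ x : X, ∃ (W : Scheme.{u}) (w : W ⟶ X) (_ : Etale w), x ∈ Set.range w ∧
      IsZero ((res w).obj G)) : IsZero G := by
  apply AC.isZero_of_stalks
  intro Ω _ _ ξ
  obtain ⟨W, w, hw, ⟨y, hy⟩, hz⟩ := h (ξ (default : Spec (CommRingCat.of Ω)))
  obtain ⟨v, -⟩ := Scheme.pointSmallEtaleFiberObjToPreimage_surjective ξ rfl
    (@Scheme.Etale.mk _ _ w hw) ⟨y, hy⟩
  have key : ∀ v' : Spec (CommRingCat.of Ω) ⟶ W, v' ≫ w = ξ → IsZero ((EtCoh.stalk ξ).obj G) := by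
    intro v' hv
    subst hv
    have e : (EtCoh.stalk (v' ≫ w)).obj G ≅ (EtCoh.stalk v').obj ((res w).obj G) :=
      ((stalkPullIso w v').app G).symm ≪≫ (EtCoh.stalk v').mapIso ((pullIsoRes w).app G)
    exact IsZero.of_iso ((EtCoh.stalk v').map_isZero hz) e
  exact key v.left (Over.w v)

end D

end

end Groth.Agent.Lib.Helper22.EtLoc.SecSuppLoc
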