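import Groth.Agent.Lib.Helper22.EtLoc.SecSuppLoc
import Groth.Prelude.Def_EtDepth
import Groth.Prelude.Def_RDer

/-!
# `secSupp j` only depends on the range of the open immersion `j` (helper22)
-/

set_option autoImplicit false
set_option linter.unusedSectionVars false
universe u
open CategoryTheory CategoryTheory.Limits AlgebraicGeometry Opposite

namespace Groth.Agent.Lib.Helper22.EtLoc.SecSuppRange

open Groth.Agent.Lib.Helper22.CechU.Etale Groth.Agent.Lib.Helper22.EtLoc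
  Groth.Agent.Lib.Helper22.EtLoc.ExcisionH Groth.Agent.Lib.Helper22.EtLoc.SecSuppLoc

noncomputable section

variable {X U₁ U₂ : Scheme.{u}} (j₁ : U₁ ⟶ X) [IsOpenImmersion j₁] (j₂ : U₂ ⟶ X)
  [IsOpenImmersion j₂] (e : U₁ ⟶ U₂) (he : e ≫ j₂ = j₁)

section Sch

variable {T : Scheme.{u}} (t : T ⟶ X)

/-- `T ×_X U₁ ⟶ T ×_X U₂`. -/
def r12 : pullback t j₁ ⟶ pullback t j₂ :=
  pullback.lift (pullback.fst t j₁) (pullback.snd t j₁ ≫ e) (by
    rw [Category.assoc, he]; exact pullback.condition)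

lemma r12_fst : r12 j₁ j₂ e he t ≫ pullback.fst t j₂ = pullback.fst t j₁ := by
  rw [r12, pullback.lift_fst]

lemma r12_w : r12 j₁ j₂ e he t ≫ (pullback.snd t j₂ ≫ j₂) = pullback.snd t j₁ ≫ j₁ := by
  rw [← Category.assoc, r12, pullback.lift_snd, Category.assoc, he]

end Sch

/-- `A ×_X U₁ ⟶ A ×_X U₂` in the small étale site of `X`. -/
def a12 (A : X.Etale) : (pj j₁).obj ((EtCoh.bc j₁).obj A) ⟶ (pj j₂).obj ((EtCoh.bc j₂).obj A) :=
  MorphismProperty.Over.homMk (r12 j₁ j₂ e he A.hom) (r12_w j₁ j₂ e he A.hom) trivial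

lemma a12_comp (A : X.Etale) :
    a12 j₁ j₂ e he A ≫ (pjAdj j₂).counit.app A = (pjAdj j₁).counit.app A := by
  apply MorphismProperty.Over.Hom.ext
  exact r12_fst j₁ j₂ e he A.hom

section Iso

variable (ε : U₁ ≅ U₂) (hε : ε.hom ≫ j₂ = j₁)

include hε in
lemma hε' : ε.inv ≫ j₁ = j₂ := by rw [← hε, Iso.inv_hom_id_assoc]

include hε in
lemma unit_zero_iff_iso (F : EtCoh.Ab X) (A : X.Etale) (s : F.obj.obj (op A)) :
    (EtDual.unitApp j₁ F).hom.app (op A) s = 0 ↔ (EtDual.unitApp j₂ F).hom.app (op A) s = 0 := by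
  rw [unit_zero_iff', unit_zero_iff']
  exact map_zero_iff_of_maps F _ _ (a12 j₁ j₂ ε.hom hε A) (a12 j₂ j₁ ε.inv (hε' j₁ j₂ ε hε) A)
    (a12_comp j₁ j₂ ε.hom hε A) (a12_comp j₂ j₁ ε.inv (hε' j₁ j₂ ε hε) A) s

include hε in
lemma ι_unit (F : EtCoh.Ab X) : kernel.ι (EtDual.unitApp j₁ F) ≫ EtDual.unitApp j₂ F = 0 := by
  apply Sheaf.hom_ext
  ext A t
  exact (unit_zero_iff_iso j₁ j₂ ε hε F A.unop _).1 (unit_kernel_ι j₁ F A.unop t)

/-- The comparison `secSupp j₁ F ⟶ secSupp j₂ F`. -/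
def hom12 (F : EtCoh.Ab X) : (EtDual.secSupp j₁).obj F ⟶ (EtDual.secSupp j₂).obj F :=
  kernel.lift _ (kernel.ι (EtDual.unitApp j₁ F)) (ι_unit j₁ j₂ ε hε F)

lemma hom12_ι (F : EtCoh.Ab X) :
    hom12 j₁ j₂ ε hε F ≫ kernel.ι (EtDual.unitApp j₂ F) = kernel.ι (EtDual.unitApp j₁ F) :=
  kernel.lift_ι _ _ _

/-- `secSupp` only depends on the range of the open immersion. -/
def secSuppIso : EtDual.secSupp j₁ ≅ EtDual.secSupp j₂ :=
  NatIso.ofComponents (fun F =>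
    { hom := hom12 j₁ j₂ ε hε F
      inv := hom12 j₂ j₁ ε.symm (hε' j₁ j₂ ε hε) F
      hom_inv_id := by
        apply (cancel_mono (kernel.ι (EtDual.unitApp j₁ F))).1
        rw [Category.assoc, hom12_ι, hom12_ι, Category.id_comp]
      inv_hom_id := by
        apply (cancel_mono (kernel.ι (EtDual.unitApp j₂ F))).1
        rw [Category.assoc, hom12_ι, hom12_ι, Category.id_comp] }) (by
    intro F G α
    apply (cancel_mono (kernel.ι (EtDual.unitApp j₂ G))).1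
    have h1 : (EtDual.secSupp j₂).map α ≫ kernel.ι (EtDual.unitApp j₂ G) =
        kernel.ι (EtDual.unitApp j₂ F) ≫ α := kernel.lift_ι _ _ _
    have h2 : (EtDual.secSupp j₁).map α ≫ kernel.ι (EtDual.unitApp j₁ G) =
        kernel.ι (EtDual.unitApp j₁ F) ≫ α := kernel.lift_ι _ _ _
    simp only [Category.assoc]
    rw [hom12_ι, h1, ← Category.assoc, hom12_ι, h2])

include hε in
lemma depthGE_of_iso [EtCoh.BCCont j₁] [EtCoh.BCCont j₂] (F : EtCoh.Ab X) (n : ℕ)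
    (h : EtDepth.DepthGE j₁ F n) : EtDepth.DepthGE j₂ F n := by
  intro p hp
  exact IsZero.of_iso (h p hp)
    ((RDer.rightDerivedIso (secSuppIso j₁ j₂ ε hε) p).app F).symm

end Iso

/-- Depth along an open immersion only depends on its range. -/
lemma depthGE_of_range_eq [EtCoh.BCCont j₁] [EtCoh.BCCont j₂]
    (hr : Set.range j₁ = Set.range j₂) (F : EtCoh.Ab X) (n : ℕ)
    (h : EtDepth.DepthGE j₁ F n) : EtDepth.DepthGE j₂ F n :=
  depthGE_of_iso j₁ j₂ (IsOpenImmersion.isoOfRangeEq j₁ j₂ hr)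
    (IsOpenImmersion.isoOfRangeEq_hom_fac j₁ j₂ hr) F n h

end

end Groth.Agent.Lib.Helper22.EtLoc.SecSuppRange
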