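import Groth.Agent.Lib.Helper22.EtLoc.Transfer

/-!
# Sections of a scheme over a field are determined by their image point
-/

set_option autoImplicit false
set_option linter.unusedSectionVars false
universe u
open CategoryTheory CategoryTheory.Limits AlgebraicGeometry Opposite

namespace Groth.Agent.Lib.Helper22.EtLoc

open Groth.Agent.Lib.Helper22.EtStalk

noncomputable section

variable {Ω : Type u} [Field Ω]

set_option backward.isDefEq.respectTransparency.types false in
/-- Two sections of a scheme over a field through the same point are equal. -/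
lemma section_ext_of_apply_eq {P : Scheme.{u}} (π : P ⟶ Spec (CommRingCat.of Ω))
    (l₁ l₂ : Spec (CommRingCat.of Ω) ⟶ P) (h₁ : l₁ ≫ π = 𝟙 _) (h₂ : l₂ ≫ π = 𝟙 _)
    (hpt : l₁ (IsLocalRing.closedPoint Ω) = l₂ (IsLocalRing.closedPoint Ω)) : l₁ = l₂ := by
  obtain ⟨⟨z₁, a₁⟩, rfl⟩ := (Scheme.SpecToEquivOfField Ω P).symm.surjective l₁
  obtain ⟨⟨z₂, a₂⟩, rfl⟩ := (Scheme.SpecToEquivOfField Ω P).symm.surjective l₂
  have hz : z₁ = z₂ := by
    simpa [Scheme.SpecToEquivOfField] using hpt
  subst hz
  simp only [Scheme.SpecToEquivOfField_symm_apply] at h₁ h₂ ⊢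
  suffices h : a₁ = a₂ by rw [h]
  let r := π.residueFieldMap z₁
  let ι' := (Spec (CommRingCat.of Ω)).fromSpecResidueField (π z₁)
  have e : P.fromSpecResidueField z₁ ≫ π = Spec.map r ≫ ι' :=
    (Scheme.Hom.SpecMap_residueFieldMap_fromSpecResidueField π z₁).symm
  have k₁ : Spec.map (r ≫ a₁) ≫ ι' = 𝟙 _ := by
    rw [Spec.map_comp, Category.assoc, ← e, ← h₁, Category.assoc]
  have k₂ : Spec.map (r ≫ a₂) ≫ ι' = 𝟙 _ := by
    rw [Spec.map_comp, Category.assoc, ← e, ← h₂, Category.assoc]
  have hmono : Mono ι' := inferInstance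
  have hb : r ≫ a₁ = r ≫ a₂ := by
    apply Spec.map_injective
    rw [← cancel_mono ι', k₁, k₂]
  -- `r ≫ a₁` is surjective
  obtain ⟨c, hc⟩ := Spec.map_surjective ι'
  have hcb : c ≫ (r ≫ a₁) = 𝟙 _ := by
    apply Spec.map_injective
    rw [Spec.map_comp, hc, k₁, Spec.map_id]
  have hr : Function.Surjective r.hom := by
    intro y
    refine ⟨c.hom (a₁.hom y), ?_⟩
    have h3 := congrArg (fun φ : CommRingCat.of Ω ⟶ CommRingCat.of Ω => φ.hom (a₁.hom y)) hcb
    apply a₁.hom.injective
    exact h3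
  ext y
  obtain ⟨x, rfl⟩ := hr y
  exact congrArg (fun φ => φ.hom x) hb

variable [IsSepClosed Ω] {X' X : Scheme.{u}} (f : X' ⟶ X) [Etale f]
  (ξ : Spec (CommRingCat.of Ω) ⟶ X)

/-- The section of the geometric fibre attached to a lift. -/
def liftSection (u : Lifts f ξ) : Spec (CommRingCat.of Ω) ⟶ pullback f ξ :=
  pullback.lift u.1 (𝟙 _) (by rw [u.2, Category.id_comp])

set_option backward.isDefEq.respectTransparency.types false in
lemma liftPoint_bijective :
    Function.Bijective (fun u : Lifts f ξ => (liftSection f ξ u) (IsLocalRing.closedPoint Ω)) := by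
  constructor
  · intro u u' h
    have e := section_ext_of_apply_eq (pullback.snd f ξ) (liftSection f ξ u) (liftSection f ξ u')
      (pullback.lift_snd _ _ _) (pullback.lift_snd _ _ _) h
    apply Subtype.ext
    have h1 : liftSection f ξ u ≫ pullback.fst f ξ = u.1 := pullback.lift_fst _ _ _
    have h2 : liftSection f ξ u' ≫ pullback.fst f ξ = u'.1 := pullback.lift_fst _ _ _
    rw [← h1, ← h2, e]
  · intro z
    obtain ⟨l, hl, hlz⟩ := Scheme.exists_fac_of_etale_of_isSepClosed (pullback.snd f ξ)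
      (𝟙 (Spec (CommRingCat.of Ω))) z (Subsingleton.elim _ _)
    refine ⟨⟨l ≫ pullback.fst f ξ, by rw [Category.assoc, pullback.condition, reassoc_of% hl]⟩, ?_⟩
    have e : liftSection f ξ ⟨l ≫ pullback.fst f ξ, by
        rw [Category.assoc, pullback.condition, reassoc_of% hl]⟩ = l := by
      apply pullback.hom_ext
      · exact pullback.lift_fst _ _ _
      · exact (pullback.lift_snd _ _ _).trans hl.symm
    change (liftSection f ξ _) (IsLocalRing.closedPoint Ω) = z
    rw [e, ← hlz]
    congr 1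
    exact Subsingleton.elim _ _

lemma card_lifts_eq_card_fibre : Nat.card (Lifts f ξ) = Nat.card ↥(pullback f ξ) :=
  Nat.card_congr (Equiv.ofBijective _ (liftPoint_bijective f ξ))

end

end Groth.Agent.Lib.Helper22.EtLoc
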