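import Groth.Agent.Lib.Helper22.EtLoc.TripleSupp
import Groth.Agent.Lib.Helper22.DeltaMV

/-!
# Local cohomology groups and restriction to the open complement (helper22)

For an open immersion `k : V ⟶ Y` and an abelian sheaf `G` on `Y`: `H^p_Z(Y, G) = 0` for `p < n`
iff the restriction maps `H^p(Y, G) ⟶ H^p(V, k^* G)` (the prelude's `EtCore.Hpull`) are bijective
for `p + 1 < n` and injective for `p + 1 = n`.
-/

set_option autoImplicit false
set_option linter.unusedSectionVars false
universe u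
open CategoryTheory CategoryTheory.Limits AlgebraicGeometry Opposite Abelian

namespace Groth.Agent.Lib.Helper22.EtLoc.SuppLES

open Groth.Agent.Lib.Helper22.CechU.Etale Groth.Agent.Lib.Helper22.CechU
  Groth.Agent.Lib.Helper22.EtLoc Groth.Agent.Lib.Helper22.EtLoc.ExcisionH
  Groth.Agent.Lib.Helper22.EdgeIso Groth.Agent.Lib.Helper22.CechEdge
  Groth.Agent.Lib.Helper22.DeltaMV

noncomputable section

variable {Y V : Scheme.{u}} (k : V ⟶ Y) [IsOpenImmersion k]

/-- `V`, as `(pj k) (top V)`, mapping to the terminal object. -/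
abbrev tV : (pj k).obj (EtCoh.top V) ⟶ EtCoh.top Y := toTop _

instance mono_tV : Mono (tV k) := by
  have hl : (tV k).left = k := (toTop_left _).trans (Category.id_comp k)
  have hk : Mono k := inferInstance
  have : Mono (tV k).left := by rw [hl]; exact hk
  constructor
  intro Z a b hab
  exact MorphismProperty.Over.Hom.ext
    ((cancel_mono (tV k).left).1 (congrArg (fun φ => φ.left) hab))

lemma map_tV_zero_iff (F : EtCoh.Ab Y) (s : F.obj.obj (op (EtCoh.top Y))) :
    F.obj.map (tV k).op s = 0 ↔ F.obj.map (toTop (mkO k)).op s = 0 :=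
  map_zero_iff_of_iso F (pjTopIso (mkO k)) s

/-- Components of the first map `Γ_Z(Y, F) ⟶ H⁰(Y, F)`. -/
def αapp (F : EtCoh.Ab Y) : (EtDual.gammaSupp k).obj F ⟶ ((TX Y).F 0).obj F :=
  ιK k F ≫ AddCommGrpCat.ofHom (Sheaf.H.equiv₀ F (EtCore.topIsTerminal Y)).symm.toAddMonoidHom

lemma equiv₀_αapp (F : EtCoh.Ab Y) (a : (EtDual.gammaSupp k).obj F) :
    Sheaf.H.equiv₀ F (EtCore.topIsTerminal Y) (αapp k F a) = ιK k F a :=
  AddEquiv.apply_symm_apply _ _

/-- The first map. -/
def α : EtDual.gammaSupp k ⟶ (TX Y).F 0 where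
  app F := αapp k F
  naturality F G a := by
    ext t
    apply (Sheaf.H.equiv₀ G (EtCore.topIsTerminal Y)).injective
    change Sheaf.H.equiv₀ G _ (αapp k G ((EtDual.gammaSupp k).map a t)) =
      Sheaf.H.equiv₀ G _ (Sheaf.H.map a 0 (αapp k F t))
    rw [equiv₀_αapp, ← Sheaf.H.equiv₀_naturality, equiv₀_αapp, ιK_naturality_apply]

/-- The second map: pull-back in degree zero. -/
abbrev β : (TX Y).F 0 ⟶ (TD k).F 0 := (HpullHom k).app 0

lemma σH_β (F : EtCoh.Ab Y) (x : ((TX Y).F 0).obj F) :
    σH k F ((β k).app F x) =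
      F.obj.map (tV k).op (Sheaf.H.equiv₀ F (EtCore.topIsTerminal Y) x) :=
  σH_Hpull k F (tV k) x

lemma w : α k ≫ β k = 0 := by
  ext F a
  apply (σH k F).injective
  change σH k F ((β k).app F (αapp k F a)) = σH k F 0
  rw [σH_β, equiv₀_αapp, (map_tV_zero_iff k F _).2 (map_ιK k F a), map_zero]

lemma hex (I : EtCoh.Ab Y) (hI : Injective I) :
    (ShortComplex.mk ((α k).app I) ((β k).app I) (KerSeq.w_app _ _ (w k) I)).ShortExact := by
  have hm : Mono ((α k).app I) := by
    rw [AddCommGrpCat.mono_iff_injective]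
    intro a b hab
    apply ιK_injective k I
    rw [← equiv₀_αapp k I a, ← equiv₀_αapp k I b]
    exact congrArg _ hab
  have he : Epi ((β k).app I) := by
    rw [AddCommGrpCat.epi_iff_surjective]
    intro y
    obtain ⟨s, hs⟩ := surjective_res_of_injective I (tV k) (σH k I y)
    refine ⟨(Sheaf.H.equiv₀ I (EtCore.topIsTerminal Y)).symm s, ?_⟩
    apply (σH k I).injective
    rw [σH_β, AddEquiv.apply_symm_apply]
    exact hs
  refine ShortComplex.ShortExact.mk' ?_ hm he
  rw [ShortComplex.ab_exact_iff]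
  intro x hx
  have h0 : I.obj.map (tV k).op (Sheaf.H.equiv₀ I (EtCore.topIsTerminal Y) x) = 0 := by
    rw [← σH_β, show (β k).app I x = 0 from hx]
    exact map_zero _
  obtain ⟨a, ha⟩ := exists_ιK_eq k I _ ((map_tV_zero_iff k I _).1 h0)
  refine ⟨a, ?_⟩
  apply (Sheaf.H.equiv₀ I (EtCore.topIsTerminal Y)).injective
  exact (equiv₀_αapp k I a).trans ha

/-- The pull-back map in degree `p` is conjugate to the derived map of its degree-zero part. -/
lemma Hpull_conj (G : EtCoh.Ab Y) (p : ℕ) :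
    ((HpullHom k).app p).app G =
      (θiso (TX Y) (TX_isEffaceable Y) (TX_zeroMono Y) p G).symm.hom ≫
        (NatTrans.rightDerived (β k) p).app G ≫
          (θiso (TD k) (TD_isEffaceable k) (TD_zeroMono k) p G).hom := by
  have h := θ_naturality_app (TX_isEffaceable Y) (TX_zeroMono Y) (TD_isEffaceable k)
    (TD_zeroMono k) (HpullHom k) p G
  rw [Iso.symm_hom, Iso.eq_inv_comp]
  exact h

/-- `H^p_Z(Y, G) = 0` for `p < n` iff `H^p(Y, G) ⟶ H^p(V, G)` is bijective for `p + 1 < n` and
injective for `p + 1 = n`. -/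
theorem isZero_HY_iff (G : EtCoh.Ab Y) (n : ℕ) :
    (∀ p, p < n → IsZero ((EtDual.HY k p).obj G)) ↔
      (∀ p, p + 1 < n → Function.Bijective (EtCore.Hpull k G p)) ∧
        (∀ p, p + 1 = n → Function.Injective (EtCore.Hpull k G p)) := by
  have h := isZero_rightDerived_iff (α k) (β k) (w k) (hex k) G n
  have hi : ∀ p, IsIso ((NatTrans.rightDerived (β k) p).app G) ↔
      Function.Bijective (EtCore.Hpull k G p) := fun p => by
    rw [← isIso_conj_iff (θiso (TX Y) (TX_isEffaceable Y) (TX_zeroMono Y) p G).symm _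
      (θiso (TD k) (TD_isEffaceable k) (TD_zeroMono k) p G), ← Hpull_conj,
      ConcreteCategory.isIso_iff_bijective]
    rfl
  have hm : ∀ p, Mono ((NatTrans.rightDerived (β k) p).app G) ↔
      Function.Injective (EtCore.Hpull k G p) := fun p => by
    rw [← mono_conj_iff (θiso (TX Y) (TX_isEffaceable Y) (TX_zeroMono Y) p G).symm _
      (θiso (TD k) (TD_isEffaceable k) (TD_zeroMono k) p G), ← Hpull_conj,
      AddCommGrpCat.mono_iff_injective]
    rfl
  simp only [hi, hm] at h
  exact h

end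

end Groth.Agent.Lib.Helper22.EtLoc.SuppLES
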