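import Groth.Agent.Lib.Helper22.EtStalk.TraceZ
import Groth.Agent.Lib.Helper22.EtLoc.HpullComp

/-!
# The transfer argument for finite étale morphisms: `res α = 0 ⇒ d • α = 0`
-/

set_option autoImplicit false
set_option linter.unusedSectionVars false
universe u
open CategoryTheory CategoryTheory.Limits AlgebraicGeometry Opposite Abelian

namespace Groth.Agent.Lib.Helper22.EtLoc

open Groth.Agent.Lib.Helper22.CechEdge Groth.Agent.Lib.Helper22.EtStalk
  Groth.Agent.Lib.Helper22.EtLoc.ExcisionH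

noncomputable section

variable {U X : Scheme.{u}} (j : U ⟶ X) [PreservesFiniteLimits (EtCoh.pull j)]
  {A' : EtCoh.Ab U} {B : EtCoh.Ab X} (a : A' ⟶ (EtCoh.pull j).obj B)

/-- Pull back an `Ext` class along `j` and precompose with `a`. -/
def pullExt (F : EtCoh.Ab X) (n : ℕ) : Ext B F n →+ Ext A' ((EtCoh.pull j).obj F) n :=
  AddMonoidHom.comp
    (AddMonoidHom.mk' (fun e => (Ext.mk₀ a).comp e (zero_add n)) (fun _ _ => Ext.comp_add _ _ _ _))
    ((EtCoh.pull j).mapExtAddHom _ _ n)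

lemma pullExt_apply (F : EtCoh.Ab X) (n : ℕ) (x : Ext B F n) :
    pullExt j a F n x = (Ext.mk₀ a).comp (x.mapExactFunctor (EtCoh.pull j)) (zero_add n) := rfl

lemma Hpull_eq_pullExt (F : EtCoh.Ab X) (n : ℕ) (x : EtCoh.H X F n) :
    EtCore.Hpull j F n x = pullExt j (EtCore.pullConst j ℤ).inv F n x := rfl

lemma pullExt_naturality {F F' : EtCoh.Ab X} (ψ : F ⟶ F') (n : ℕ) (x : Ext B F n) :
    pullExt j a F' n (x.comp (Ext.mk₀ ψ) (add_zero n)) =
      (pullExt j a F n x).comp (Ext.mk₀ ((EtCoh.pull j).map ψ)) (add_zero n) := by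
  rw [pullExt_apply, pullExt_apply, Ext.mapExactFunctor_comp, Ext.mapExactFunctor_mk₀,
    Ext.comp_assoc_of_third_deg_zero]

lemma pullExt_δ (S : ShortComplex (EtCoh.Ab X)) (hS : S.ShortExact) (n₀ n₁ : ℕ) (h : n₀ + 1 = n₁)
    (x : Ext B S.X₃ n₀) :
    pullExt j a S.X₁ n₁ (x.comp hS.extClass h) =
      (pullExt j a S.X₃ n₀ x).comp (hS.map_of_exact (EtCoh.pull j)).extClass h := by
  rw [pullExt_apply, pullExt_apply, Ext.mapExactFunctor_comp,
    Ext.mapExactFunctor_extClass (EtCoh.pull j) hS]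
  exact (Ext.comp_assoc _ _ _ (zero_add n₀) h (by omega)).symm

/-- `pullExt` as a morphism of δ-functors. -/
def pullExtHom : extDelta (𝟭 (EtCoh.Ab X)) B ⟶ extDelta (EtCoh.pull j) A' where
  app n :=
    { app := fun F => AddCommGrpCat.ofHom (pullExt j a F n)
      naturality := fun F F' ψ => by
        ext x
        exact pullExt_naturality j a ψ n x }
  comm S hS n₀ n₁ h := by
    ext x
    exact pullExt_δ j a S hS n₀ n₁ h x

lemma pullExt_precomp {B' : EtCoh.Ab X} (b : B' ⟶ B) (a' : A' ⟶ (EtCoh.pull j).obj B')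
    (F : EtCoh.Ab X) (n : ℕ) (x : Ext B F n) :
    pullExt j a' F n ((Ext.mk₀ b).comp x (zero_add n)) =
      pullExt j (a' ≫ (EtCoh.pull j).map b) F n x := by
  rw [pullExt_apply, pullExt_apply, Ext.mapExactFunctor_comp, Ext.mapExactFunctor_mk₀,
    ← Ext.mk₀_comp_mk₀, Ext.comp_assoc_of_second_deg_zero]

section Adj

variable {U X : Scheme.{u}} (j : U ⟶ X) [Etale j] [EtShriek.JCont j]
  [PreservesFiniteLimits (EtCoh.pull j)] (A' : EtCoh.Ab U)

lemma injective_pull (I : EtCoh.Ab X) (hI : Injective I) : Injective ((EtCoh.pull j).obj I) :=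
  Injective.of_iso ((pullIsoRes j).app I).symm (injective_res j I)

lemma pullExt_unit_zero (F : EtCoh.Ab X) (φ : (EtShriek.extZero j).obj A' ⟶ F) :
    pullExt j ((shriekPullAdj j).unit.app A') F 0 (Ext.mk₀ φ) =
      Ext.mk₀ ((shriekPullAdj j).homEquiv _ _ φ) := by
  rw [pullExt_apply, Ext.mapExactFunctor_mk₀, Ext.mk₀_comp_mk₀, Adjunction.homEquiv_unit]

lemma pullExt_unit_zero_bijective (F : EtCoh.Ab X) :
    Function.Bijective (pullExt j ((shriekPullAdj j).unit.app A') F 0) := by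
  have h : ⇑(pullExt j ((shriekPullAdj j).unit.app A') F 0) =
      (Ext.mk₀ ∘ (shriekPullAdj j).homEquiv _ _) ∘ Ext.homEquiv₀ := by
    funext x
    obtain ⟨φ, rfl⟩ := (Ext.mk₀_bijective _ _).2 x
    rw [pullExt_unit_zero]
    simp only [Function.comp_apply]
    congr 2
    exact (Ext.homEquiv₀.apply_symm_apply φ).symm
  rw [h]
  exact ((Ext.mk₀_bijective _ _).comp (Equiv.bijective _)).comp (Equiv.bijective _)

instance isIso_pullExtHom_zero :
    IsIso ((pullExtHom j ((shriekPullAdj j).unit.app A')).app 0) := by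
  have : ∀ F, IsIso (((pullExtHom j ((shriekPullAdj j).unit.app A')).app 0).app F) := by
    intro F
    rw [ConcreteCategory.isIso_iff_bijective]
    exact pullExt_unit_zero_bijective j A' F
  exact NatIso.isIso_of_isIso_app _

/-- The adjunction isomorphism `Ext^n(j_! A', F) ≅ Ext^n(A', j^* F)`. -/
theorem pullExt_unit_bijective (F : EtCoh.Ab X) (n : ℕ) :
    Function.Bijective (pullExt j ((shriekPullAdj j).unit.app A') F n) := by
  have h1 : (extDelta (𝟭 (EtCoh.Ab X)) ((EtShriek.extZero j).obj A')).IsUniversal :=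
    extDelta_isUniversal _ _ (fun _ h => h)
  have h2 : (extDelta (EtCoh.pull j) A').IsUniversal :=
    extDelta_isUniversal _ _ (fun I hI => injective_pull j I hI)
  have h3 := isIso_app_of_isUniversal h1 h2 (pullExtHom j ((shriekPullAdj j).unit.app A')) n
  have h4 : IsIso (((pullExtHom j ((shriekPullAdj j).unit.app A')).app n).app F) := inferInstance
  exact (ConcreteCategory.isIso_iff_bijective _).1 h4

end Adj

section Transfer

variable {U X : Scheme.{u}} (j : U ⟶ X) [Etale j] [PreservesFiniteLimits (EtCoh.pull j)]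

/-- Precomposition with `mk₀ φ` as an additive map in `φ`. -/
def precompHom {B B' : EtCoh.Ab X} (F : EtCoh.Ab X) (n : ℕ) (x : Ext B F n) :
    (B' ⟶ B) →+ Ext B' F n :=
  AddMonoidHom.mk' (fun φ => (Ext.mk₀ φ).comp x (zero_add n))
    (fun φ ψ => by rw [Ext.mk₀_add, Ext.add_comp])

lemma mk₀_nsmul_comp {B : EtCoh.Ab X} (F : EtCoh.Ab X) (n : ℕ) (x : Ext B F n) (d : ℕ) :
    (Ext.mk₀ (d • 𝟙 B)).comp x (zero_add n) = d • x := by
  have h := map_nsmul (precompHom (B' := B) F n x) d (𝟙 B)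
  refine h.trans ?_
  congr 1
  exact Ext.mk₀_id_comp x

/-- If the trace map `j_! ℤ_U → ℤ_X` has a section up to multiplication by `d`, then a cohomology
class which dies on `U` is killed by `d`. -/
theorem nsmul_eq_zero_of_tau [EtShriek.JCont j] (d : ℕ) (τ : EtCoh.const X ℤ ⟶ jZ j)
    (hτ : τ ≫ εZ j = d • 𝟙 (EtCoh.const X ℤ)) (F : EtCoh.Ab X) (n : ℕ) (α : EtCoh.H X F n)
    (hα : EtCore.Hpull j F n α = 0) : d • α = 0 := by
  have h1 : pullExt j ((shriekPullAdj j).unit.app (EtCoh.const U ℤ)) F n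
      ((Ext.mk₀ (εZ j)).comp α (zero_add n)) = 0 := by
    have e : (shriekPullAdj j).unit.app (EtCoh.const U ℤ) ≫ (EtCoh.pull j).map (εZ j) =
        (EtCore.pullConst j ℤ).inv :=
      ((shriekPullAdj j).homEquiv_unit ..).symm.trans (shriekPullAdj_homEquiv_εZ j)
    rw [pullExt_precomp, e, ← Hpull_eq_pullExt, hα]
  have h2 : (Ext.mk₀ (εZ j)).comp α (zero_add n) = 0 := by
    apply (pullExt_unit_bijective j (EtCoh.const U ℤ) F n).1
    rw [h1, map_zero]
  have h3 : d • α = (Ext.mk₀ (d • 𝟙 (EtCoh.const X ℤ))).comp α (zero_add n) :=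
    (mk₀_nsmul_comp F n α d).symm
  change d • (α : Ext (EtCoh.const X ℤ) F n) = 0
  rw [h3, ← hτ, ← Ext.mk₀_comp_mk₀, Ext.comp_assoc_of_second_deg_zero, h2, Ext.comp_zero]

/-- **Transfer**: for a finite étale morphism `j : U ⟶ X` of constant degree `d`, a cohomology
class on `X` which dies on `U` is killed by `d`. -/
theorem nsmul_eq_zero_of_Hpull_eq_zero [IsFinite j] (d : ℕ)
    (hd : ∀ (Ω : Type u) [Field Ω] [IsSepClosed Ω] (ξ : Spec (CommRingCat.of Ω) ⟶ X),
      Nat.card (Lifts j ξ) = d)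
    (F : EtCoh.Ab X) (n : ℕ) (α : EtCoh.H X F n) (hα : EtCore.Hpull j F n α = 0) :
    d • α = 0 := by
  obtain ⟨τ, hτ⟩ := exists_tau j d hd
  exact nsmul_eq_zero_of_tau j d τ hτ F n α hα

end Transfer

end

end Groth.Agent.Lib.Helper22.EtLoc
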