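import Groth.Agent.Lib.Helper22.EtLoc.Transfer
import Mathlib.FieldTheory.PrimitiveElement
import Mathlib.RingTheory.Etale.Field

/-!
# Transfer for finite separable field extensions
-/

set_option autoImplicit false
set_option linter.unusedSectionVars false
universe u
open CategoryTheory CategoryTheory.Limits AlgebraicGeometry Opposite Abelian

namespace Groth.Agent.Lib.Helper22.EtLoc

open Groth.Agent.Lib.Helper22.EtStalk

noncomputable section

variable (K L : Type u) [Field K] [Field L] [Algebra K L]

/-- `Spec L ⟶ Spec K`. -/
abbrev specMapField : Spec (CommRingCat.of L) ⟶ Spec (CommRingCat.of K) :=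
  Spec.map (CommRingCat.ofHom (algebraMap K L))

variable [FiniteDimensional K L]

instance isFinite_specMapField : IsFinite (specMapField K L) := by
  rw [IsFinite.SpecMap_iff]
  exact RingHom.finite_algebraMap.2 inferInstance

variable [Algebra.IsSeparable K L]

instance etale_specMapField : Etale (specMapField K L) := by
  rw [HasRingHomProperty.Spec_iff (P := @Etale)]
  change (algebraMap K L).Etale
  rw [RingHom.etale_algebraMap]
  have : Algebra.FormallyEtale K L := Algebra.FormallyEtale.of_isSeparable K L
  have : Algebra.FinitePresentation K L :=
    Algebra.FinitePresentation.of_finiteType.1 inferInstance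
  exact ⟨inferInstance, inferInstance⟩

section Card

variable {K L} {Ω : Type u} [Field Ω] [IsSepClosed Ω]
  (ξ : Spec (CommRingCat.of Ω) ⟶ Spec (CommRingCat.of K))

/-- The lifts of a geometric point of `Spec K` to `Spec L` are the `K`-embeddings of `L`. -/
def liftsEquiv :
    letI : Algebra K Ω := (Spec.preimage ξ).hom.toAlgebra
    Lifts (specMapField K L) ξ ≃ (L →ₐ[K] Ω) :=
  letI : Algebra K Ω := (Spec.preimage ξ).hom.toAlgebra
  { toFun := fun u =>
      { toRingHom := (Spec.preimage u.1).hom
        commutes' := fun r => by
          have h : Spec.map (CommRingCat.ofHom (algebraMap K L) ≫ Spec.preimage u.1) =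
              Spec.map (Spec.preimage ξ) := by
            rw [Spec.map_comp, Spec.map_preimage, Spec.map_preimage]
            exact u.2
          have h2 := Spec.map_injective h
          exact congrArg (fun φ : CommRingCat.of K ⟶ CommRingCat.of Ω => φ.hom r) h2 }
    invFun := fun φ => ⟨Spec.map (CommRingCat.ofHom φ.toRingHom), by
      rw [← Spec.map_comp]
      refine Eq.trans ?_ (Spec.map_preimage ξ)
      congr 1
      ext r
      exact φ.commutes r⟩
    left_inv := fun u => by
      apply Subtype.ext
      exact Spec.map_preimage u.1
    right_inv := fun φ => by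
      ext x
      change (Spec.preimage (Spec.map (CommRingCat.ofHom φ.toRingHom))).hom x = φ x
      rw [Spec.preimage_map]
      rfl }

lemma card_lifts_field : Nat.card (Lifts (specMapField K L) ξ) = Module.finrank K L := by
  let _ : Algebra K Ω := (Spec.preimage ξ).hom.toAlgebra
  rw [Nat.card_congr (liftsEquiv ξ)]
  apply AlgHom.natCard_of_splits
  intro x
  exact IsSepClosed.splits_codomain _ (Algebra.IsSeparable.isSeparable K x)

end Card

/-- Transfer for a finite separable field extension. -/
theorem field_transfer [PreservesFiniteLimits (EtCoh.pull (specMapField K L))]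
    (F : EtCoh.Ab (Spec (CommRingCat.of K))) (i : ℕ)
    (α : EtCoh.H (Spec (CommRingCat.of K)) F i)
    (hα : EtCore.Hpull (specMapField K L) F i α = 0) : Module.finrank K L • α = 0 :=
  nsmul_eq_zero_of_Hpull_eq_zero (specMapField K L) _ (fun _ _ _ ξ => card_lifts_field ξ) F i α hα

end

end Groth.Agent.Lib.Helper22.EtLoc
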