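import Groth.Agent.Lib.Helper22.EtLoc.ExcisionH
import Groth.Agent.Lib.Helper22.EdgeIso.Vanish
import Groth.Agent.Lib.Helper22.EdgeIso.SecSuppAcyclic

/-!
# The long exact sequence of cohomology with supports for `Z ⊆ Y ⊆ X` (helper22)

For open immersions `j : U ⟶ X`, `k' : X' ⟶ X`, `j' : U ⟶ X'` with `j' ≫ k' = j`:
`0 → Γ_Z(X, I) → Γ_Y(X, I) → Γ_{Y ∩ X'}(X', I|X') → 0` is exact for injective `I`.
-/

set_option autoImplicit false
set_option linter.unusedSectionVars false
universe u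
open CategoryTheory CategoryTheory.Limits AlgebraicGeometry Opposite

namespace Groth.Agent.Lib.Helper22.EtLoc.TripleSupp

open Groth.Agent.Lib.Helper22.CechU.Etale Groth.Agent.Lib.Helper22.EtLoc.Clopen
  Groth.Agent.Lib.Helper22.EtLoc.Excision Groth.Agent.Lib.Helper22.CechU
  Groth.Agent.Lib.Helper22.EtLoc Groth.Agent.Lib.Helper22.EtLoc.ExcisionH
  Groth.Agent.Lib.Helper22.EdgeIso

noncomputable section

variable {X X' U : Scheme.{u}} (j : U ⟶ X) [IsOpenImmersion j] (k' : X' ⟶ X) [IsOpenImmersion k']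
  (j' : U ⟶ X') [IsOpenImmersion j'] (hfac : j' ≫ k' = j)

include hfac in
lemma hU' : Set.range j'.base = k'.base ⁻¹' Set.range j.base := by
  ext x'
  constructor
  · rintro ⟨u, rfl⟩
    refine ⟨u, ?_⟩
    rw [← hfac]
    rfl
  · rintro ⟨u, hu⟩
    refine ⟨u, ?_⟩
    apply k'.isOpenEmbedding.injective
    rw [← hu, ← hfac]
    rfl

/-- `U → X'` as a morphism `mkO j ⟶ E' k'` of the small étale site of `X`. -/
def uE : mkO j ⟶ E' k' :=
  MorphismProperty.Over.homMk j' (by
    change j' ≫ 𝟙 X' ≫ k' = j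
    rw [Category.id_comp, hfac]) trivial

/-- `U → X'` as a morphism `mkO j ⟶ mkO k'`. -/
def uK : mkO j ⟶ mkO k' :=
  MorphismProperty.Over.homMk j' hfac trivial

/-- `mkO k' ≅ E' k'`. -/
def kE : mkO k' ≅ E' k' :=
  MorphismProperty.Over.isoMk (Iso.refl _) (by
    change 𝟙 X' ≫ 𝟙 X' ≫ k' = k'
    rw [Category.id_comp, Category.id_comp])

instance mono_φE : Mono (φE k') := by
  constructor
  intro Z a b hab
  exact MorphismProperty.Over.Hom.ext
    ((cancel_mono k').1 (congrArg (fun φ => φ.left) hab))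

/-- The second map: restriction to `X'`. -/
def β : EtDual.gammaSupp j ⟶ res k' ⋙ EtDual.gammaSupp j' where
  app F := θ k' j j' (hU' j k' j' hfac) F
  naturality _ _ a := θ_naturality k' j j' (hU' j k' j' hfac) a

include hfac in
lemma hα (F : EtCoh.Ab X) (a : (EtDual.gammaSupp k').obj F) :
    ∃ a', ιK j F a' = (𝟙 (F.obj.obj (op (EtCoh.top X)))) (ιK k' F a) := by
  refine exists_ιK_eq j F _ ?_
  have h1 : toTop (mkO j) = uK j k' j' hfac ≫ toTop (mkO k') := (toTop_comp _).symm
  change F.obj.map (toTop (mkO j)).op (ιK k' F a) = 0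
  rw [h1, map_comp_apply, map_ιK, map_zero]

/-- Components of the first map. -/
def αapp (F : EtCoh.Ab X) : (EtDual.gammaSupp k').obj F ⟶ (EtDual.gammaSupp j).obj F :=
  liftHom (ιK k' F) (ιK j F) (ιK_injective j F) (𝟙 _) (hα j k' j' hfac F)

lemma αapp_apply (F : EtCoh.Ab X) (a : (EtDual.gammaSupp k').obj F) :
    ιK j F (αapp j k' j' hfac F a) = ιK k' F a :=
  liftHom_apply (ιK k' F) (ιK j F) (ιK_injective j F) (𝟙 _) (hα j k' j' hfac F) a

/-- The first map: the inclusion `Γ_Z ⊆ Γ_Y`. -/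
def α : EtDual.gammaSupp k' ⟶ EtDual.gammaSupp j where
  app F := αapp j k' j' hfac F
  naturality F G a := by
    ext t
    apply ιK_injective j G
    change ιK j G (αapp j k' j' hfac G ((EtDual.gammaSupp k').map a t)) =
      ιK j G ((EtDual.gammaSupp j).map a (αapp j k' j' hfac F t))
    rw [αapp_apply, ιK_naturality_apply k' a t, ιK_naturality_apply j a, αapp_apply]

lemma α_apply (F : EtCoh.Ab X) (a : (EtDual.gammaSupp k').obj F) :
    ιK j F ((α j k' j' hfac).app F a) = ιK k' F a :=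
  αapp_apply j k' j' hfac F a

lemma β_apply (F : EtCoh.Ab X) (t : (EtDual.gammaSupp j).obj F) :
    ιK j' ((res k').obj F) ((β j k' j' hfac).app F t) = F.obj.map (φE k').op (ιK j F t) :=
  θ_apply k' j j' (hU' j k' j' hfac) F t

lemma map_φE_ιK (F : EtCoh.Ab X) (a : (EtDual.gammaSupp k').obj F) :
    F.obj.map (φE k').op (ιK k' F a) = 0 := by
  have h1 : φE k' = (kE k').inv ≫ toTop (mkO k') := hom_top_ext _ _
  rw [h1, map_comp_apply, map_ιK]
  exact map_zero _

lemma w : α j k' j' hfac ≫ β j k' j' hfac = 0 := by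
  ext F a
  apply ιK_injective j' ((res k').obj F)
  change ιK j' _ ((β j k' j' hfac).app F ((α j k' j' hfac).app F a)) = ιK j' _ 0
  rw [β_apply, α_apply, map_φE_ιK]
  exact (map_zero _).symm

/-- `mkO j ⟶ (pj k').obj (mkO j')`. -/
def cU : mkO j ⟶ (pj k').obj (mkO j') :=
  MorphismProperty.Over.homMk (𝟙 U) (by
    change 𝟙 U ≫ j' ≫ k' = j
    rw [Category.id_comp, hfac]) trivial

lemma uE_eq : uE j k' j' hfac = cU j k' j' hfac ≫ (pj k').map (toTop (mkO j')) := by
  apply MorphismProperty.Over.Hom.ext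
  change j' = 𝟙 U ≫ (toTop (mkO j')).left
  rw [Category.id_comp, toTop_left]
  rfl

lemma mono_α_app (F : EtCoh.Ab X) : Function.Injective ((α j k' j' hfac).app F) := by
  intro a b hab
  apply ιK_injective k' F
  rw [← α_apply j k' j' hfac F a, ← α_apply j k' j' hfac F b, hab]

lemma exact_app (F : EtCoh.Ab X) (t : (EtDual.gammaSupp j).obj F)
    (ht : (β j k' j' hfac).app F t = 0) : ∃ a, (α j k' j' hfac).app F a = t := by
  have h0 : F.obj.map (φE k').op (ιK j F t) = 0 := by
    rw [← β_apply j k' j' hfac F t, ht]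
    exact map_zero _
  have h1 : toTop (mkO k') = (kE k').hom ≫ φE k' := hom_top_ext _ _
  obtain ⟨a, ha⟩ := exists_ιK_eq k' F (ιK j F t) (by
    rw [h1, map_comp_apply, h0]
    exact map_zero _)
  refine ⟨a, ιK_injective j F ?_⟩
  rw [α_apply, ha]

lemma epi_β_app (I : EtCoh.Ab X) [Injective I] :
    Function.Surjective ((β j k' j' hfac).app I) := by
  intro t'
  obtain ⟨s, hs⟩ := surjective_res_of_injective I (φE k') (ιK j' ((res k').obj I) t')
  have h1 : toTop (mkO j) = uE j k' j' hfac ≫ φE k' := hom_top_ext _ _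
  have h2 : I.obj.map ((pj k').map (toTop (mkO j'))).op (ιK j' ((res k').obj I) t') = 0 :=
    map_ιK j' ((res k').obj I) t'
  obtain ⟨t, ht⟩ := exists_ιK_eq j I s (by
    rw [h1, map_comp_apply, hs, uE_eq, map_comp_apply, h2]
    exact map_zero _)
  refine ⟨t, ιK_injective j' ((res k').obj I) ?_⟩
  rw [β_apply, ht]
  exact hs

lemma hex (I : EtCoh.Ab X) (hI : Injective I) :
    (ShortComplex.mk ((α j k' j' hfac).app I) ((β j k' j' hfac).app I)
      (KerSeq.w_app _ _ (w j k' j' hfac) I)).ShortExact := by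
  have hm : Mono ((α j k' j' hfac).app I) :=
    (AddCommGrpCat.mono_iff_injective _).2 (mono_α_app j k' j' hfac I)
  have he : Epi ((β j k' j' hfac).app I) :=
    (AddCommGrpCat.epi_iff_surjective _).2 (epi_β_app j k' j' hfac I)
  refine ShortComplex.ShortExact.mk' ?_ hm he
  rw [ShortComplex.ab_exact_iff]
  intro t ht
  exact exact_app j k' j' hfac I t ht

include hfac in
/-- If the cohomology with supports in `Z` vanishes in degrees `i` and `i + 1`, then
`H^i_Y(X, F) ≅ H^i_{Y ∩ X'}(X', F|X')`. -/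
theorem nonempty_HY_iso_of_isZero (F : EtCoh.Ab X) (i : ℕ)
    (h0 : IsZero ((EtDual.HY k' i).obj F)) (h1 : IsZero ((EtDual.HY k' (i + 1)).obj F)) :
    Nonempty ((EtDual.HY j i).obj F ≅ (EtDual.HY j' i).obj ((res k').obj F)) := by
  obtain ⟨e1⟩ := nonempty_rightDerived_iso (α j k' j' hfac) (β j k' j' hfac) (w j k' j' hfac)
    (hex j k' j' hfac) F i h0 h1
  obtain ⟨e2⟩ := DimShift.nonempty_rightDerived_comp_iso (res k') (EtDual.gammaSupp j')
    (res k' ⋙ EtDual.gammaSupp j') (Iso.refl _) (fun I hI => injective_res k' I) i F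
    (fun q => isZero_rightDerived_succ_of_exact _ q F)
  exact ⟨e1 ≪≫ e2.symm⟩

/-- Vanishing of the local cohomology sheaves in degrees `< n` implies vanishing of the local
cohomology groups in degrees `< n`. -/
theorem isZero_HY_of_isZero_locCoh [EtCoh.BCCont k'] (F : EtCoh.Ab X) (n : ℕ)
    (h : ∀ q, q < n → IsZero ((EtDual.locCoh k' q).obj F)) (q : ℕ) (hq : q < n) :
    IsZero ((EtDual.HY k' q).obj F) :=
  isZero_rightDerived_comp (EtDual.secSupp k') (Γf X) acyclicClass_Γ
    (fun I _ => acyclicAll_secSupp_of_injective k' I) F n h q hq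

end

end Groth.Agent.Lib.Helper22.EtLoc.TripleSupp
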